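import Mathlib
import Cfsg.Agent.Nodes.OppDec

/-!
Involutions of a group with a root group datum are conjugate into `N` (helper83).

* `exists_conj_rp` : every `t` with `t * t = 1` in `GG` is conjugate in `GG` to a representative of some `w ∈ W` with
  `w α_i = α_i` or `w α_i < 0` for all `i` (choose the conjugate in `B w B` with `w` of maximal length);
* `conj_of_rp` : two elements `g`, `g'` over the same `w` with `g * g = g' * g' = 1` are conjugate under `T` if `T` has
  odd order.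
-/

set_option autoImplicit false
set_option linter.unusedSectionVars false

namespace Cfsg.Agent.H83.Disp

open CoxeterSystem Cfsg.Agent.ChevalleyStructure.CoxeterGeom Cfsg.Agent.Tits.Roots Cfsg.Agent.Tits.Core
  Cfsg.Agent.Tits.Exchange Cfsg.Agent.Nodes.Reps Cfsg.Agent.Nodes.BNOf Cfsg.Agent.Nodes.StabComb
  Cfsg.Agent.Nodes.Bruhat Cfsg.Agent.Nodes.OppDec
open scoped commutatorElement

variable {I W Y : Type*} [Fintype I] [DecidableEq I] [Group W] [Group Y] {M : CoxeterMatrix I}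
  {cs : CoxeterSystem M W} {A : I → I → ℤ} {h : IsCartan M A} {p : ℕ} {T : Subgroup Y} {n : I → Y}
  {X : (I → ℤ) → Subgroup Y}

/-- `w α_i = α_i` or `w α_i < 0` for all `i`. -/
def Ext (cs : CoxeterSystem M W) (h : IsCartan M A) (w : W) : Prop :=
  ∀ i, rep cs h w (sr i) = sr i ∨ rep cs h w (sr i) ≤ 0

/-- the nodes fixed by `w` -/
def FixJ (cs : CoxeterSystem M W) (h : IsCartan M A) (w : W) : Set I := {i | rep cs h w (sr i) = sr i}

theorem eq_sum (x : I → ℤ) : x = ∑ k, x k • (sr k : I → ℤ) := by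
  funext k
  rw [Finset.sum_apply, Finset.sum_eq_single k (fun b _ hb => by
    rw [Pi.smul_apply, sr_ne hb.symm, smul_zero]) (by simp), Pi.smul_apply, sr_self, smul_eq_mul, mul_one]

/-- roots supported on the fixed nodes are fixed -/
theorem rep_fix {w : W} {x : I → ℤ} (hx : ∀ k, k ∉ FixJ cs h w → x k = 0) : rep cs h w x = x := by
  conv_lhs => rw [eq_sum x]
  conv_rhs => rw [eq_sum x]
  rw [map_sum]
  refine Finset.sum_congr rfl fun k _ => ?_
  rw [map_smul]
  by_cases hk : k ∈ FixJ cs h w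
  · have hk' : rep cs h w (sr k) = sr k := hk
    rw [hk']
  · rw [hx k hk, zero_smul, zero_smul]

/-- the positive roots staying positive are those supported on the fixed nodes -/
theorem PW_eq {w : W} (hw : Ext cs h w) : PW cs h w = PosJ cs h (FixJ cs h w) := by
  classical
  ext x
  constructor
  · rintro ⟨hx, h0, h1⟩
    refine ⟨hx, h0, ?_⟩
    by_contra hcon
    push Not at hcon
    obtain ⟨k, hk, hk0⟩ := hcon
    have hkpos : 0 < x k := lt_of_le_of_ne (h0 k) (Ne.symm hk0)
    let f : (I → ℤ) → ℤ := fun y => ∑ j ∈ Finset.univ.filter (fun j => j ∉ FixJ cs h w), y j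
    have hf : ∀ y : I → ℤ, f y = ∑ j ∈ Finset.univ.filter (fun j => j ∉ FixJ cs h w), y j := fun _ => rfl
    have hneg : ∀ l, l ∉ FixJ cs h w → f (rep cs h w (sr l)) < 0 := by
      intro l hl
      have hl1 : rep cs h w (sr l) ≤ 0 := (hw l).resolve_left hl
      have h2 : ∃ j, j ∉ FixJ cs h w ∧ rep cs h w (sr l) j < 0 := by
        by_contra h3
        push Not at h3
        have h4 : rep cs h w (rep cs h w (sr l)) = rep cs h w (sr l) :=
          rep_fix fun j hj => le_antisymm (hl1 j) (h3 j hj)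
        exact hl (rep_injective_apply cs h w h4)
      obtain ⟨j, hj, hj0⟩ := h2
      rw [hf]
      refine Finset.sum_neg' (fun j _ => hl1 j) ⟨j, ?_, hj0⟩
      simp [hj]
    have hfix : ∀ l, l ∈ FixJ cs h w → f (rep cs h w (sr l)) = 0 := by
      intro l hl
      have hl' : rep cs h w (sr l) = sr l := hl
      rw [hf, hl']
      refine Finset.sum_eq_zero fun j hj => ?_
      rw [Finset.mem_filter] at hj
      exact sr_ne (by rintro rfl; exact hj.2 hl)
    have hlin : f (rep cs h w x) = ∑ l, x l * f (rep cs h w (sr l)) := by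
      conv_lhs => rw [eq_sum x, map_sum]
      simp only [hf, map_smul, Finset.sum_apply, Pi.smul_apply, smul_eq_mul]
      rw [Finset.sum_comm]
      exact Finset.sum_congr rfl fun l _ => by rw [Finset.mul_sum]
    have h5 : f (rep cs h w x) < 0 := by
      rw [hlin]
      refine Finset.sum_neg' (fun l _ => ?_) ⟨k, Finset.mem_univ k, mul_neg_of_pos_of_neg hkpos (hneg k hk)⟩
      by_cases hl : l ∈ FixJ cs h w
      · rw [hfix l hl, mul_zero]
      · exact mul_nonpos_of_nonneg_of_nonpos (h0 l) (hneg l hl).le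
    have h6 : 0 ≤ f (rep cs h w x) := by
      rw [hf]
      exact Finset.sum_nonneg fun j _ => h1 j
    linarith
  · rintro ⟨hx, h0, h1⟩
    exact ⟨hx, h0, by rw [rep_fix h1]; exact h0⟩

/-- `w` commutes with the simple reflections it fixes -/
theorem simple_comm [Finite W] {w : W} {i : I} (hi : rep cs h w (sr i) = sr i) :
    cs.simple i * w = w * cs.simple i := by
  have := Fintype.ofFinite W
  apply rep_injective cs h
  apply LinearMap.ext
  intro y
  show rep cs h (cs.simple i * w) y = rep cs h (w * cs.simple i) y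
  have h1 : pairing A i (rep cs h w y) = pairing A i y := by
    have h2 := two_form cs h i (rep cs h w y)
    have h3 : form cs h (rep cs h w y) (sr i) = form cs h y (sr i) := by
      conv_lhs => rw [← hi]
      exact form_rep cs h w y (sr i)
    rw [h3, two_form cs h i y] at h2
    exact (mul_right_cancel₀ (form_pos cs h (sr_ne_zero i)).ne' h2).symm
  rw [rep_mul_apply, rep_mul_apply, rep_simple_eq, rep_simple_eq, map_sub, map_smul, hi, h1]

theorem comm_of_mem_WJ [Finite W] {w v : W} (hv : v ∈ WJ cs (FixJ cs h w)) : v * w = w * v := by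
  unfold WJ at hv
  induction hv using Subgroup.closure_induction with
  | mem x hx =>
    obtain ⟨i, hi, rfl⟩ := hx
    exact simple_comm hi
  | one => rw [one_mul, mul_one]
  | mul x y _ _ hx hy => rw [mul_assoc, hy, ← mul_assoc, hx, mul_assoc]
  | inv x _ hx =>
    rw [inv_mul_eq_iff_eq_mul, ← mul_assoc, hx, mul_assoc, mul_inv_cancel, mul_one]

variable (R : RGD cs h p T n X)

include R

/-- conjugate into `U k` -/
theorem exists_conj_form [Finite W] {w : W} {t : Y} (ht : Cell R.nsys cs h X w t) :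
    ∃ b ∈ RGD.B cs h T X, ∃ u ∈ RGD.Sup X (RGD.Pos cs h), ∃ g, Rp cs R.nsys w g ∧ b * t * b⁻¹ = u * g := by
  obtain ⟨b₁, hb₁, k, hk, b₂, hb₂, rfl⟩ := ht
  obtain ⟨s, hs, u, hu, e⟩ := R.mem_B.1 (inv_mem (mul_mem hb₂ hb₁))
  refine ⟨b₂, hb₂, u⁻¹, inv_mem hu, s⁻¹ * k, ?_, ?_⟩
  · have := (rp_of_mem (cs := cs) (hN := R.nsys) (inv_mem hs)).mul hk
    rwa [one_mul] at this
  · have e' : b₂ * b₁ = u⁻¹ * s⁻¹ := by
      rw [← inv_inv (b₂ * b₁), e]; group
    calc b₂ * (b₁ * k * b₂) * b₂⁻¹ = (b₂ * b₁) * k := by group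
      _ = u⁻¹ * (s⁻¹ * k) := by rw [e', mul_assoc]

/-- an involution `u g` over `w`: `w * w = 1` and `u` lies in the join over the positive roots staying positive -/
theorem form_facts [Finite W] {w : W} {u g : Y} (hu : u ∈ RGD.Sup X (RGD.Pos cs h)) (hg : Rp cs R.nsys w g)
    (h2 : (u * g) * (u * g) = 1) : w * w = 1 ∧ u ∈ RGD.Sup X (PW cs h w) := by
  have hc : Cell R.nsys cs h X w (u * g) := (cell_of_rp hg).mul_left (RGD.U_le_B hu)
  have hinv : (u * g)⁻¹ = u * g := inv_eq_of_mul_eq_one_left h2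
  have hc' := hc.inv
  rw [hinv] at hc'
  have hww := Cell.unique R hc hc'
  have h3 : w * w = 1 := by
    nth_rewrite 1 [hww]
    exact inv_mul_cancel w
  refine ⟨h3, ?_⟩
  have hgg : g * g ∈ T := by
    have := hg.mul hg
    rw [h3] at this
    exact this.mem_of_one
  have h4 : g⁻¹⁻¹ * u * g⁻¹ ∈ RGD.B cs h T X := by
    have : g⁻¹⁻¹ * u * g⁻¹ = u⁻¹ * (g * g)⁻¹ := by
      have e : u * g * u * g = 1 := by rw [← mul_assoc] at h2; exact h2
      calc g⁻¹⁻¹ * u * g⁻¹ = u⁻¹ * (u * g * u * g) * (g * g)⁻¹ := by group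
        _ = _ := by rw [e, mul_one]
    rw [this]
    exact mul_mem (inv_mem (RGD.U_le_B hu)) (RGD.T_le_B (inv_mem hgg))
  have h5 := mem_PW_of_conj R hg.inv hu h4
  rwa [inv_inv] at h5

/-- `w` has maximal length among the cells meeting the class of `t` -/
def Mx (hN : NSys M T n) (cs : CoxeterSystem M W) (h : IsCartan M A) (X : (I → ℤ) → Subgroup Y) (t : Y) (w : W) :
    Prop := ∀ y ∈ GG cs h T X, ∀ v, Cell hN cs h X v (y * t * y⁻¹) → cs.length v ≤ cs.length w

omit R in
theorem Mx.conj {hN : NSys M T n} {t : Y} {w : W} (hM : Mx hN cs h X t w) {y : Y} (hy : y ∈ GG cs h T X) :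
    Mx hN cs h X (y * t * y⁻¹) w := by
  intro z hz v hv
  refine hM (z * y) (mul_mem hz hy) v ?_
  have : z * (y * t * y⁻¹) * z⁻¹ = z * y * t * (z * y)⁻¹ := by group
  rwa [this] at hv

theorem n_mem_GG (i : I) : n i ∈ GG cs h T X := NN_le_GG R ⟨_, rp_simple cs R.nsys i⟩

theorem rp_mem_GG {w : W} {g : Y} (hg : Rp cs R.nsys w g) : g ∈ GG cs h T X := NN_le_GG R ⟨_, hg⟩

/-- the cell of maximal length is extremal -/
theorem ext_of_mx [Finite W] {w : W} {u g : Y} (hu : u ∈ RGD.Sup X (RGD.Pos cs h)) (hg : Rp cs R.nsys w g)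
    (h2 : (u * g) * (u * g) = 1) (hM : Mx R.nsys cs h X (u * g) w) : Ext cs h w := by
  intro i
  by_contra hcon
  push Not at hcon
  obtain ⟨h3, h4⟩ := hcon
  obtain ⟨hww, hu'⟩ := form_facts R hu hg h2
  have hwinv : w⁻¹ = w := inv_eq_of_mul_eq_one_left hww
  have hpos : 0 ≤ rep cs h w (sr i) := by
    rcases ((isRoot_sr cs h i).act w).pos_or_neg with h5 | h5
    · exact h5
    · exact absurd h5 h4
  have hroot : IsRoot cs h (rep cs h w (sr i)) := (isRoot_sr cs h i).act w
  -- lengths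
  have l1 : cs.length (w * cs.simple i) = cs.length w + 1 := by
    have := (lt_iff' cs h w i).2 hpos
    have h6 := cs.length_mul_simple w i
    omega
  have l2 : cs.length (cs.simple i * (w * cs.simple i)) = cs.length (w * cs.simple i) + 1 := by
    have h5 : 0 ≤ rep cs h (w * cs.simple i)⁻¹ (sr i) := by
      rw [mul_inv_rev, cs.inv_simple, hwinv, rep_mul_apply]
      exact hroot.simple_nonneg hpos i h3
    have h6 := (lt_iff' cs h (w * cs.simple i)⁻¹ i).2 h5
    have h7 : (w * cs.simple i)⁻¹ * cs.simple i = (cs.simple i * (w * cs.simple i))⁻¹ := by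
      rw [mul_inv_rev (cs.simple i), cs.inv_simple]
    rw [h7, cs.length_inv, cs.length_inv] at h6
    have h8 := cs.length_simple_mul (w * cs.simple i) i
    omega
  -- the conjugate
  have c1 : Cell R.nsys cs h X w (u * g) := (cell_of_rp hg).mul_left (RGD.U_le_B hu)
  have c2 : Cell R.nsys cs h X (cs.simple i) (n i)⁻¹ := by
    have := (cell_of_rp (X := X) (h := h) (rp_simple cs R.nsys i)).inv
    rwa [inv_simple] at this
  have c3 : Cell R.nsys cs h X (w * cs.simple i) (u * g * (n i)⁻¹) :=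
    Cell.mul_of_length R (by rw [l1, cs.length_simple]) c1 c2
  have c4 : Cell R.nsys cs h X (cs.simple i * (w * cs.simple i)) (n i * (u * g * (n i)⁻¹)) :=
    Cell.mul_of_length R (by rw [l2, cs.length_simple, add_comm]) (cell_of_rp (rp_simple cs R.nsys i)) c3
  have h5 := hM (n i) (n_mem_GG R i) _ (by rw [mul_assoc]; exact c4)
  rw [l2, l1] at h5
  omega

/-- the `α_i`-component is trivial for the fixed nodes -/
theorem comp_eq_one [Finite W] {w : W} {u g : Y} (hg : Rp cs R.nsys w g)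
    (hu : u ∈ RGD.Sup X (PW cs h w)) (hM : Mx R.nsys cs h X (u * g) w) {i : I} (hi : rep cs h w (sr i) = sr i) :
    u ∈ RGD.Sup X (PW cs h w \ {sr i}) := by
  obtain ⟨r, hr, x, hx, rfl⟩ := exists_mul_PW R (w := w) (i := i) (by rw [hi]; exact sr_nonneg i) hu
  by_cases hx1 : x = 1
  · rw [hx1, mul_one]; exact hr
  exfalso
  have h1 : n i * x * (n i)⁻¹ ∈ X (-sr i) := by
    have := R.conj_mem (rp_simple cs R.nsys i) (isRoot_sr cs h i) hx
    rwa [rep_simple_sr] at this
  have h2 : n i * x * (n i)⁻¹ ≠ 1 := fun h3 => hx1 (mul_eq_left.1 (mul_inv_eq_one.1 h3))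
  obtain ⟨a, ha, s, hs, c, hc, e⟩ := R.rk1 i _ h1 h2
  have hrU : n i * r * (n i)⁻¹ ∈ RGD.Sup X (RGD.Pos cs h) := by
    refine conj_mem_Sup R (rp_simple cs R.nsys i) (fun x hx => hx.1.1) (fun x hx => ?_) hr
    exact ⟨hx.1.1.act _, hx.1.1.simple_nonneg hx.1.2.1 i hx.2⟩
  have haB := RGD.X_le_B (T := T) (isRoot_sr cs h i) (sr_nonneg i) ha
  have hcB := RGD.X_le_B (T := T) (isRoot_sr cs h i) (sr_nonneg i) hc
  have hsB := RGD.T_le_B (cs := cs) (h := h) (X := X) hs
  have hg' : Rp cs R.nsys w (n i * g * (n i)⁻¹) := by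
    have := ((rp_simple cs R.nsys i).mul hg).mul (rp_simple cs R.nsys i).inv
    rwa [inv_simple, simple_comm hi, mul_assoc, simple_mul_simple_self, mul_one] at this
  have hlen : cs.length (cs.simple i * w) = cs.length (cs.simple i) + cs.length w := by
    have h3 : 0 ≤ rep cs h w (sr i) := by rw [hi]; exact sr_nonneg i
    have h4 := (lt_iff' cs h w i).2 h3
    have h5 := cs.length_mul_simple w i
    rw [simple_comm hi, cs.length_simple]
    omega
  have c1 : Cell R.nsys cs h X w (c * (n i * g * (n i)⁻¹)) := (cell_of_rp hg').mul_left hcB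
  have c2 : Cell R.nsys cs h X (cs.simple i * w) (n i * (c * (n i * g * (n i)⁻¹))) :=
    Cell.mul_of_length R hlen (cell_of_rp (rp_simple cs R.nsys i)) c1
  have c3 := c2.mul_left (mul_mem (RGD.U_le_B hrU) (mul_mem haB hsB))
  have e2 : n i * r * (n i)⁻¹ * (a * s) * (n i * (c * (n i * g * (n i)⁻¹))) = n i * (r * x * g) * (n i)⁻¹ := by
    calc n i * r * (n i)⁻¹ * (a * s) * (n i * (c * (n i * g * (n i)⁻¹)))
        = (n i * r * (n i)⁻¹) * (a * s * n i * c) * (n i * g * (n i)⁻¹) := by group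
      _ = n i * (r * x * g) * (n i)⁻¹ := by rw [← e]; group
  rw [e2] at c3
  have h5 := hM (n i) (n_mem_GG R i) _ c3
  rw [hlen, cs.length_simple] at h5
  omega

/-- conjugation by representatives of `W_J` stays in the normal form -/
theorem conj_in_PW [Finite W] {w : W} {u g : Y} (hg : Rp cs R.nsys w g)
    (hu : u ∈ RGD.Sup X (PW cs h w)) (hM : Mx R.nsys cs h X (u * g) w) {v : W} (hv : v ∈ WJ cs (FixJ cs h w))
    {k : Y} (hk : Rp cs R.nsys v k) : k * u * k⁻¹ ∈ RGD.Sup X (PW cs h w) := by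
  obtain ⟨ω, hω, rfl⟩ := exists_word_of_mem_WJ cs hv
  clear hv
  induction ω generalizing k with
  | nil =>
    rw [wordProd_nil] at hk
    have hkT := hk.mem_of_one
    exact (Subgroup.mem_normalizer_iff.1 (R.T_le_normalizer (fun x hx => hx.1) hkT) u).1 hu
  | cons i ω ih =>
    have hω' : ∀ j ∈ ω, j ∈ FixJ cs h w := fun j hj => hω j (by simp [hj])
    have hi : rep cs h w (sr i) = sr i := hω i (by simp)
    rw [wordProd_cons] at hk
    set k' : Y := (n i)⁻¹ * k with hk'
    have h1 : Rp cs R.nsys (cs.wordProd ω) k' := by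
      have := (rp_simple cs R.nsys i).inv.mul hk
      rwa [inv_mul_cancel_left] at this
    have h2 := ih hω' h1
    have hvJ : cs.wordProd ω ∈ WJ cs (FixJ cs h w) := wordProd_mem_WJ cs hω'
    have hgk : Rp cs R.nsys w (k' * g * k'⁻¹) := by
      have := (h1.mul hg).mul h1.inv
      rwa [comm_of_mem_WJ hvJ, mul_assoc, mul_inv_cancel, mul_one] at this
    have hM' : Mx R.nsys cs h X (k' * u * k'⁻¹ * (k' * g * k'⁻¹)) w := by
      have := hM.conj (rp_mem_GG R h1)
      have e : k' * (u * g) * k'⁻¹ = k' * u * k'⁻¹ * (k' * g * k'⁻¹) := by group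
      rwa [e] at this
    have h3 := comp_eq_one R hgk h2 hM' hi
    have e : k * u * k⁻¹ = n i * (k' * u * k'⁻¹) * (n i)⁻¹ := by rw [hk']; group
    rw [e]
    refine conj_mem_Sup R (rp_simple cs R.nsys i) (fun x hx => hx.1.1) (fun x hx => ?_) h3
    refine ⟨hx.1.1.act _, hx.1.1.simple_nonneg hx.1.2.1 i hx.2, ?_⟩
    rw [← rep_mul_apply, ← simple_comm hi, rep_mul_apply]
    refine (hx.1.1.act w).simple_nonneg hx.1.2.2 i ?_
    intro h4
    rw [← hi] at h4
    exact hx.2 (rep_injective_apply cs h w h4)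

/-- **Every involution is conjugate into `N`.** -/
theorem exists_conj_rp [Finite W] {t : Y} (ht : t ∈ GG cs h T X) (h2 : t * t = 1) :
    ∃ y ∈ GG cs h T X, ∃ w, Ext cs h w ∧ w * w = 1 ∧ Rp cs R.nsys w (y * t * y⁻¹) := by
  classical
  -- the maximal cell
  let S : Set W := {w | ∃ y ∈ GG cs h T X, Cell R.nsys cs h X w (y * t * y⁻¹)}
  have hS : S.Nonempty := by
    obtain ⟨w, hw⟩ := (mem_GG R).1 ht
    exact ⟨w, 1, one_mem _, by rw [one_mul, inv_one, mul_one]; exact hw⟩
  obtain ⟨w, ⟨y, hy, hc⟩, hmax⟩ := Set.exists_max_image S (fun w => cs.length w) (Set.toFinite S) hS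
  obtain ⟨b, hb, u, hu, g, hg, e⟩ := exists_conj_form R hc
  have hby : b * y ∈ GG cs h T X := mul_mem (B_le_GG hb) hy
  have e' : (b * y) * t * (b * y)⁻¹ = u * g := by rw [← e]; group
  have h2' : (u * g) * (u * g) = 1 := by
    rw [← e']
    calc (b * y * t * (b * y)⁻¹) * (b * y * t * (b * y)⁻¹) = b * y * (t * t) * (b * y)⁻¹ := by group
      _ = 1 := by rw [h2]; group
  have hM : Mx R.nsys cs h X (u * g) w := by
    intro z hz v hv
    refine hmax v ⟨z * (b * y), mul_mem hz hby, ?_⟩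
    have : z * (b * y) * t * (z * (b * y))⁻¹ = z * (u * g) * z⁻¹ := by rw [← e']; group
    rw [this]; exact hv
  have hE := ext_of_mx R hu hg h2' hM
  obtain ⟨hww, huP⟩ := form_facts R hu hg h2'
  -- `u = 1`
  have hL : IsLongest cs (FixJ cs h w) (wJ cs (FixJ cs h w)) := isLongest_wJ cs (FixJ cs h w)
  obtain ⟨k, hk⟩ := exists_rp cs R.nsys (wJ cs (FixJ cs h w))
  have h3 := conj_in_PW R hg huP hM hL.1 hk
  have h4 : k * u * k⁻¹ ∈ UN cs h X := by
    rw [PW_eq hE] at huP
    exact conj_mem_Sup R hk (S' := Neg cs h) (fun x hx => hx.1)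
      (fun x hx => ⟨hx.1.act _, rep_longest_nonpos hL hx⟩) huP
  have h5 : k * u * k⁻¹ ∈ RGD.Sup X (RGD.Pos cs h) ⊓ UN cs h X :=
    ⟨RGD.Sup_mono (S := PW cs h w) (S' := RGD.Pos cs h) (fun x hx => ⟨hx.1, hx.2.1⟩) h3, h4⟩
  rw [U_inf_UN R, Subgroup.mem_bot] at h5
  have hu1 : u = 1 := mul_eq_left.1 (mul_inv_eq_one.1 h5)
  refine ⟨b * y, hby, w, hE, hww, ?_⟩
  rw [e', hu1, one_mul]
  exact hg

omit R in
/-- Two involutions over the same element of `W` are conjugate under a torus of odd order. -/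
theorem conj_of_rp {hN : NSys M T n} (hodd : (Nat.card T).Coprime 2) {w : W} {g g' : Y} (hg : Rp cs hN w g)
    (hg' : Rp cs hN w g') (h2 : g * g = 1) (h2' : g' * g' = 1) : ∃ s ∈ T, s * g * s⁻¹ = g' := by
  have ha : g * g' ∈ T := by
    have := hg.unique hg'
    rwa [inv_eq_of_mul_eq_one_left h2] at this
  set a := g * g' with hadef
  have hcard : a ^ Nat.card T = 1 := by
    have h3 : (⟨a, ha⟩ : T) ^ Nat.card T = 1 := pow_card_eq_one'
    have h4 := congrArg Subtype.val h3
    rwa [SubgroupClass.coe_pow] at h4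
  obtain ⟨j, hj⟩ : ∃ j, Nat.card T = 2 * j + 1 := by
    have h3 : Odd (Nat.card T) := by
      exact Nat.coprime_two_right.1 hodd
    obtain ⟨j, hj⟩ := h3
    exact ⟨j, hj⟩
  have hginv : g⁻¹ = g := inv_eq_of_mul_eq_one_left h2
  have hginv' : g'⁻¹ = g' := inv_eq_of_mul_eq_one_left h2'
  -- `g a g = a⁻¹`
  have hga : g * a * g⁻¹ = a⁻¹ := by
    rw [hadef, mul_inv_rev, hginv, hginv']
    calc g * (g * g') * g = (g * g) * g' * g := by group
      _ = g' * g := by rw [h2, one_mul]
  have hgp : ∀ k : ℕ, g * a ^ k * g⁻¹ = (a ^ k)⁻¹ := by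
    intro k
    rw [← conj_pow, hga, inv_pow]
  refine ⟨(a ^ (j + 1))⁻¹, inv_mem (pow_mem ha _), ?_⟩
  have h3 : (a ^ (j + 1))⁻¹ * g = g * a ^ (j + 1) := by
    rw [← hgp (j + 1)]; group
  rw [h3, inv_inv, mul_assoc, ← pow_add]
  have h4 : j + 1 + (j + 1) = Nat.card T + 1 := by omega
  rw [h4, pow_succ, hcard, one_mul, hadef, ← mul_assoc, h2, one_mul]

end Cfsg.Agent.H83.Disp
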