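import Mathlib
import Cfsg.Agent.ChevalleyStructure.Elts
import Cfsg.Prelude.Def_ChevStructure

/-!
Kernel check (helper83): in the commutator formula of a fundamental root and a root orthogonal to it all coefficients
are even.
-/

set_option autoImplicit false

namespace Cfsg.Agent.H83.OrthChk

open Cfsg.Lie Cfsg.Agent.ChevalleyStructure.Elts

/-- the coefficients of the commutator formula for a fundamental root and a root orthogonal to it are even -/
def orthChk (D : ChevalleyDatum) : Bool :=
  (List.range D.rank).all fun i => (List.range D.nroots).all fun s =>
    if D.cartan i s = 0 then (D.commTerms (D.simple i) s).all fun c => c.2.1 % 2 == 0 else true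

theorem orthChk_eq {D : ChevalleyDatum} (hD : InList D) : orthChk D = true := by
  simp only [InList, List.mem_cons, List.not_mem_nil, or_false] at hD
  rcases hD with rfl | rfl | rfl | rfl | rfl | rfl | rfl
  · decide +kernel
  · decide +kernel
  · decide +kernel
  · decide +kernel
  · decide +kernel
  · decide +kernel
  · decide +kernel

end Cfsg.Agent.H83.OrthChk
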