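import Mathlib
import Cfsg.Agent.H83.ChevInv

/-!
Products of root elements over orthogonal lists of roots in characteristic 2, up to conjugacy (helper83).

* `Eqv hD K L L'` : the products `PX hD K L`, `PX hD K L'` are conjugate in `D.group K`;
* `Eqv.word`, `Eqv.perm` : Weyl group and permutations;
* `Eqv.d4` : the relation `x_a x_b x_c x_d ~ x_a x_b x_c` for four orthogonal roots of a subsystem `D₄`;
* `casc`, `chk`, `exists_casc` : every orthogonal list of `k` roots is, up to a word, in the explicit list
  `casc D (List.range D.rank) k`.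
-/

set_option autoImplicit false
set_option linter.unusedSectionVars false

namespace Cfsg.Agent.H83.OrthRed

open Cfsg.Lie Cfsg.Agent.ChevalleyStructure Cfsg.Agent.ChevalleyStructure.Elts
  Cfsg.Agent.ChevalleyStructure.RootCombGood Cfsg.Agent.H83.ChevInv

universe u

/-! ### The equivalence -/

section Eqv

variable {D : ChevalleyDatum} (hD : InList D) (K : Type u) [Field K] [CharP K 2]

/-- the products over `L` and `L'` are conjugate in `D.group K` -/
def Eqv (L L' : List ℕ) : Prop := ∃ g ∈ D.group K, g * PX hD K L * g⁻¹ = PX hD K L'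

variable {hD K}

theorem Eqv.refl (L : List ℕ) : Eqv hD K L L := ⟨1, one_mem _, by group⟩

theorem Eqv.symm {L L' : List ℕ} (h : Eqv hD K L L') : Eqv hD K L' L := by
  obtain ⟨g, hg, e⟩ := h
  exact ⟨g⁻¹, inv_mem hg, by rw [← e]; group⟩

theorem Eqv.trans {L L' L'' : List ℕ} (h : Eqv hD K L L') (h' : Eqv hD K L' L'') : Eqv hD K L L'' := by
  obtain ⟨g, hg, e⟩ := h
  obtain ⟨k, hk, e'⟩ := h'
  exact ⟨k * g, mul_mem hk hg, by rw [← e', ← e]; group⟩

theorem Eqv.word {w : List ℕ} (hw : ∀ a ∈ w, a < D.rank) {L : List ℕ} (h : ∀ r ∈ L, r < D.nroots) :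
    Eqv hD K L (L.map (RootWord.wact D w)) := by
  have G := RootComb.good_of_mem hD
  induction w with
  | nil =>
    have : L.map (RootWord.wact D []) = L := by
      rw [show (RootWord.wact D []) = id from rfl, List.map_id]
    rw [this]
    exact Eqv.refl L
  | cons i w ih =>
    have hw' : ∀ a ∈ w, a < D.rank := fun a ha => hw a (by simp [ha])
    refine (ih hw').trans ⟨nG hD (D.simple i) 1, nG_mem_group hD _ _, ?_⟩
    rw [PX_conj (hw i (by simp)) fun r hr => ?_]
    · rw [List.map_map]; rfl
    · obtain ⟨s, hs, rfl⟩ := List.mem_map.1 hr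
      exact RootWord.wact_lt G hw' (h s hs)

theorem PX_perm {L L' : List ℕ} (h : OL D L) (hp : L.Perm L') : PX hD K L = PX hD K L' := by
  induction hp with
  | nil => rfl
  | cons a _ ih => rw [PX_cons, PX_cons, ih h.tail]
  | swap a b l =>
    have h1 := h.head
    have h2 := h1.2 a (by simp)
    rw [PX_cons, PX_cons, PX_cons, PX_cons, ← mul_assoc, ← mul_assoc,
      comm_orth hD h1.1 (h.lt a (by simp)) h2]
  | trans h₁ h₂ ih₁ ih₂ => rw [ih₁ h, ih₂ (h.perm hD h₁)]

theorem Eqv.perm {L L' : List ℕ} (h : OL D L) (hp : L.Perm L') : Eqv hD K L L' :=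
  ⟨1, one_mem _, by rw [PX_perm h hp]; group⟩

end Eqv

/-! ### The `D₄` relation -/

theorem d4_abs {G : Type*} [Group G] {a b c d z za zb zc zab zac zbc zabc : G}
    (ha : a * a = 1) (hb : b * b = 1) (hc : c * c = 1) (hz : z * z = 1)
    (hab : a * b = b * a) (hac : a * c = c * a) (hbc : b * c = c * b)
    (r1 : a * z * a = z * za) (r2 : b * z * b = z * zb) (r3 : c * z * c = z * zc)
    (r4 : b * za * b = za * zab) (r5 : c * za * c = za * zac) (r6 : c * zb * c = zb * zbc)
    (r7 : c * zab * c = zab * zabc) (r8 : z * zabc * z = zabc * d)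
    (c1 : z * za = za * z) (c2 : z * zb = zb * z) (c3 : z * zc = zc * z) (c4 : z * zab = zab * z)
    (c5 : z * zac = zac * z) (c6 : z * zbc = zbc * z)
    (da : d * a = a * d) (db : d * b = b * d) (dc : d * c = c * d) (dz : d * z = z * d) :
    (z * (a * b * c) * z) * (a * b * c) * (z * (a * b * c) * z)⁻¹ = a * b * c * d := by
  have hainv : a⁻¹ = a := inv_eq_of_mul_eq_one_left ha
  have hbinv : b⁻¹ = b := inv_eq_of_mul_eq_one_left hb
  have hcinv : c⁻¹ = c := inv_eq_of_mul_eq_one_left hc
  have hzinv : z⁻¹ = z := inv_eq_of_mul_eq_one_left hz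
  set t := a * b * c with ht
  have ht' : t = c * b * a := by
    rw [ht, hab, mul_assoc, hac, ← mul_assoc, hbc]
  have htinv : t⁻¹ = t := by
    rw [ht, mul_inv_rev, mul_inv_rev, hainv, hbinv, hcinv, ← mul_assoc, ← ht', ht]
  have htt : t * t = 1 := by nth_rewrite 1 [← htinv]; exact inv_mul_cancel t
  -- `y = t z t`
  have hb' : ∀ x y : G, b * (x * y) * b = (b * x * b) * (b * y * b) := by
    intro x y
    calc b * (x * y) * b = b * x * 1 * y * b := by group
      _ = _ := by rw [← hb]; group
  have hc' : ∀ x y : G, c * (x * y) * c = (c * x * c) * (c * y * c) := by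
    intro x y
    calc c * (x * y) * c = c * x * 1 * y * c := by group
      _ = _ := by rw [← hc]; group
  have hy : t * z * t = z * (zc * (zb * (zbc * (za * (zac * zab))))) * zabc := by
    calc t * z * t = c * (b * (a * z * a) * b) * c := by
          nth_rewrite 1 [ht']
          rw [ht]
          group
      _ = (z * zc) * (zb * zbc) * ((za * zac) * (zab * zabc)) := by
          rw [r1, hb', r2, r4, hc', hc', hc', r3, r6, r5, r7]
      _ = _ := by group
  have hP : z * (zc * (zb * (zbc * (za * (zac * zab))))) = (zc * (zb * (zbc * (za * (zac * zab))))) * z := by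
    have e1 : Commute z zc := c3
    have e2 : Commute z zb := c2
    have e3 : Commute z zbc := c6
    have e4 : Commute z za := c1
    have e5 : Commute z zac := c5
    have e6 : Commute z zab := c4
    exact e1.mul_right (e2.mul_right (e3.mul_right (e4.mul_right (e5.mul_right e6))))
  have hzy : z * (t * z * t) * z = (t * z * t) * d := by
    rw [hy]
    set P := zc * (zb * (zbc * (za * (zac * zab)))) with hPdef
    calc z * (z * P * zabc) * z = z * (z * P) * zabc * z := by group
      _ = z * (P * z) * zabc * z := by rw [hP]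
      _ = z * P * (z * zabc * z) := by group
      _ = z * P * zabc * d := by rw [r8]; group
  have hdt : d * t = t * d := by
    have e1 : Commute d a := da
    have e2 : Commute d b := db
    have e3 : Commute d c := dc
    exact (e1.mul_right e2).mul_right e3
  have hdy : d * (t * z * t) = (t * z * t) * d := by
    have e1 : Commute d t := hdt
    have e2 : Commute d z := dz
    exact (e1.mul_right e2).mul_right e1
  have hyy : (t * z * t) * (t * z * t) = 1 := by
    calc (t * z * t) * (t * z * t) = t * z * (t * t) * z * t := by group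
      _ = t * (z * z) * t := by rw [htt]; group
      _ = 1 := by rw [hz, mul_one, htt]
  have hsinv : (z * t * z)⁻¹ = z * t * z := by
    rw [mul_inv_rev, mul_inv_rev, hzinv, htinv, mul_assoc z t z]
  rw [hsinv]
  -- `s t s = z t z t z t z = (z y z) ... `
  calc z * t * z * t * (z * t * z) = z * (t * z * t) * z * (t * z * t) * t := by
        calc z * t * z * t * (z * t * z) = z * (t * z * t) * z * t * z * (t * t) := by rw [htt]; group
          _ = _ := by group
    _ = (t * z * t) * d * (t * z * t) * t := by rw [hzy]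
    _ = (t * z * t) * (d * (t * z * t)) * t := by group
    _ = (t * z * t) * (t * z * t) * d * t := by rw [hdy]; group
    _ = t * d := by rw [hyy, one_mul, hdt]

section D4

variable (D : ChevalleyDatum)

/-- the commutator of `x_r` and `x_s` is `x_k` in characteristic 2 -/
def add (r s k : ℕ) : Bool :=
  decide (r < D.nroots) && decide (s < D.nroots) && decide (s ≠ r) && decide (s ≠ D.neg r) &&
    match D.commTerms r s with
    | [] => false
    | [c] => decide (c.1 = k) && decide (c.2.1 % 2 = 1)
    | _ :: _ :: _ => false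

/-- `x_r` and `x_s` commute in characteristic 2 -/
def com (r s : ℕ) : Bool :=
  decide (r < D.nroots) && decide (s < D.nroots) && decide (s ≠ r) && decide (s ≠ D.neg r) &&
    (D.commTerms r s).all fun c => decide (c.2.1 % 2 = 0)

variable {D} (hD : InList D) {K : Type u} [Field K] [CharP K 2]

theorem commWord_one (r s : ℕ) :
    wordG hD (D.commWord K r s 1 1) = ((D.commTerms r s).map fun c => xG hD c.1 ((c.2.1 : ℤ) : K)).prod := by
  unfold wordG ChevalleyDatum.commWord
  rw [List.map_map]
  congr 1
  refine List.map_congr_left fun c _ => ?_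
  show xG hD c.1 ((c.2.1 : K) * (-1) ^ c.2.2.1 * 1 ^ c.2.2.2) = _
  rw [CharTwo.neg_eq, one_pow, one_pow, mul_one, mul_one]

theorem cast_even {C : ℤ} (h : C % 2 = 0) : (C : K) = 0 := by
  obtain ⟨k, rfl⟩ := Int.dvd_of_emod_eq_zero h
  rw [Int.cast_mul, Int.cast_ofNat, CharTwo.two_eq_zero, zero_mul]

theorem cast_odd {C : ℤ} (h : C % 2 = 1) : (C : K) = 1 := by
  have h1 : (C - 1) % 2 = 0 := by omega
  have h2 := cast_even (K := K) h1
  rw [Int.cast_sub, Int.cast_one, sub_eq_zero] at h2
  exact h2

theorem xs_xr {r s : ℕ} (hr : r < D.nroots) (hs : s < D.nroots) (hne : s ≠ r) (hne' : s ≠ D.neg r) :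
    xG hD s (1 : K) * xG hD r 1 = xG hD r 1 * xG hD s 1 *
      ((D.commTerms r s).map fun c => xG hD c.1 ((c.2.1 : ℤ) : K)).prod := by
  rw [← commWord_one]
  have h5 := Cfsg.Agent.S1025.result (F := K) D hD r s hr hs hne hne' 1 1
  apply Units.ext
  rw [Units.val_mul, Units.val_mul, Units.val_mul, coe_wordG, coe_xG, coe_xG]
  exact h5

theorem of_add {r s k : ℕ} (h : add D r s k = true) :
    xG hD r (1 : K) * xG hD s 1 * xG hD r 1 = xG hD s 1 * xG hD k 1 := by
  unfold add at h
  rw [Bool.and_eq_true, Bool.and_eq_true, Bool.and_eq_true, Bool.and_eq_true, decide_eq_true_eq, decide_eq_true_eq,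
    decide_eq_true_eq, decide_eq_true_eq] at h
  obtain ⟨⟨⟨⟨hr, hs⟩, hne⟩, hne'⟩, h1⟩ := h
  have h2 := xs_xr hD (K := K) hr hs hne hne'
  rcases hc : D.commTerms r s with _ | ⟨c, _ | ⟨c', l⟩⟩
  · rw [hc] at h1; exact absurd h1 (by simp)
  · rw [hc] at h1 h2
    rw [Bool.and_eq_true, decide_eq_true_eq, decide_eq_true_eq] at h1
    rw [List.map_cons, List.map_nil, List.prod_cons, List.prod_nil, mul_one, cast_odd h1.2, h1.1] at h2
    rw [mul_assoc, h2, ← mul_assoc, ← mul_assoc, xG_sq, one_mul]
  · rw [hc] at h1; exact absurd h1 (by simp)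

theorem of_com {r s : ℕ} (h : com D r s = true) : xG hD r (1 : K) * xG hD s 1 = xG hD s 1 * xG hD r 1 := by
  unfold com at h
  rw [Bool.and_eq_true, Bool.and_eq_true, Bool.and_eq_true, Bool.and_eq_true, decide_eq_true_eq, decide_eq_true_eq,
    decide_eq_true_eq, decide_eq_true_eq] at h
  obtain ⟨⟨⟨⟨hr, hs⟩, hne⟩, hne'⟩, h1⟩ := h
  have h2 := xs_xr hD (K := K) hr hs hne hne'
  rw [List.prod_eq_one, mul_one] at h2
  · exact h2.symm
  · intro x hx
    obtain ⟨c, hc, rfl⟩ := List.mem_map.1 hx
    rw [List.all_eq_true] at h1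
    rw [cast_even (of_decide_eq_true (h1 c hc)), xG_zero]

variable (D) in
/-- check of the `D₄` relation for `a, b, c, d = a + b + c + 2z` -/
def d4chk (a b c z d : ℕ) : Bool :=
  let k : ℕ → ℕ → ℕ := fun r s => ((D.commTerms r s).map Prod.fst).headD 0
  let za := k a z
  let zb := k b z
  let zc := k c z
  let zab := k b za
  let zac := k c za
  let zbc := k c zb
  let zabc := k c zab
  com D a b && com D a c && com D b c &&
  add D a z za && add D b z zb && add D c z zc && add D b za zab && add D c za zac && add D c zb zbc &&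
  add D c zab zabc && add D z zabc d &&
  com D z za && com D z zb && com D z zc && com D z zab && com D z zac && com D z zbc &&
  com D d a && com D d b && com D d c && com D d z

theorem d4_conj {a b c z d : ℕ} (h : d4chk D a b c z d = true) :
    (xG hD z 1 * (xG hD a 1 * xG hD b 1 * xG hD c 1) * xG hD z 1) * (xG hD a (1 : K) * xG hD b 1 * xG hD c 1) *
      (xG hD z 1 * (xG hD a 1 * xG hD b 1 * xG hD c 1) * xG hD z 1)⁻¹ =
    xG hD a 1 * xG hD b 1 * xG hD c 1 * xG hD d 1 := by
  unfold d4chk at h
  simp only [Bool.and_eq_true] at h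
  obtain ⟨⟨⟨⟨⟨⟨⟨⟨⟨⟨⟨⟨⟨⟨⟨⟨⟨⟨⟨⟨h1, h2⟩, h3⟩, h4⟩, h5⟩, h6⟩, h7⟩, h8⟩, h9⟩, h10⟩, h11⟩, h12⟩, h13⟩, h14⟩, h15⟩,
    h16⟩, h17⟩, h18⟩, h19⟩, h20⟩, h21⟩ := h
  exact d4_abs (xG_sq hD a 1) (xG_sq hD b 1) (xG_sq hD c 1) (xG_sq hD z 1)
    (of_com hD h1) (of_com hD h2) (of_com hD h3)
    (of_add hD h4) (of_add hD h5) (of_add hD h6) (of_add hD h7) (of_add hD h8) (of_add hD h9) (of_add hD h10)
    (of_add hD h11) (of_com hD h12) (of_com hD h13) (of_com hD h14) (of_com hD h15) (of_com hD h16)
    (of_com hD h17) (of_com hD h18) (of_com hD h19) (of_com hD h20) (of_com hD h21)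

/-- **The `D₄` relation.** -/
theorem Eqv.d4 {a b c z d : ℕ} (h : d4chk D a b c z d = true) {L : List ℕ} (hL : OL D (a :: b :: c :: d :: L))
    (hz : z < D.nroots) (hzL : ∀ e ∈ L, Orth D z e) : Eqv hD K (a :: b :: c :: d :: L) (a :: b :: c :: L) := by
  refine Eqv.symm ?_
  set s : GL D.Idx K := xG hD z 1 * (xG hD a 1 * xG hD b 1 * xG hD c 1) * xG hD z 1 with hs
  refine ⟨s, ?_, ?_⟩
  · have := xG_mem_group hD (F := K)
    exact mul_mem (mul_mem (this _ _) (mul_mem (mul_mem (this _ _) (this _ _)) (this _ _))) (this _ _)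
  · have h1 : s * PX hD K L = PX hD K L * s := by
      refine comm_PX fun e he => ?_
      have he' := hL.lt e (by simp [he])
      have q1 := hL.head
      have q2 := hL.tail.head
      have q3 := hL.tail.tail.head
      have e1 : Commute (xG hD z (1 : K)) (xG hD e 1) := comm_orth hD hz he' (hzL e he) 1 1
      have e2 : Commute (xG hD a (1 : K)) (xG hD e 1) := comm_orth hD q1.1 he' (q1.2 e (by simp [he])) 1 1
      have e3 : Commute (xG hD b (1 : K)) (xG hD e 1) := comm_orth hD q2.1 he' (q2.2 e (by simp [he])) 1 1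
      have e4 : Commute (xG hD c (1 : K)) (xG hD e 1) := comm_orth hD q3.1 he' (q3.2 e (by simp [he])) 1 1
      exact (e1.mul_left ((e2.mul_left e3).mul_left e4)).mul_left e1
    have h2 := d4_conj hD (K := K) h
    rw [← hs] at h2
    simp only [PX_cons]
    calc s * (xG hD a 1 * (xG hD b 1 * (xG hD c 1 * PX hD K L))) * s⁻¹
        = (s * (xG hD a 1 * xG hD b 1 * xG hD c 1) * s⁻¹) * (s * PX hD K L * s⁻¹) := by group
      _ = (xG hD a 1 * xG hD b 1 * xG hD c 1 * xG hD d 1) * PX hD K L := by
        rw [h2, h1, mul_inv_cancel_right]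
      _ = _ := by group

end D4

/-! ### Cascades -/

section Casc

variable (D : ChevalleyDatum)

/-- `r` lies in the span of the fundamental roots of `J` -/
def inJ (J : List ℕ) (r : ℕ) : Bool := (List.range D.rank).all fun k => decide (k ∈ J) || decide (co D r k = 0)

/-- `r` is dominant for `J` -/
def domJ (J : List ℕ) (r : ℕ) : Bool := J.all fun j => decide (0 ≤ D.cartan j r)

/-- the `J`-dominant roots in the span of `J` -/
def tops (J : List ℕ) : List ℕ := (List.range D.nroots).filter fun r => inJ D J r && domJ D J r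

/-- the fundamental roots of `J` orthogonal to `m` -/
def down (J : List ℕ) (m : ℕ) : List ℕ := J.filter fun j => decide (D.cartan j m = 0)

/-- roots of the span of `J` orthogonal to a top `m` lie in the span of `down J m`, recursively -/
def chk : ℕ → List ℕ → Bool
  | 0, _ => true
  | k + 1, J => (tops D J).all fun m =>
      (List.range D.nroots).all (fun r => !(inJ D J r && decide (Orth D m r)) || inJ D (down D J m) r) &&
        chk k (down D J m)

/-- the cascades with `k` terms -/
def casc : ℕ → List ℕ → List (List ℕ)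
  | 0, _ => [[]]
  | k + 1, J => (tops D J).flatMap fun m => (casc k (down D J m)).map fun C => m :: C

variable {D}

theorem inJ_iff {J : List ℕ} {r : ℕ} : inJ D J r = true ↔ ∀ k < D.rank, k ∉ J → co D r k = 0 := by
  unfold inJ
  rw [List.all_eq_true]
  constructor
  · intro h k hk hkJ
    have := h k (List.mem_range.2 hk)
    rw [Bool.or_eq_true, decide_eq_true_eq, decide_eq_true_eq] at this
    exact this.resolve_left hkJ
  · intro h k hk
    rw [Bool.or_eq_true, decide_eq_true_eq, decide_eq_true_eq]
    by_cases hkJ : k ∈ J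
    · exact Or.inl hkJ
    · exact Or.inr (h k (List.mem_range.1 hk) hkJ)

theorem inJ_wact (G : Good D) {J : List ℕ} (hJ : ∀ j ∈ J, j < D.rank) {w : List ℕ} (hw : ∀ a ∈ w, a ∈ J) {r : ℕ}
    (hr : r < D.nroots) (h : inJ D J r = true) : inJ D J (RootWord.wact D w r) = true := by
  rw [inJ_iff] at h ⊢
  induction w with
  | nil => exact h
  | cons i w ih =>
    have hw' : ∀ a ∈ w, a ∈ J := fun a ha => hw a (by simp [ha])
    intro k hk hkJ
    rw [RootWord.wact_cons, G.co_reflect (hJ i (hw i (by simp)))
      (RootWord.wact_lt G (fun a ha => hJ a (hw' a ha)) hr) hk, ih hw' k hk hkJ, if_neg, sub_zero]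
    rintro rfl
    exact hkJ (hw k (by simp))

/-- climbing to a dominant root -/
theorem climb (G : Good D) {J : List ℕ} (hJ : ∀ j ∈ J, j < D.rank) : ∀ (k r : ℕ), r < D.nroots → D.nroots ≤ r + k →
    ∃ w : List ℕ, (∀ a ∈ w, a ∈ J) ∧ domJ D J (RootWord.wact D w r) = true := by
  intro k
  induction k with
  | zero => intro r hr h; omega
  | succ k ih =>
    intro r hr h
    by_cases hd : domJ D J r = true
    · exact ⟨[], by simp, hd⟩
    · unfold domJ at hd
      rw [List.all_eq_true] at hd
      push Not at hd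
      obtain ⟨j, hj, hj'⟩ := hd
      rw [ne_eq, decide_eq_true_eq, not_le] at hj'
      have hjr := hJ j hj
      have h1 := G.reflect_lt hjr hr
      have h2 := (G.reflect_lt_iff hjr h1).2 (by
        rw [G.cartan_reflect hjr hr hjr, G.cartan_simple hjr]; omega)
      rw [G.reflect_reflect hjr hr] at h2
      obtain ⟨w, hw, hw'⟩ := ih (D.reflectRoot j r) h1 (by omega)
      refine ⟨w ++ [j], ?_, ?_⟩
      · intro a ha
        rcases List.mem_append.1 ha with ha | ha
        · exact hw a ha
        · rw [List.mem_singleton.1 ha]; exact hj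
      · rw [RootWord.wact_append]; exact hw'

theorem map_wact_append (w v : List ℕ) (L : List ℕ) :
    L.map (RootWord.wact D (w ++ v)) = (L.map (RootWord.wact D v)).map (RootWord.wact D w) := by
  rw [List.map_map]
  refine List.map_congr_left fun r _ => ?_
  rw [RootWord.wact_append]; rfl

theorem OL.map_wact (hD : InList D) {w : List ℕ} (hw : ∀ a ∈ w, a < D.rank) {L : List ℕ} (h : OL D L) :
    OL D (L.map (RootWord.wact D w)) := by
  induction w with
  | nil =>
    have : L.map (RootWord.wact D []) = L := by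
      rw [show (RootWord.wact D []) = id from rfl, List.map_id]
    rw [this]; exact h
  | cons i w ih =>
    have h1 := (ih fun a ha => hw a (by simp [ha])).map_reflect hD (hw i (by simp))
    rw [List.map_map] at h1
    exact h1

/-- **Every orthogonal list is, up to a word, a cascade.** -/
theorem exists_casc (hD : InList D) : ∀ (k : ℕ) (J : List ℕ), (∀ j ∈ J, j < D.rank) → chk D k J = true →
    ∀ L : List ℕ, L.length = k → OL D L → (∀ r ∈ L, inJ D J r = true) →
    ∃ w : List ℕ, (∀ a ∈ w, a ∈ J) ∧ L.map (RootWord.wact D w) ∈ casc D k J := by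
  have G := RootComb.good_of_mem hD
  intro k
  induction k with
  | zero =>
    intro J _ _ L hL _ _
    rw [List.length_eq_zero_iff] at hL
    subst hL
    exact ⟨[], by simp, by simp [casc]⟩
  | succ k ih =>
    intro J hJ hc L hL hO hi
    rcases L with _ | ⟨r, L⟩
    · simp at hL
    have hr := hO.head.1
    obtain ⟨w, hw, hdom⟩ := climb G hJ D.nroots r hr (by omega)
    have hwr : ∀ a ∈ w, a < D.rank := fun a ha => hJ a (hw a ha)
    set m := RootWord.wact D w r with hm
    have hmlt : m < D.nroots := RootWord.wact_lt G hwr hr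
    have hmJ : inJ D J m = true := inJ_wact G hJ hw hr (hi r (by simp))
    have hmtop : m ∈ tops D J := by
      unfold tops
      rw [List.mem_filter, List.mem_range, hmJ, hdom]
      exact ⟨hmlt, rfl⟩
    unfold chk at hc
    rw [List.all_eq_true] at hc
    have h1 := hc m hmtop
    rw [Bool.and_eq_true, List.all_eq_true] at h1
    obtain ⟨h1, h2⟩ := h1
    have hJ' : ∀ j ∈ down D J m, j < D.rank := fun j hj => hJ j (List.mem_of_mem_filter hj)
    have hO' := OL.map_wact hD hwr hO
    rw [List.map_cons, ← hm] at hO'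
    have h3 : ∀ s ∈ L.map (RootWord.wact D w), inJ D (down D J m) s = true := by
      intro s hs
      have h4 := h1 s (List.mem_range.2 (hO'.tail.lt s hs))
      obtain ⟨v, hv, rfl⟩ := List.mem_map.1 hs
      have h5 : inJ D J (RootWord.wact D w v) = true :=
        inJ_wact G hJ hw (hO.tail.lt v hv) (hi v (by simp [hv]))
      rw [h5, decide_eq_true (hO'.head.2 _ hs)] at h4
      simpa using h4
    obtain ⟨w', hw', hC⟩ := ih (down D J m) hJ' h2 (L.map (RootWord.wact D w)) (by simpa using hL) hO'.tail h3
    have hfix : RootWord.wact D w' m = m := by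
      clear hC
      induction w' with
      | nil => rfl
      | cons i w' ih' =>
        rw [RootWord.wact_cons, ih' fun a ha => hw' a (by simp [ha])]
        have h6 := hw' i (by simp)
        unfold down at h6
        rw [List.mem_filter, decide_eq_true_eq] at h6
        exact (G.reflect_eq_iff (hJ i h6.1) hmlt).2 h6.2
    refine ⟨w' ++ w, ?_, ?_⟩
    · intro a ha
      rcases List.mem_append.1 ha with ha | ha
      · exact List.mem_of_mem_filter (hw' a ha)
      · exact hw a ha
    · unfold casc
      rw [map_wact_append, List.map_cons, ← hm, List.map_cons, hfix, List.mem_flatMap]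
      exact ⟨m, hmtop, List.mem_map.2 ⟨_, hC, rfl⟩⟩

theorem inJ_range (r : ℕ) : inJ D (List.range D.rank) r = true := by
  rw [inJ_iff]
  intro k hk hk'
  exact absurd (List.mem_range.2 hk) hk'

variable (hD : InList D) (K : Type u) [Field K] [CharP K 2]

/-- Every orthogonal list is equivalent to a cascade. -/
theorem exists_eqv_casc {k : ℕ} (hc : chk D k (List.range D.rank) = true) {L : List ℕ} (hk : L.length = k)
    (hL : OL D L) : ∃ C ∈ casc D k (List.range D.rank), Eqv hD K L C ∧ OL D C := by
  have hJ : ∀ j ∈ List.range D.rank, j < D.rank := fun j hj => List.mem_range.1 hj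
  obtain ⟨w, hw, hC⟩ := exists_casc hD k _ hJ hc L hk hL fun r _ => inJ_range r
  exact ⟨_, hC, Eqv.word (fun a ha => hJ a (hw a ha)) hL.lt, OL.map_wact hD (fun a ha => hJ a (hw a ha)) hL⟩

end Casc

end Cfsg.Agent.H83.OrthRed
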