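import Mathlib
import Cfsg.Agent.H83.RedGen

/-!
Counting classes of involutions (helper83).

* `ncard_classes` : the number of classes of elements of order 2 from representatives separated by a class function;
* `exists_rep` : every involution of `D.group K` is conjugate to one of the representatives of `allchk`;
* `ncard_chev` : the number of classes of involutions of `D.group K` from the ranks of `y - 1`.
-/

set_option autoImplicit false
set_option linter.unusedSectionVars false

namespace Cfsg.Agent.H83.Count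

open Cfsg.Lie Cfsg.Agent.ChevalleyStructure Cfsg.Agent.ChevalleyStructure.Elts
  Cfsg.Agent.ChevalleyStructure.RootCombGood Cfsg.Agent.H83.ChevInv Cfsg.Agent.H83.OrthRed Cfsg.Agent.H83.RedGen

universe u

theorem ncard_classes {G : Type*} [Group G] {ι : Type*} (s : Finset ι) (e : ι → G) (inv : G → ℕ)
    (hinv : ∀ g h : G, inv (h * g * h⁻¹) = inv g) (hinj : Set.InjOn (fun i => inv (e i)) (s : Set ι))
    (he : ∀ i ∈ s, orderOf (e i) = 2) (hcl : ∀ g : G, orderOf g = 2 → ∃ i ∈ s, ∃ h : G, h * g * h⁻¹ = e i) :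
    (ConjClasses.mk '' {g : G | orderOf g = 2}).ncard = s.card := by
  have h1 : ConjClasses.mk '' {g : G | orderOf g = 2} = (fun i => ConjClasses.mk (e i)) '' (s : Set ι) := by
    ext c
    constructor
    · rintro ⟨g, hg, rfl⟩
      obtain ⟨i, hi, h, e'⟩ := hcl g hg
      refine ⟨i, hi, ?_⟩
      show ConjClasses.mk (e i) = ConjClasses.mk g
      rw [ConjClasses.mk_eq_mk_iff_isConj]
      exact (isConj_iff.2 ⟨h, e'⟩).symm
    · rintro ⟨i, hi, rfl⟩
      exact ⟨e i, he i hi, rfl⟩
  rw [h1, Set.InjOn.ncard_image, Set.ncard_coe_finset]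
  intro i hi j hj hij
  have h2 : ConjClasses.mk (e i) = ConjClasses.mk (e j) := hij
  rw [ConjClasses.mk_eq_mk_iff_isConj] at h2
  obtain ⟨h, e'⟩ := isConj_iff.1 h2
  refine hinj hi hj ?_
  show inv (e i) = inv (e j)
  rw [← e', hinv]

section Chev

variable {D : ChevalleyDatum} {l : ℕ} {M : CoxeterMatrix (Fin l)} (hp : Cfsg.Agent.Nodes.RGDChev.IsType D l M)
  {K : Type u} [Field K] [CharP K 2] [Finite K]

/-- Every involution is conjugate to a representative. -/
theorem exists_rep {certs : List Cert} {words reps : List (List ℕ)} {n : ℕ}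
    (h : allchk D certs words reps n = true) {t : GL D.Idx K} (ht : t ∈ D.group K) (h2 : t * t = 1) :
    ∃ R ∈ reps, ∃ g ∈ D.group K, g * t * g⁻¹ = PX hp.inList K R := by
  obtain ⟨g, hg, L, hL, e⟩ := exists_orth' hp M.toCoxeterSystem ht h2
  obtain ⟨R, hR, k, hk, e'⟩ := classify (hD := hp.inList) (K := K) h L.length L le_rfl hL
  exact ⟨R, hR, k * g, mul_mem hk hg, by rw [← e', ← e]; group⟩

/-- the rank of `g - 1` -/
noncomputable def rk (g : GL D.Idx K) : ℕ := ((g : Matrix D.Idx D.Idx K) - 1).rank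

theorem rk_conj (g h : GL D.Idx K) : rk (h * g * h⁻¹) = rk g := by
  unfold rk
  have h1 : ((h * g * h⁻¹ : GL D.Idx K) : Matrix D.Idx D.Idx K) - 1 =
      (h : Matrix D.Idx D.Idx K) * ((g : Matrix D.Idx D.Idx K) - 1) * ((h⁻¹ : GL D.Idx K) : Matrix D.Idx D.Idx K) := by
    rw [mul_sub, sub_mul, mul_one, Units.val_mul, Units.val_mul, ← Units.val_mul h h⁻¹, mul_inv_cancel, Units.val_one]
  rw [h1, Matrix.rank_mul_eq_left_of_isUnit_det _ _ ?_, Matrix.rank_mul_eq_right_of_isUnit_det _ _ ?_]
  · exact (Matrix.isUnit_iff_isUnit_det _).1 h.isUnit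
  · exact (Matrix.isUnit_iff_isUnit_det _).1 (h⁻¹).isUnit

/-- **The number of classes of involutions from the ranks.** -/
theorem ncard_chev {certs : List Cert} {words reps : List (List ℕ)} {n : ℕ}
    (h : allchk D certs words ([] :: reps) n = true) (f : List ℕ → ℕ)
    (hOL : reps.all (fun R => decide (∀ r ∈ R, r < D.nroots) && decide (R.Pairwise (Orth D))) = true)
    (hrk : ∀ R ∈ reps, rk (PX hp.inList K R) = f R) (hf : ∀ R ∈ reps, 0 < f R) (hnd : (reps.map f).Nodup) :
    (ConjClasses.mk '' {g : ↥(D.group K) | orderOf g = 2}).ncard = reps.length := by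
  have hnd' : reps.Nodup := List.Nodup.of_map f hnd
  have hrk0 : rk (1 : GL D.Idx K) = 0 := by
    unfold rk
    rw [Units.val_one, sub_self, Matrix.rank_zero]
  have hO : ∀ R ∈ reps, OL D R := by
    intro R hR
    rw [List.all_eq_true] at hOL
    have := hOL R hR
    rw [Bool.and_eq_true, decide_eq_true_eq, decide_eq_true_eq] at this
    exact ⟨this.1, this.2⟩
  have h1 := ncard_classes (G := ↥(D.group K)) reps.toFinset
    (fun R => ⟨PX hp.inList K R, PX_mem hp.inList K R⟩) (fun g => rk (g : GL D.Idx K))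
    (fun g h => rk_conj _ _) ?_ ?_ ?_
  · rw [h1, List.toFinset_card_of_nodup hnd']
  · intro R hR R' hR' e
    have hR1 : R ∈ reps := by simpa using hR
    have hR2 : R' ∈ reps := by simpa using hR'
    have e' : f R = f R' := by rw [← hrk R hR1, ← hrk R' hR2]; exact e
    exact List.inj_on_of_nodup_map hnd hR1 hR2 e'
  · intro R hR
    have hR1 : R ∈ reps := by simpa using hR
    refine orderOf_eq_prime ?_ ?_
    · apply Subtype.ext
      show (PX hp.inList K R) ^ 2 = 1
      rw [pow_two, PX_sq (hO R hR1)]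
    · intro e
      have e1 : PX hp.inList K R = 1 := congrArg Subtype.val e
      have e2 := hrk R hR1
      rw [e1, hrk0] at e2
      exact absurd e2 (hf R hR1).ne
  · intro g hg
    have hgg : (g : GL D.Idx K) * g = 1 := by
      have h3 := pow_orderOf_eq_one g
      rw [hg, pow_two] at h3
      exact congrArg Subtype.val h3
    obtain ⟨R, hR, k, hk, e⟩ := exists_rep hp h g.2 hgg
    rcases List.mem_cons.1 hR with rfl | hR
    · exfalso
      rw [PX_nil] at e
      have h4 : (g : GL D.Idx K) = 1 := by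
        have h5 : k * (g : GL D.Idx K) = k := by
          rw [← mul_inv_eq_one]; exact e
        exact mul_eq_left.1 h5
      have h5 : g = 1 := Subtype.ext h4
      rw [h5, orderOf_one] at hg
      exact absurd hg (by norm_num)
    · refine ⟨R, by simpa using hR, ⟨k, hk⟩, ?_⟩
      exact Subtype.ext e

/-- **The number of classes of involutions of a subgroup from the ranks.** -/
theorem ncard_sub (hD : InList D) {G : Subgroup (GL D.Idx K)} {reps : List (List ℕ)} (f : List ℕ → ℕ)
    (hcl : ∀ t ∈ G, t * t = 1 → t = 1 ∨ ∃ R ∈ reps, ∃ g ∈ G, g * t * g⁻¹ = PX hD K R)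
    (hmem : ∀ R ∈ reps, PX hD K R ∈ G)
    (hOL : reps.all (fun R => decide (∀ r ∈ R, r < D.nroots) && decide (R.Pairwise (Orth D))) = true)
    (hrk : ∀ R ∈ reps, rk (PX hD K R) = f R) (hf : ∀ R ∈ reps, 0 < f R) (hnd : (reps.map f).Nodup) :
    (ConjClasses.mk '' {g : ↥G | orderOf g = 2}).ncard = reps.length := by
  classical
  have hnd' : reps.Nodup := List.Nodup.of_map f hnd
  have hrk0 : rk (1 : GL D.Idx K) = 0 := by
    unfold rk
    rw [Units.val_one, sub_self, Matrix.rank_zero]
  have hO : ∀ R ∈ reps, OL D R := by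
    intro R hR
    rw [List.all_eq_true] at hOL
    have := hOL R hR
    rw [Bool.and_eq_true, decide_eq_true_eq, decide_eq_true_eq] at this
    exact ⟨this.1, this.2⟩
  let e : List ℕ → ↥G := fun R => if h : PX hD K R ∈ G then ⟨PX hD K R, h⟩ else 1
  have he : ∀ R ∈ reps, (e R : GL D.Idx K) = PX hD K R := by
    intro R hR
    show ((if h : PX hD K R ∈ G then (⟨PX hD K R, h⟩ : ↥G) else 1 : ↥G) : GL D.Idx K) = _
    rw [dif_pos (hmem R hR)]
  have h1 := ncard_classes (G := ↥G) reps.toFinset e (fun g => rk (g : GL D.Idx K)) (fun g h => rk_conj _ _) ?_ ?_ ?_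
  · rw [h1, List.toFinset_card_of_nodup hnd']
  · intro R hR R' hR' e'
    have hR1 : R ∈ reps := by simpa using hR
    have hR2 : R' ∈ reps := by simpa using hR'
    have e1 : rk ((e R : ↥G) : GL D.Idx K) = rk ((e R' : ↥G) : GL D.Idx K) := e'
    rw [he R hR1, he R' hR2, hrk R hR1, hrk R' hR2] at e1
    exact List.inj_on_of_nodup_map hnd hR1 hR2 e1
  · intro R hR
    have hR1 : R ∈ reps := by simpa using hR
    refine orderOf_eq_prime ?_ ?_
    · apply Subtype.ext
      show ((e R : ↥G) : GL D.Idx K) ^ 2 = 1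
      rw [he R hR1, pow_two, PX_sq (hO R hR1)]
    · intro e1
      have e1 : ((e R : ↥G) : GL D.Idx K) = 1 := congrArg Subtype.val e1
      rw [he R hR1] at e1
      have e2 := hrk R hR1
      rw [e1, hrk0] at e2
      exact absurd e2 (hf R hR1).ne
  · intro g hg
    have hgg : (g : GL D.Idx K) * g = 1 := by
      have h3 := pow_orderOf_eq_one g
      rw [hg, pow_two] at h3
      exact congrArg Subtype.val h3
    rcases hcl g g.2 hgg with h4 | ⟨R, hR, k, hk, e1⟩
    · exfalso
      have h5 : g = 1 := Subtype.ext h4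
      rw [h5, orderOf_one] at hg
      exact absurd hg (by norm_num)
    · refine ⟨R, by simpa using hR, ⟨k, hk⟩, ?_⟩
      refine Subtype.ext ?_
      rw [he R hR]
      exact e1

end Chev

end Cfsg.Agent.H83.Count
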