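import Mathlib
import Cfsg.Agent.H83.FoldRel
import Cfsg.Agent.Nodes.RGDTwD4

/-!
Involutions of `³D₄(q)`, `q` even (helper83): every involution is conjugate to `x_{23}(1)` or to
`x_{18}(1) x_{13}(1) x_{12}(1)`.
-/

set_option autoImplicit false
set_option linter.unusedSectionVars false
set_option maxHeartbeats 400000

namespace Cfsg.Agent.H83.TwDFour

open Cfsg.Lie Cfsg.Agent.ChevalleyStructure Cfsg.Agent.ChevalleyStructure.Elts
  Cfsg.Agent.H83.ChevInv Cfsg.Agent.H83.OrthRed Cfsg.Agent.H83.FoldInv Cfsg.Agent.H83.FoldRel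
open Cfsg.Agent.Nodes.RGDTwD4 (J foldData foldGrp hp isCartan)

universe u

/-- the table of the extremal involutions of the Weyl group of type `G₂` -/
def good : List (List (Fin 2) × Refs 2 × List (Fin 2)) :=
  [([], [([], 0), ([1, 0], 1)], []), ([0], [([1, 0], 1)], [0]), ([1], [([0, 1], 0)], [1]),
    ([0, 1], [], [0, 1, 0, 1, 0, 1])]

theorem tab : tabchk chevD4 J good [] = true := by decide +kernel

variable {K : Type u} [Field K] [Fintype K] [CharP K 2] {q : ℕ}

theorem PX_one (r : ℕ) : PX hp.inList K [r] = xG hp.inList r 1 := by rw [PX_cons, PX_nil, mul_one]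

theorem mem0 : PX hp.inList K [14] ∈ twistedD4 K q := by
  refine Subgroup.subset_closure ⟨[(14, 1)], Or.inl ⟨1, one_pow q, 14, by decide, rfl⟩, ?_⟩
  rw [PX_one]
  show chevD4.x K 14 1 = chevD4.x K 14 1 * 1
  rw [mul_one]

theorem mem1 : PX hp.inList K [18, 13, 12] ∈ twistedD4 K q := by
  refine Subgroup.subset_closure ⟨[(18, 1), (13, 1 ^ q), (12, 1 ^ (q ^ 2))],
    Or.inr ⟨1, (d4p1, d4p3, d4p4), by simp, rfl⟩, ?_⟩
  rw [PX_cons, PX_cons, PX_one, one_pow, one_pow]
  show chevD4.x K 18 1 * (chevD4.x K 13 1 * chevD4.x K 12 1) =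
    chevD4.x K 18 1 * (chevD4.x K 13 1 * (chevD4.x K 12 1 * 1))
  rw [mul_one]

theorem hx : ∀ i, PX hp.inList K (sblk chevD4 (J i)) ∈ twistedD4 K q := by
  intro i
  have h : sblk chevD4 (J 0) = [14] ∧ sblk chevD4 (J 1) = [18, 13, 12] := by decide +kernel
  fin_cases i
  · show PX hp.inList K (sblk chevD4 (J 0)) ∈ _
    rw [h.1]; exact mem0
  · show PX hp.inList K (sblk chevD4 (J 1)) ∈ _
    rw [h.2]; exact mem1

/-- **Every involution of `³D₄(q)`**, `q` even. -/
theorem exists_rep (hK : Fintype.card K = q ^ 3) {t : GL chevD4.Idx K} (ht : t ∈ twistedD4 K q) (h2 : t * t = 1) :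
    t = 1 ∨ ∃ R ∈ [[23], [18, 13, 12]], ∃ g ∈ twistedD4 K q, g * t * g⁻¹ = PX hp.inList K R := by
  have hq : IsPrimePow q := by
    obtain ⟨n, hpr, hcard⟩ := FiniteField.card K 2
    have h1 : IsPrimePow (q ^ 3) := by
      rw [← hK, hcard]
      exact (Nat.prime_two.isPrimePow).pow n.2.ne'
    exact (isPrimePow_pow_iff (by norm_num)).1 h1
  obtain ⟨φ, hφ⟩ := D4Fixed.exists_frob hq hK
  have FG := foldGrp hφ (D4Fixed.twisted_le_fix hK hφ)
  obtain ⟨e, he, g, hg, hO, e1⟩ := exists_list CoxeterMatrix.G₂.toCoxeterSystem isCartan foldData FG tab hx ht h2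
  -- the relations
  have hR : ∀ L L' : List ℕ, ∀ ω : List (Fin 2), OL chevD4 L → (L.map (bact chevD4 J ω)).isPerm L' = true →
      (L.map (bact chevD4 J ω)).Pairwise (Orth chevD4) → EqvG hp.inList K (twistedD4 K q) L L' := by
    intro L L' ω hL hperm hpw
    refine (EqvG.bword FG ω hL.lt).trans (EqvG.perm ⟨?_, hpw⟩ (List.isPerm_iff.1 hperm))
    intro r hr
    obtain ⟨s, hs, rfl⟩ := List.mem_map.1 hr
    exact bact_lt (hp := hp) ω (hL.lt s hs)
  have key : ∀ L R : List ℕ, R ∈ [[23], [18, 13, 12]] → EqvG hp.inList K (twistedD4 K q) L R →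
      g * t * g⁻¹ = PX hp.inList K L →
      ∃ R ∈ [[23], [18, 13, 12]], ∃ g ∈ twistedD4 K q, g * t * g⁻¹ = PX hp.inList K R := by
    rintro L R hR ⟨k, hk, e2⟩ e3
    exact ⟨R, hR, k * g, mul_mem hk hg, by rw [← e2, ← e3]; group⟩
  simp only [good, List.mem_cons, List.not_mem_nil, or_false] at he
  rcases he with rfl | rfl | rfl | rfl
  · right
    have h3 : (rl chevD4 J [([], 0), ([1, 0], 1)]).map chevD4.neg = [9, 6, 3, 2] := by decide +kernel
    rw [h3] at e1 hO
    refine key _ [18, 13, 12] (by simp) ?_ e1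
    refine (hR _ [18, 13, 12, 23] [1, 0, 1, 0] hO (by decide +kernel) (by decide +kernel)).trans ?_
    refine EqvG.d4 (d := 23) hp.inList (z := 14) (by decide +kernel) ⟨by decide +kernel, by decide +kernel⟩
      (by decide +kernel) (by simp) ?_ mem1
    rw [← PX_one]; exact mem0
  · right
    have h3 : (rl chevD4 J [([1, 0], 1)]).map chevD4.neg = [6, 3, 2] := by decide +kernel
    rw [h3] at e1 hO
    refine key _ [18, 13, 12] (by simp) ?_ e1
    exact hR _ [18, 13, 12] [1, 0, 1] hO (by decide +kernel) (by decide +kernel)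
  · right
    have h3 : (rl chevD4 J [([0, 1], 0)]).map chevD4.neg = [0] := by decide +kernel
    rw [h3] at e1 hO
    refine key _ [23] (by simp) ?_ e1
    exact hR _ [23] [0, 1, 0, 1, 0] hO (by decide +kernel) (by decide +kernel)
  · left
    have h3 : (rl chevD4 J []).map chevD4.neg = [] := rfl
    rw [h3, PX_nil] at e1
    have h5 : g * t = g := by rw [← mul_inv_eq_one]; exact e1
    exact mul_eq_left.1 h5

/-- the representatives lie in the group -/
theorem reps_mem (hK : Fintype.card K = q ^ 3) : ∀ R ∈ [[23], [18, 13, 12]], PX hp.inList K R ∈ twistedD4 K q := by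
  have hq : IsPrimePow q := by
    obtain ⟨n, hpr, hcard⟩ := FiniteField.card K 2
    have h1 : IsPrimePow (q ^ 3) := by
      rw [← hK, hcard]
      exact (Nat.prime_two.isPrimePow).pow n.2.ne'
    exact (isPrimePow_pow_iff (by norm_num)).1 h1
  obtain ⟨φ, hφ⟩ := D4Fixed.exists_frob hq hK
  have FG := foldGrp hφ (D4Fixed.twisted_le_fix hK hφ)
  intro R hR
  simp only [List.mem_cons, List.not_mem_nil, or_false] at hR
  rcases hR with rfl | rfl
  · have h3 := PX_rl_mem FG hx [([0, 1], 0)]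
    have h4 : rl chevD4 J [([0, 1], 0)] = [23] := by decide +kernel
    rwa [h4] at h3
  · exact mem1

end Cfsg.Agent.H83.TwDFour
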