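import Mathlib

/-!
# Counting automorphisms fixing an element of prime order (helper83)

`G` a finite group with trivial centre, `x` of prime order `l` with cyclic centraliser `T`.

* `card_norm` : `#N(⟨x⟩) = c * #T` if `T.index ≡ c` modulo `l`, `0 < c < l`;
* `card_fix_le` : if some automorphism maps `x` to `x ^ r`, `r` of order `m` modulo `l`, and
  `c * #Out G ≤ d * m`, then at most `d * #T` automorphisms fix `x`.
-/

set_option autoImplicit false

namespace Cfsg.Agent.H83.AutCount

open Subgroup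

variable {G : Type*} [Group G] [Finite G] {x : G} {l : ℕ} {T : Subgroup G}

theorem mem_zpowers_of_cyclic (hcyc : IsCyclic ↥T) (hl : l.Prime) (hx : orderOf x = l) (hxT : x ∈ T) {y : G}
    (hy : y ∈ T) (hyl : y ^ l = 1) : y ∈ zpowers x := by
  classical
  obtain ⟨⟨t, ht⟩, hgen⟩ := hcyc.exists_generator
  obtain ⟨i, hi⟩ := hgen ⟨x, hxT⟩
  obtain ⟨j, hj⟩ := hgen ⟨y, hy⟩
  have hi' : t ^ i = x := congrArg Subtype.val hi
  have hj' : t ^ j = y := congrArg Subtype.val hj
  set n := orderOf t with hn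
  have hnpos : 0 < n := orderOf_pos t
  have hln : l ∣ n := by
    rw [← hx, ← hi']
    exact orderOf_dvd_of_pow_eq_one (by rw [← zpow_natCast, ← zpow_mul, mul_comm, zpow_mul, zpow_natCast, pow_orderOf_eq_one, one_zpow])
  obtain ⟨m, hm⟩ := hln
  have hm0 : m ≠ 0 := by rintro rfl; omega
  have hl0 : (l : ℤ) ≠ 0 := by exact_mod_cast hl.ne_zero
  have key : ∀ a : ℤ, (t ^ a) ^ l = 1 → (m : ℤ) ∣ a := by
    intro a ha
    rw [← zpow_natCast, ← zpow_mul, ← orderOf_dvd_iff_zpow_eq_one, ← hn, hm] at ha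
    push_cast at ha
    rw [mul_comm] at ha
    exact (mul_dvd_mul_iff_right hl0).1 ha
  obtain ⟨i', hi2⟩ := key i (by rw [hi', ← hx, pow_orderOf_eq_one])
  obtain ⟨j', hj2⟩ := key j (by rw [hj', hyl])
  -- `t ^ m` has order `l`, and `x` is a power of it prime to `l`
  have hnd : ¬ (l : ℤ) ∣ i' := by
    rintro ⟨u, hu⟩
    have h1 : x = 1 := by
      rw [← hi', hi2, hu, show (m : ℤ) * ((l : ℤ) * u) = (n : ℤ) * u by rw [hm]; push_cast; ring, zpow_mul, zpow_natCast,
        hn, pow_orderOf_eq_one, one_zpow]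
    rw [h1, orderOf_one] at hx
    exact hl.one_lt.ne hx
  obtain ⟨a, b, hab⟩ := ((Nat.prime_iff_prime_int.1 hl).coprime_iff_not_dvd.2 hnd)
  refine ⟨b * j', ?_⟩
  show x ^ (b * j') = y
  rw [← hi', ← hj', hi2, hj2, ← zpow_mul]
  have e : (m : ℤ) * i' * (b * j') = m * j' + n * (-(a * j')) := by
    rw [hm]
    push_cast
    have h2 : b * i' = 1 - a * l := by linarith
    calc (m : ℤ) * i' * (b * j') = m * j' * (b * i') := by ring
      _ = _ := by rw [h2]; ring
  rw [e, zpow_add, zpow_mul t (n : ℤ), zpow_natCast, hn, pow_orderOf_eq_one, one_zpow, mul_one]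

section

variable (hl : l.Prime) (hx : orderOf x = l) (hT : centralizer {x} = T) (hcyc : IsCyclic ↥T)

include hl hx hT hcyc

omit [Finite G] hl hx hcyc in
theorem mem_T {y : G} : y ∈ T ↔ y * x = x * y := by
  rw [← hT, mem_centralizer_singleton_iff]

theorem mem_norm_iff {g : G} : g ∈ normalizer ((zpowers x : Subgroup G) : Set G) ↔ g⁻¹ * x * g ∈ T := by
  have hxT : x ∈ T := (mem_T hT).2 rfl
  constructor
  · intro h
    have h1 : g⁻¹ * x * g ∈ zpowers x := by
      have h2 := (mem_normalizer_iff.1 (inv_mem h) x).1 (mem_zpowers x)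
      rwa [inv_inv] at h2
    exact (zpowers_le.2 hxT) h1
  · intro h
    have h1 : g⁻¹ * x * g ∈ zpowers x := by
      refine mem_zpowers_of_cyclic hcyc hl hx hxT h ?_
      have e : (g⁻¹ * x * g) ^ l = g⁻¹ * x ^ l * g := by
        have := conj_pow (i := l) (a := g⁻¹) (b := x)
        rw [inv_inv] at this
        exact this
      rw [e, ← hx, pow_orderOf_eq_one]
      group
    have h2 : ∀ y ∈ zpowers x, g⁻¹ * y * g ∈ zpowers x := by
      rintro _ ⟨i, rfl⟩
      show g⁻¹ * x ^ i * g ∈ zpowers x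
      have e : g⁻¹ * x ^ i * g = (g⁻¹ * x * g) ^ i := by
        have := conj_zpow (i := i) (a := g⁻¹) (b := x)
        rw [inv_inv] at this
        exact this.symm
      rw [e]
      exact zpow_mem h1 i
    have h3 : g⁻¹ ∈ normalizer ((zpowers x : Subgroup G) : Set G) := by
      have hle : (zpowers x).map (MulAut.conj g⁻¹).toMonoidHom ≤ zpowers x := by
        rintro _ ⟨y, hy, rfl⟩
        have := h2 y hy
        show g⁻¹ * y * g⁻¹⁻¹ ∈ zpowers x
        rwa [inv_inv]
      have heq : (zpowers x).map (MulAut.conj g⁻¹).toMonoidHom = zpowers x := by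
        apply Subgroup.eq_of_le_of_card_ge hle
        rw [Subgroup.card_map_of_injective (MulAut.conj g⁻¹).injective]
      rw [mem_normalizer_iff]
      intro y
      constructor
      · intro hy
        have := h2 y hy
        rwa [inv_inv]
      · intro hy
        rw [← heq] at hy
        obtain ⟨w, hw, e⟩ := hy
        have e' : g⁻¹ * w * g⁻¹⁻¹ = g⁻¹ * y * g⁻¹⁻¹ := e
        have : w = y := by
          have := congrArg (fun s => g * s * g⁻¹) e'
          simpa [mul_assoc] using this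
        rwa [this] at hw
    have := inv_mem h3
    rwa [inv_inv] at this

theorem T_le_norm : T ≤ normalizer ((zpowers x : Subgroup G) : Set G) := by
  intro g hg
  rw [mem_norm_iff hl hx hT hcyc]
  have h := (mem_T hT).1 hg
  have e : g⁻¹ * x * g = x := by rw [mul_assoc, ← h]; group
  rw [e]
  exact (mem_T hT).2 rfl

/-- `#N(⟨x⟩)` is `#T` times a number `≡ T.index` modulo `l`. -/
theorem card_norm_fixed : ∃ c' : ℕ, Nat.card ↥(normalizer ((zpowers x : Subgroup G) : Set G)) = Nat.card ↥T * c' ∧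
    T.index ≡ c' [MOD l] := by
  classical
  have : Fact l.Prime := ⟨hl⟩
  have hpg : IsPGroup l ↥(zpowers x) := IsPGroup.of_card (n := 1) (by rw [Nat.card_zpowers, hx, pow_one])
  refine ⟨Nat.card (MulAction.fixedPoints ↥(zpowers x) (G ⧸ T)), ?_, ?_⟩
  · rw [← Nat.card_prod]
    refine Nat.card_congr (Equiv.trans ?_ (QuotientGroup.preimageMkEquivSubgroupProdSet T
      (MulAction.fixedPoints ↥(zpowers x) (G ⧸ T))))
    refine Equiv.subtypeEquivRight fun g => ?_
    rw [Set.mem_preimage, MulAction.mem_fixedPoints]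
    show g ∈ normalizer ((zpowers x : Subgroup G) : Set G) ↔ _
    rw [mem_norm_iff hl hx hT hcyc]
    constructor
    · intro h
      rintro ⟨y, hy⟩
      show ((y * g : G) : G ⧸ T) = (g : G ⧸ T)
      rw [eq_comm, QuotientGroup.eq]
      obtain ⟨i, rfl⟩ := hy
      have e : g⁻¹ * (x ^ i * g) = (g⁻¹ * x * g) ^ i := by
        have := conj_zpow (i := i) (a := g⁻¹) (b := x)
        rw [inv_inv] at this
        rw [this, mul_assoc]
      show g⁻¹ * (x ^ i * g) ∈ T
      rw [e]
      exact zpow_mem h i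
    · intro h
      have h1 := h ⟨x, mem_zpowers x⟩
      have h2 : ((x * g : G) : G ⧸ T) = (g : G ⧸ T) := h1
      rw [eq_comm, QuotientGroup.eq] at h2
      rwa [← mul_assoc] at h2
  · exact hpg.card_modEq_card_fixedPoints (G ⧸ T)

theorem card_norm_le : Nat.card ↥(normalizer ((zpowers x : Subgroup G) : Set G)) ≤ (l - 1) * Nat.card ↥T := by
  classical
  set N := normalizer ((zpowers x : Subgroup G) : Set G) with hN
  let S : Set G := {y | y ∈ zpowers x ∧ y ≠ 1}
  have hx1 : x ≠ 1 := fun h => hl.one_lt.ne (by rw [← hx, h, orderOf_one])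
  have hS : Nat.card S = l - 1 := by
    have h1 : Nat.card S = Nat.card {y : ↥(zpowers x) // y ≠ 1} := by
      refine Nat.card_congr ⟨fun y => ⟨⟨y.1, y.2.1⟩, fun h => y.2.2 (congrArg Subtype.val h)⟩,
        fun y => ⟨y.1.1, y.1.2, fun h => y.2 (Subtype.ext h)⟩, fun y => rfl, fun y => rfl⟩
    rw [h1]
    have : Fintype ↥(zpowers x) := Fintype.ofFinite _
    rw [Nat.card_eq_fintype_card, Fintype.card_subtype_compl, Fintype.card_subtype_eq, ← Nat.card_eq_fintype_card,
      Nat.card_zpowers, hx]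
  have hm : ∀ g : N, (g : G) * x * (g : G)⁻¹ ∈ S := by
    intro g
    refine ⟨(mem_normalizer_iff.1 g.2 x).1 (mem_zpowers x), fun h => hx1 ?_⟩
    have := congrArg (fun s => (g : G)⁻¹ * s * g) h
    simpa [mul_assoc] using this
  -- representatives
  have hrep : ∀ y : S, ∃ r : G, (∃ g : N, (g : G) * x * (g : G)⁻¹ = y) → r * x * r⁻¹ = y := by
    intro y
    by_cases h : ∃ g : N, (g : G) * x * (g : G)⁻¹ = y
    · obtain ⟨g, hg⟩ := h
      exact ⟨g, fun _ => hg⟩
    · exact ⟨1, fun h' => absurd h' h⟩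
  choose r hr using hrep
  let f : N → S × T := fun g => (⟨(g : G) * x * (g : G)⁻¹, hm g⟩,
    ⟨(r ⟨(g : G) * x * (g : G)⁻¹, hm g⟩)⁻¹ * g, by
      rw [mem_T hT]
      have h := hr ⟨(g : G) * x * (g : G)⁻¹, hm g⟩ ⟨g, rfl⟩
      have h2 : r ⟨(g : G) * x * (g : G)⁻¹, hm g⟩ * x * (r ⟨(g : G) * x * (g : G)⁻¹, hm g⟩)⁻¹ =
          (g : G) * x * (g : G)⁻¹ := h
      set s := r ⟨(g : G) * x * (g : G)⁻¹, hm g⟩ with hs
      have h3 : s * x = (g : G) * x * (g : G)⁻¹ * s := by rw [← h2]; group
      calc s⁻¹ * (g : G) * x = s⁻¹ * ((g : G) * x * (g : G)⁻¹ * s) * (s⁻¹ * g) := by group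
        _ = s⁻¹ * (s * x) * (s⁻¹ * g) := by rw [h3]
        _ = x * (s⁻¹ * g) := by group⟩)
  have hf : Function.Injective f := by
    intro g g' h
    have h1 : (g : G) * x * (g : G)⁻¹ = (g' : G) * x * (g' : G)⁻¹ := congrArg Subtype.val (congrArg Prod.fst h)
    have h2 : (r ⟨(g : G) * x * (g : G)⁻¹, hm g⟩)⁻¹ * (g : G) = (r ⟨(g' : G) * x * (g' : G)⁻¹, hm g'⟩)⁻¹ * (g' : G) :=
      congrArg Subtype.val (congrArg Prod.snd h)
    have h3 : (⟨(g : G) * x * (g : G)⁻¹, hm g⟩ : S) = ⟨(g' : G) * x * (g' : G)⁻¹, hm g'⟩ := Subtype.ext h1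
    rw [h3] at h2
    exact Subtype.ext (mul_left_cancel h2)
  have := Nat.card_le_card_of_injective f hf
  rwa [Nat.card_prod, hS] at this

/-- **The order of the normaliser.** -/
theorem card_norm {c : ℕ} (hc : 0 < c) (hcl : c < l) (hmod : T.index ≡ c [MOD l]) :
    Nat.card ↥(normalizer ((zpowers x : Subgroup G) : Set G)) = c * Nat.card ↥T := by
  obtain ⟨c', h1, h2⟩ := card_norm_fixed hl hx hT hcyc
  have h3 := card_norm_le hl hx hT hcyc
  have hTpos : 0 < Nat.card ↥T := Nat.card_pos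
  have h4 : c' ≤ l - 1 := by
    rw [h1, mul_comm] at h3
    exact Nat.le_of_mul_le_mul_right h3 hTpos
  have h5 : c' ≡ c [MOD l] := h2.symm.trans hmod
  have h6 : c' = c := Nat.ModEq.eq_of_lt_of_lt h5 (by have := hl.pos; omega) hcl
  rw [h1, h6, mul_comm]

omit [Finite G] hl hx hT hcyc in
theorem conj_pow_pow {v : G} {a : ℕ} (hv : v * x * v⁻¹ = x ^ a) (j : ℕ) : v ^ j * x * (v ^ j)⁻¹ = x ^ a ^ j := by
  induction j with
  | zero => simp
  | succ j ih =>
    have h1 : v ^ (j + 1) * x * (v ^ (j + 1))⁻¹ = v ^ j * (v * x * v⁻¹) * (v ^ j)⁻¹ := by rw [pow_succ]; group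
    rw [h1, hv, ← conj_pow, ih, ← pow_mul, pow_succ]

/-- If some element acts on `⟨x⟩` as a power automorphism of order `m`, then `m` divides the index of `T` in the
normaliser. -/
theorem dvd_norm {v : G} {a m : ℕ} (hv : v * x * v⁻¹ = x ^ a) (hm : orderOf (a : ZMod l) = m) :
    ∃ c' : ℕ, Nat.card ↥(normalizer ((zpowers x : Subgroup G) : Set G)) = c' * Nat.card ↥T ∧ m ∣ c' := by
  classical
  set N := normalizer ((zpowers x : Subgroup G) : Set G) with hN
  have hlf : Fact l.Prime := ⟨hl⟩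
  have hvN : v ∈ N := by
    have h1 : v⁻¹ ∈ N := by
      rw [hN, mem_norm_iff hl hx hT hcyc, inv_inv, hv]
      exact pow_mem ((mem_T hT).2 rfl) a
    have := inv_mem h1
    rwa [inv_inv] at this
  let φ : ↥N →* MulAut ↥(zpowers x) := (zpowers x).normalizerMonoidHom
  have hφ : ∀ (g : ↥N) (y : ↥(zpowers x)), ((φ g y : ↥(zpowers x)) : G) = g * y * (g : G)⁻¹ := fun g y => rfl
  have hone : ∀ g : ↥N, φ g = 1 ↔ (g : G) * x * (g : G)⁻¹ = x := by
    intro g
    constructor
    · intro h
      have h1 := hφ g ⟨x, mem_zpowers x⟩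
      rw [h] at h1
      exact h1.symm
    · intro h
      apply MulEquiv.ext
      rintro ⟨y, i, rfl⟩
      apply Subtype.ext
      rw [hφ]
      show (g : G) * x ^ i * (g : G)⁻¹ = x ^ i
      rw [← conj_zpow, h]
  have hker : Nat.card ↥φ.ker = Nat.card ↥T := by
    refine Nat.card_congr (Equiv.ofBijective (fun g : ↥φ.ker => (⟨((g : ↥N) : G), by
      rw [mem_T hT]
      have h1 := (hone (g : ↥N)).1 g.2
      rwa [mul_inv_eq_iff_eq_mul] at h1⟩ : ↥T)) ⟨?_, ?_⟩)
    · intro a b h
      have h' : ((a : ↥N) : G) = ((b : ↥N) : G) := congrArg (Subtype.val : ↥T → G) h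
      exact Subtype.ext (Subtype.ext h')
    · rintro ⟨y, hy⟩
      refine ⟨⟨⟨y, T_le_norm hl hx hT hcyc hy⟩, ?_⟩, rfl⟩
      rw [MonoidHom.mem_ker, hone]
      show y * x * y⁻¹ = x
      rw [(mem_T hT).1 hy, mul_inv_cancel_right]
  refine ⟨Nat.card ↥φ.range, ?_, ?_⟩
  · rw [← φ.ker.card_mul_index, hker, Subgroup.index_ker, mul_comm]
  · have hr : φ ⟨v, hvN⟩ ∈ φ.range := MonoidHom.mem_range.2 ⟨⟨v, hvN⟩, rfl⟩
    have h1 : orderOf (⟨φ ⟨v, hvN⟩, hr⟩ : ↥φ.range) ∣ Nat.card ↥φ.range := orderOf_dvd_natCard _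
    rw [Subgroup.orderOf_mk] at h1
    refine dvd_trans ?_ h1
    rw [← hm]
    apply orderOf_dvd_of_pow_eq_one
    have h2 : φ (⟨v, hvN⟩ ^ orderOf (φ ⟨v, hvN⟩)) = 1 := by rw [map_pow, pow_orderOf_eq_one]
    rw [hone] at h2
    have h3 : v ^ orderOf (φ ⟨v, hvN⟩) * x * (v ^ orderOf (φ ⟨v, hvN⟩))⁻¹ = x := h2
    rw [conj_pow_pow hv] at h3
    have h4 : x ^ a ^ orderOf (φ ⟨v, hvN⟩) = x ^ 1 := by rw [h3, pow_one]
    rw [pow_inj_mod, hx] at h4
    have h5 : ((a ^ orderOf (φ ⟨v, hvN⟩) : ℕ) : ZMod l) = ((1 : ℕ) : ZMod l) :=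
      (ZMod.natCast_eq_natCast_iff' _ _ _).2 h4
    push_cast at h5
    exact h5

theorem dvd_of_mod {c : ℕ} (hc : 0 < c) (hcl : c < l) (hmod : T.index ≡ c [MOD l]) {v : G} {a m : ℕ}
    (hv : v * x * v⁻¹ = x ^ a) (hm : orderOf (a : ZMod l) = m) : m ∣ c := by
  obtain ⟨c', h1, h2⟩ := dvd_norm hl hx hT hcyc hv hm
  rw [card_norm hl hx hT hcyc hc hcl hmod] at h1
  rwa [Nat.eq_of_mul_eq_mul_right Nat.card_pos h1]

/-- **Few automorphisms fix `x`.** -/
theorem card_fix_le (hZ : center G = ⊥) {c : ℕ} (hc : 0 < c) (hcl : c < l) (hmod : T.index ≡ c [MOD l])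
    {b : MulAut G} {r m d : ℕ} (hb : b x = x ^ r) (hm : orderOf (r : ZMod l) = m)
    (hout : c * (MulAut.conj : G →* MulAut G).range.index ≤ d * m) (hm0 : 0 < m) :
    Nat.card ↥(MulAction.stabilizer (MulAut G) x) ≤ d * Nat.card ↥T := by
  classical
  have : Fact l.Prime := ⟨hl⟩
  -- the stabiliser of `⟨x⟩`
  let N : Subgroup (MulAut G) :=
    { carrier := {a | (zpowers x).map a.toMonoidHom = zpowers x}
      one_mem' := by
        show (zpowers x).map (MonoidHom.id G) = zpowers x
        exact Subgroup.map_id _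
      mul_mem' := by
        intro a b ha hb
        show (zpowers x).map (a * b : MulAut G).toMonoidHom = zpowers x
        have e : ((a * b : MulAut G)).toMonoidHom = a.toMonoidHom.comp b.toMonoidHom := rfl
        rw [e, ← Subgroup.map_map, show (zpowers x).map b.toMonoidHom = zpowers x from hb]
        exact ha
      inv_mem' := by
        intro a ha
        show (zpowers x).map (a⁻¹ : MulAut G).toMonoidHom = zpowers x
        conv_lhs => rw [← show (zpowers x).map a.toMonoidHom = zpowers x from ha]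
        rw [Subgroup.map_map]
        have e : (a⁻¹ : MulAut G).toMonoidHom.comp a.toMonoidHom = MonoidHom.id G := by
          ext y
          exact MulAut.inv_apply_self G a y
        rw [e, Subgroup.map_id] }
  have hmemN : ∀ a : MulAut G, a x ∈ zpowers x → a ∈ N := by
    intro a ha
    show (zpowers x).map a.toMonoidHom = zpowers x
    apply Subgroup.eq_of_le_of_card_ge
    · rintro _ ⟨y, hy, rfl⟩
      obtain ⟨i, rfl⟩ := hy
      show a (x ^ i) ∈ zpowers x
      rw [map_zpow]
      exact zpow_mem ha i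
    · rw [Subgroup.card_map_of_injective a.injective]
  have hbN : b ∈ N := hmemN b (by rw [hb]; exact npow_mem_zpowers x r)
  have hbi : ∀ i : ℕ, (b ^ i) x = x ^ r ^ i := by
    intro i
    induction i with
    | zero => rw [pow_zero, pow_zero, pow_one]; rfl
    | succ i ih => rw [pow_succ', MulAut.mul_apply, ih, map_pow, hb, ← pow_mul, pow_succ']
  -- the lower bound
  have h1 : m * Nat.card ↥(MulAction.stabilizer (MulAut G) x) ≤ Nat.card ↥N := by
    have hfin : Nat.card (Fin m) = m := by rw [Nat.card_eq_fintype_card, Fintype.card_fin]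
    rw [← hfin, ← Nat.card_prod]
    let f : Fin m × ↥(MulAction.stabilizer (MulAut G) x) → ↥N := fun ia =>
      ⟨b ^ (ia.1 : ℕ) * (ia.2 : MulAut G), N.mul_mem (N.pow_mem hbN _) (hmemN _ (by
        have h : (ia.2 : MulAut G) x = x := ia.2.2
        rw [h]; exact mem_zpowers x))⟩
    refine Nat.card_le_card_of_injective f ?_
    rintro ⟨i, a⟩ ⟨j, a'⟩ h
    have h2 : b ^ (i : ℕ) * (a : MulAut G) = b ^ (j : ℕ) * (a' : MulAut G) := congrArg Subtype.val h
    have ha : (a : MulAut G) x = x := a.2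
    have ha' : (a' : MulAut G) x = x := a'.2
    have h3 : x ^ r ^ (i : ℕ) = x ^ r ^ (j : ℕ) := by
      rw [← hbi, ← hbi]
      have h4 := congrArg (fun s : MulAut G => s x) h2
      simpa [MulAut.mul_apply, ha, ha'] using h4
    have h5 : (i : ℕ) = j := by
      rw [pow_inj_mod, hx] at h3
      have h6 : ((r ^ (i : ℕ) : ℕ) : ZMod l) = ((r ^ (j : ℕ) : ℕ) : ZMod l) := (ZMod.natCast_eq_natCast_iff' _ _ _).2 h3
      push_cast at h6
      have h7 : IsOfFinOrder (r : ZMod l) := by
        rw [← orderOf_pos_iff, hm]; exact hm0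
      have h8 := (h7.pow_inj_mod (n := (i : ℕ)) (m := (j : ℕ))).1 h6
      have hi := i.2
      have hj := j.2
      rwa [Nat.mod_eq_of_lt (by rw [hm]; exact hi), Nat.mod_eq_of_lt (by rw [hm]; exact hj)] at h8
    have h9 : i = j := Fin.ext h5
    subst h9
    have h10 : (a : MulAut G) = a' := mul_left_cancel h2
    rw [Subtype.ext h10]
  -- the upper bound
  have h2 : Nat.card ↥N ≤ c * Nat.card ↥T * (MulAut.conj : G →* MulAut G).range.index := by
    set K := (MulAut.conj : G →* MulAut G).range with hK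
    have h3 : Nat.card ↥N = Nat.card ↥(K.subgroupOf N) * (K.subgroupOf N).index :=
      (Subgroup.card_mul_index (K.subgroupOf N)).symm
    have hKn : K.Normal := by
      rw [hK]
      refine ⟨?_⟩
      rintro _ ⟨g, rfl⟩ a
      refine ⟨a g, ?_⟩
      ext y
      simp [MulAut.conj_apply]
    have h4 : (K.subgroupOf N).index ≤ K.index := by
      have : K.relIndex N ∣ K.index := Subgroup.relIndex_dvd_index_of_normal K N
      exact Nat.le_of_dvd (Nat.pos_of_ne_zero K.index_ne_zero_of_finite) this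
    have h5 : Nat.card ↥(K.subgroupOf N) ≤ c * Nat.card ↥T := by
      rw [← card_norm hl hx hT hcyc hc hcl hmod]
      have hsur : ∀ a : ↥(K.subgroupOf N), ∃ g : ↥(normalizer ((zpowers x : Subgroup G) : Set G)),
          MulAut.conj (g : G) = ((a : ↥N) : MulAut G) := by
        rintro ⟨⟨a, haN⟩, haK⟩
        rw [mem_subgroupOf] at haK
        obtain ⟨g, hg⟩ := haK
        refine ⟨⟨g, ?_⟩, hg⟩
        have h6 : (zpowers x).map a.toMonoidHom = zpowers x := haN
        have hg' : MulAut.conj g = a := hg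
        rw [mem_normalizer_iff]
        intro y
        constructor
        · intro hy
          rw [← h6]
          refine ⟨y, hy, ?_⟩
          show a y = _
          rw [← hg']; rfl
        · intro hy
          rw [← h6] at hy
          obtain ⟨w, hw, e⟩ := hy
          have e' : a w = g * y * g⁻¹ := e
          rw [← hg', MulAut.conj_apply] at e'
          have : w = y := by
            have := congrArg (fun s => g⁻¹ * s * g) e'
            simpa [mul_assoc] using this
          rwa [this] at hw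
      choose s hs using hsur
      refine Nat.card_le_card_of_injective s ?_
      intro a a' h
      have h7 : ((a : ↥N) : MulAut G) = ((a' : ↥N) : MulAut G) := by rw [← hs, ← hs, h]
      exact Subtype.ext (Subtype.ext h7)
    rw [h3]
    exact Nat.mul_le_mul h5 h4
  have h3 : m * Nat.card ↥(MulAction.stabilizer (MulAut G) x) ≤ m * (d * Nat.card ↥T) := by
    calc m * Nat.card ↥(MulAction.stabilizer (MulAut G) x) ≤ c * Nat.card ↥T * (MulAut.conj : G →* MulAut G).range.index :=
          h1.trans h2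
      _ = c * (MulAut.conj : G →* MulAut G).range.index * Nat.card ↥T := by ring
      _ ≤ d * m * Nat.card ↥T := Nat.mul_le_mul_right _ hout
      _ = m * (d * Nat.card ↥T) := by ring
  exact Nat.le_of_mul_le_mul_left h3 hm0

end

/-- If no more than `#T` automorphisms fix `x`, they are the conjugations by elements of `T`. -/
theorem inner_of_fix (hZ : center G = ⊥) (hT : ∀ y ∈ T, y * x = x * y)
    (hcard : Nat.card ↥(MulAction.stabilizer (MulAut G) x) ≤ Nat.card ↥T) {a : MulAut G} (ha : a x = x) :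
    ∃ s ∈ T, a = MulAut.conj s := by
  classical
  let f : ↥T → ↥(MulAction.stabilizer (MulAut G) x) := fun s => ⟨MulAut.conj (s : G), by
    rw [MulAction.mem_stabilizer_iff]
    show (s : G) * x * (s : G)⁻¹ = x
    rw [hT s s.2, mul_inv_cancel_right]⟩
  have hf : Function.Injective f := by
    intro s s' h
    have h1 : MulAut.conj (s : G) = MulAut.conj (s' : G) := congrArg Subtype.val h
    have h2 : (s' : G)⁻¹ * s ∈ center G := by
      rw [mem_center_iff]
      intro y
      have h3 := congrArg (fun b : MulAut G => b y) h1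
      have h4 : (s : G) * y * (s : G)⁻¹ = (s' : G) * y * (s' : G)⁻¹ := h3
      have h5 : (s : G) * y = (s' : G) * y * (s' : G)⁻¹ * s := by rw [← h4, inv_mul_cancel_right]
      calc y * ((s' : G)⁻¹ * s) = (s' : G)⁻¹ * ((s' : G) * y * (s' : G)⁻¹ * s) := by group
        _ = (s' : G)⁻¹ * s * y := by rw [← h5]; group
    rw [hZ, mem_bot] at h2
    exact Subtype.ext (inv_mul_eq_one.1 h2).symm
  obtain ⟨s, hs⟩ := (hf.bijective_of_nat_card_le hcard).2 ⟨a, ha⟩
  exact ⟨s, s.2, (congrArg Subtype.val hs).symm⟩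

/-- A cyclic Sylow subgroup. -/
theorem exists_cyclic_sylow {p : ℕ} [hp : Fact p.Prime] (hcyc : IsCyclic ↥T) (h : ¬ p ∣ T.index) :
    ∃ P : Sylow p G, IsCyclic ↥(P : Subgroup G) := by
  obtain ⟨Q⟩ : Nonempty (Sylow p ↥T) := inferInstance
  have hQ : IsPGroup p ↥((Q : Subgroup ↥T).map T.subtype) := Q.isPGroup'.map _
  obtain ⟨P, hP⟩ := hQ.exists_le_sylow
  have h1 : Nat.card ↥((Q : Subgroup ↥T).map T.subtype) = Nat.card ↥(P : Subgroup G) := by
    rw [Subgroup.card_map_of_injective T.subtype_injective]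
    rw [show Nat.card ↥(P : Subgroup G) = Nat.card P from rfl, show Nat.card ↥(Q : Subgroup ↥T) = Nat.card Q from rfl,
      P.card_eq_multiplicity, Q.card_eq_multiplicity]
    have h2 : Nat.card ↥T * T.index = Nat.card G := T.card_mul_index
    rw [← h2, Nat.factorization_mul Nat.card_pos.ne' T.index_ne_zero_of_finite, Finsupp.add_apply,
      Nat.factorization_eq_zero_of_not_dvd h, add_zero]
  have h3 : (Q : Subgroup ↥T).map T.subtype = (P : Subgroup G) := Subgroup.eq_of_le_of_card_ge hP h1.ge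
  refine ⟨P, ?_⟩
  rw [← h3]
  have h4 : (Q : Subgroup ↥T).map T.subtype ≤ T := map_subtype_le _
  have := hcyc
  exact isCyclic_of_injective (Subgroup.inclusion h4) (Subgroup.inclusion_injective h4)

end Cfsg.Agent.H83.AutCount
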