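import Cfsg.Agent.H568.Row
import Cfsg.Agent.KFacts.RgdLieCharP
import Cfsg.Agent.Nodes.CardSup

/-!
# Own characteristic: elements of large prime order normalise no unipotent subgroup (helper83)

* `card_modEq_one` : `x` of prime order `l` acting without fixed points on a subgroup `V` : `|V| ≡ 1 (mod l)`;
* `not_norm_sylow` : root group data, `l ∤ |T|`, `l ≠ r` : an element of order `l` normalises no full unipotent
  subgroup;
* `noNorm_char` : the result.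
-/

set_option autoImplicit false
set_option linter.unusedSectionVars false

namespace Cfsg.Agent.H83.OwnChar

open Subgroup Cfsg.Agent.H568
open CoxeterSystem Cfsg.Agent.ChevalleyStructure.CoxeterGeom Cfsg.Agent.Tits.Roots
  Cfsg.Agent.Nodes.Reps Cfsg.Agent.Nodes.BNOf
  Cfsg.Agent.Nodes.Bruhat Cfsg.Agent.Nodes.OppDec Cfsg.Agent.Nodes.LeviDec Cfsg.Agent.Nodes.NormX
  Cfsg.Agent.KFacts.RgdPar Cfsg.Agent.KFacts.RgdCent
  Cfsg.Agent.KFacts.RgdEx Cfsg.Agent.KFacts.RgdVJ Cfsg.Agent.KFacts.RgdCharP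
  Cfsg.Agent.KFacts.RgdBorelTits Cfsg.Agent.KFacts.RgdFilt

theorem card_modEq_one {G : Type*} [Group G] [Finite G] {l : ℕ} (hl : l.Prime) {x : G} (hx : orderOf x = l)
    {V : Subgroup G} (hV : x ∈ normalizer (V : Set G)) (hC : ∀ v ∈ V, v * x = x * v → v = 1) :
    Nat.card ↥V ≡ 1 [MOD l] := by
  have hlf : Fact l.Prime := ⟨hl⟩
  let act : ↥(zpowers x) →* MulAut ↥V := (V.normalizerMonoidHom).comp (inclusion (by rwa [zpowers_le]))
  letI : MulAction ↥(zpowers x) ↥V := MulAction.compHom _ act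
  have hP : IsPGroup l ↥(zpowers x) := IsPGroup.of_card (n := 1) (by rw [Nat.card_zpowers, hx, pow_one])
  have h1 := hP.card_modEq_card_fixedPoints (α := ↥V)
  refine h1.trans ?_
  have h2 : Nat.card (MulAction.fixedPoints ↥(zpowers x) ↥V) = 1 := by
    rw [Nat.card_eq_one_iff_unique]
    refine ⟨⟨fun a b => ?_⟩, ⟨⟨1, fun g => ?_⟩⟩⟩
    · have key : ∀ c : MulAction.fixedPoints ↥(zpowers x) ↥V, (c : ↥V) = 1 := by
        intro c
        have h3 := c.2 ⟨x, mem_zpowers x⟩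
        have h4 : x * (c : ↥V) * x⁻¹ = ((c : ↥V) : G) := congrArg (Subtype.val : ↥V → G) h3
        apply Subtype.ext
        apply hC _ (c : ↥V).2
        rw [mul_inv_eq_iff_eq_mul] at h4
        exact h4.symm
      apply Subtype.ext
      rw [key a, key b]
    · show act g 1 = 1
      rw [map_one]
  rw [h2]

section

variable {I W Y : Type*} [Fintype I] [DecidableEq I] [Group W] [Group Y] {M : CoxeterMatrix I}
  {cs : CoxeterSystem M W} {A : I → I → ℤ} {h : IsCartan M A} {p : ℕ} {T : Subgroup Y} {n : I → Y}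
  {X : (I → ℤ) → Subgroup Y} (R : RGD cs h p T n X)

include R

/-- `x ^ |T| ∈ U` for `x ∈ B`. -/
theorem pow_mem_U {x : Y} (hx : x ∈ RGD.B cs h T X) : x ^ Nat.card ↥T ∈ RGD.Sup X (RGD.Pos cs h) := by
  obtain ⟨t, ht, u, hu, e⟩ := R.mem_B.1 hx
  set N : Subgroup Y := Subgroup.normalizer (RGD.Sup X (RGD.Pos cs h) : Set Y) with hN
  have hxN : x ∈ N := R.B_le_normalizer_U hx
  have htN : t ∈ N := R.T_le_normalizer_U ht
  have : ((RGD.Sup X (RGD.Pos cs h)).subgroupOf N).Normal := Subgroup.normal_in_normalizer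
  have h1 : (QuotientGroup.mk ⟨t, htN⟩ : ↥N ⧸ (RGD.Sup X (RGD.Pos cs h)).subgroupOf N) = QuotientGroup.mk ⟨x, hxN⟩ := by
    rw [QuotientGroup.eq, Subgroup.mem_subgroupOf]
    have : t⁻¹ * x = u := by rw [e]; group
    change t⁻¹ * x ∈ _
    rw [this]; exact hu
  have h2 : t ^ Nat.card ↥T = 1 := by
    have h3 : (⟨t, ht⟩ : ↥T) ^ Nat.card ↥T = 1 := pow_card_eq_one'
    exact congrArg (Subtype.val : ↥T → Y) h3
  have h4 : (QuotientGroup.mk (⟨x, hxN⟩ ^ Nat.card ↥T) : ↥N ⧸ (RGD.Sup X (RGD.Pos cs h)).subgroupOf N) = 1 := by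
    rw [QuotientGroup.mk_pow, ← h1, ← QuotientGroup.mk_pow]
    have h5 : (⟨t, htN⟩ : ↥N) ^ Nat.card ↥T = 1 := Subtype.ext h2
    rw [h5]
    rfl
  rw [QuotientGroup.eq_one_iff, Subgroup.mem_subgroupOf] at h4
  exact h4

/-- An element of prime order `l ∤ p |T|` normalises no full unipotent subgroup. -/
theorem not_norm_sylow [Finite Y] [Finite W] [hp : Fact p.Prime] (hG : GG cs h T X = ⊤) {l : ℕ} (hl : l.Prime)
    (hlp : l ≠ p) (hlT : ¬ l ∣ Nat.card ↥T) {x : Y} (hx : orderOf x = l) {V : Subgroup Y} (hV : IsPGroup p V)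
    (hVs : ¬ p ∣ V.index) : x ∉ normalizer (V : Set Y) := by
  intro hxV
  obtain ⟨g, hg⟩ := exists_conj_U hG hV R
  -- `V = cj g U`
  let P : Sylow p Y := hV.toSylow hVs
  have hU : IsPGroup p ↥(RGD.Sup X (RGD.Pos cs h)) := R.isPGroup_Upos
  have e : V = cj g (RGD.Sup X (RGD.Pos cs h)) := by
    have h1 := P.3 (Q := cj g (RGD.Sup X (RGD.Pos cs h))) (by unfold cj; exact hU.map _) hg
    exact h1.symm
  have h2 : g⁻¹ * x * g ∈ normalizer (RGD.Sup X (RGD.Pos cs h) : Set Y) := by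
    rw [e, normalizer_cj] at hxV
    exact mem_cj.1 hxV
  have h3 : g⁻¹ * x * g ∈ RGD.B cs h T X := by
    rw [← Nodes.NormalForm.normalizer_U R, hG, inf_top_eq]
    exact h2
  have h4 := pow_mem_U R h3
  set y := g⁻¹ * x * g with hy
  have hyo : orderOf y = l := by
    rw [← hx]
    have h5 : y = MulAut.conj g⁻¹ x := by rw [hy, MulAut.conj_apply, inv_inv]
    rw [h5]
    exact orderOf_injective (MulAut.conj g⁻¹).toMonoidHom (MulAut.conj g⁻¹).injective x
  obtain ⟨k, hk⟩ := hU ⟨_, h4⟩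
  have h6 : (y ^ Nat.card ↥T) ^ p ^ k = 1 := congrArg Subtype.val hk
  rw [← pow_mul] at h6
  have h7 := orderOf_dvd_of_pow_eq_one h6
  rw [hyo] at h7
  rcases hl.dvd_mul.1 h7 with h8 | h8
  · exact hlT h8
  · exact hlp ((Nat.prime_dvd_prime_iff_eq hl hp.1).1 (hl.dvd_of_dvd_pow h8))

end

/-- **Own characteristic.** -/
theorem noNorm_char {G : Type*} [Group G] [Finite G] [IsSimpleGroup G] {r : ℕ} [hr : Fact r.Prime]
    (hc : ∃ a b : G, a * b ≠ b * a) (hF : HasFilt r G) {I W : Type*} [Fintype I] [DecidableEq I] [Group W] [Finite W]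
    {M : CoxeterMatrix I} {cs : CoxeterSystem M W} {A : I → I → ℤ} {h : IsCartan M A} {T : Subgroup G} {n : I → G}
    {X : (I → ℤ) → Subgroup G} (R : RGD cs h r T n X) (hG : GG cs h T X = ⊤) {l : ℕ} (hl : l.Prime)
    (hlr : l ≠ r) (hlT : ¬ l ∣ Nat.card ↥T) {x : G} (hx : orderOf x = l)
    (hcent : ¬ r ∣ Nat.card ↥(centralizer {x}))
    (hk : ∀ k, 1 ≤ k → r ^ k ∣ Nat.card G → l ∣ r ^ k - 1 → ¬ r ^ (k + 1) ∣ Nat.card G) : NoNorm r x := by
  intro Q hQ hn
  by_contra hQ1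
  obtain ⟨V, P, hV, hQV, hNP, rfl, -, -⟩ := hF.exists_par hc hQ hQ1
  have hxV : x ∈ normalizer (V : Set G) := hNP hn
  have hV1 : V ≠ ⊥ := fun h1 => hQ1 (le_bot_iff.1 (h1 ▸ hQV))
  obtain ⟨k, hk1⟩ := (IsPGroup.iff_card.1 hV)
  have hk0 : 1 ≤ k := by
    rcases Nat.eq_zero_or_pos k with h0 | h0
    · exfalso
      rw [h0, pow_zero] at hk1
      exact hV1 (Subgroup.card_eq_one.1 hk1)
    · exact h0
  have hC : ∀ v ∈ V, v * x = x * v → v = 1 := by
    intro v hv hvx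
    by_contra hv1
    obtain ⟨m, hm⟩ := hV ⟨v, hv⟩
    have hm' : v ^ r ^ m = 1 := congrArg Subtype.val hm
    have hd : orderOf v ∣ r ^ m := orderOf_dvd_of_pow_eq_one hm'
    obtain ⟨j, -, hj⟩ := (Nat.dvd_prime_pow hr.1).1 hd
    have hj0 : j ≠ 0 := by
      rintro rfl
      rw [pow_zero, orderOf_eq_one_iff] at hj
      exact hv1 hj
    have h1 : orderOf (⟨v, mem_centralizer_singleton_iff.2 hvx⟩ : ↥(centralizer {x})) ∣ Nat.card ↥(centralizer {x}) :=
      orderOf_dvd_natCard _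
    rw [Subgroup.orderOf_mk, hj] at h1
    exact hcent ((dvd_pow_self r hj0).trans h1)
  have h1 := card_modEq_one hl hx hxV hC
  rw [hk1] at h1
  have h2 : l ∣ r ^ k - 1 := (Nat.modEq_iff_dvd' (Nat.one_le_pow _ _ hr.1.pos)).1 h1.symm
  have h3 : r ^ k ∣ Nat.card G := by rw [← hk1]; exact Subgroup.card_subgroup_dvd_card V
  have h4 := hk k hk0 h3 h2
  refine not_norm_sylow R hG hl hlr hlT hx hV ?_ hxV
  rintro ⟨m, hm⟩
  apply h4
  rw [← Subgroup.card_mul_index V, hk1, hm, pow_succ, ← mul_assoc]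
  exact Dvd.intro _ rfl

/-- **Own characteristic**, with the orders of the unipotent radicals. -/
theorem noNorm_char_bt {G : Type*} [Group G] [Finite G] {r : ℕ} [hr : Fact r.Prime]
    {I W : Type*} [Fintype I] [DecidableEq I] [Group W] [Finite W]
    {M : CoxeterMatrix I} {cs : CoxeterSystem M W} {A : I → I → ℤ} {h : IsCartan M A} {T : Subgroup G} {n : I → G}
    {X : (I → ℤ) → Subgroup G} (R : RGD cs h r T n X) {F : (I → ℤ) → ℝ → Subgroup G} (hF : Filt R F)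
    (hG1 : Nodes.RGDLib.G1 cs h X = ⊤) {l : ℕ} (hl : l.Prime)
    (hlr : l ≠ r) (hlT : ¬ l ∣ Nat.card ↥T) {x : G} (hx : orderOf x = l)
    (hcent : ¬ r ∣ Nat.card ↥(centralizer {x}))
    (hk : ∀ (J : Set I) (k : ℕ), J ≠ Set.univ → 1 ≤ k → Nat.card ↥(Nodes.LeviDec.VJ cs h X J) = r ^ k →
      r ^ k ∣ Nat.card G → l ∣ r ^ k - 1 → ¬ r ^ (k + 1) ∣ Nat.card G) : NoNorm r x := by
  have hG : GG cs h T X = ⊤ := KFacts.RgdFilt.GG_eq_top hG1
  intro Q hQ hn
  by_contra hQ1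
  obtain ⟨g, J, hJ, hQV, hNP⟩ := borel_tits_of_filt hF hG1 hQ hQ1
  set V := cj g (Nodes.LeviDec.VJ cs h X J) with hVdef
  have hV : IsPGroup r ↥V := by
    rw [hVdef]; unfold cj
    exact (isPGroup_VJ R J).map _
  have hxV : x ∈ normalizer (V : Set G) := by
    have h1 : cj g (Nodes.LeviDec.PJ cs h T X J) ≤ normalizer (V : Set G) := by
      rw [hVdef, normalizer_cj]
      exact cj_mono g (PJ_le_normalizer_VJ R J)
    exact h1 (hNP hn)
  have hV1 : V ≠ ⊥ := fun h1 => hQ1 (le_bot_iff.1 (h1 ▸ hQV))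
  obtain ⟨k, hk1⟩ := (IsPGroup.iff_card.1 hV)
  have hk0 : 1 ≤ k := by
    rcases Nat.eq_zero_or_pos k with h0 | h0
    · exfalso
      rw [h0, pow_zero] at hk1
      exact hV1 (Subgroup.card_eq_one.1 hk1)
    · exact h0
  have hC : ∀ v ∈ V, v * x = x * v → v = 1 := by
    intro v hv hvx
    by_contra hv1
    obtain ⟨m, hm⟩ := hV ⟨v, hv⟩
    have hm' : v ^ r ^ m = 1 := congrArg Subtype.val hm
    have hd : orderOf v ∣ r ^ m := orderOf_dvd_of_pow_eq_one hm'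
    obtain ⟨j, -, hj⟩ := (Nat.dvd_prime_pow hr.1).1 hd
    have hj0 : j ≠ 0 := by
      rintro rfl
      rw [pow_zero, orderOf_eq_one_iff] at hj
      exact hv1 hj
    have h1 : orderOf (⟨v, mem_centralizer_singleton_iff.2 hvx⟩ : ↥(centralizer {x})) ∣ Nat.card ↥(centralizer {x}) :=
      orderOf_dvd_natCard _
    rw [Subgroup.orderOf_mk, hj] at h1
    exact hcent ((dvd_pow_self r hj0).trans h1)
  have h1 := card_modEq_one hl hx hxV hC
  rw [hk1] at h1
  have h2 : l ∣ r ^ k - 1 := (Nat.modEq_iff_dvd' (Nat.one_le_pow _ _ hr.1.pos)).1 h1.symm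
  have h3 : r ^ k ∣ Nat.card G := by rw [← hk1]; exact Subgroup.card_subgroup_dvd_card V
  have h4 := hk J k hJ hk0 (by rw [← hk1, hVdef, Nodes.CardSup.card_cj]) h3 h2
  refine not_norm_sylow R hG hl hlr hlT hx hV ?_ hxV
  rintro ⟨m, hm⟩
  apply h4
  rw [← Subgroup.card_mul_index V, hk1, hm, pow_succ, ← mul_assoc]
  exact Dvd.intro _ rfl

end Cfsg.Agent.H83.OwnChar
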