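import Cfsg.Agent.H568.LinP
import Cfsg.Agent.H568.Row

/-!
# `PCent` in central quotients of linear groups (helper83)

`pcent_quot` : `Γ` a finite linear group of degree `< l` in characteristic `≠ p`; every element of prime order `l ≠ p` of
`Γ ⧸ Z(Γ)` centralises the `p`-subgroups which it normalises.
`pcent_of_injective` : `PCent` in subgroups.
-/

set_option autoImplicit false

namespace Cfsg.Agent.H83.PQuot

open Subgroup Cfsg.Agent.H568

theorem pcent_of_injective {S G : Type*} [Group S] [Group G] {p : ℕ} (f : S →* G) (hf : Function.Injective f) {x : S}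
    (h : PCent p (f x)) : PCent p x := by
  intro Q hQ hx y hy
  apply hf
  rw [map_mul, map_mul]
  refine h (Q.map f) (hQ.map f) ?_ (f y) (mem_map_of_mem f hy)
  rw [mem_normalizer_iff]
  intro z
  constructor
  · rintro ⟨w, hw, rfl⟩
    exact ⟨x * w * x⁻¹, (mem_normalizer_iff.1 hx w).1 hw, by simp⟩
  · rintro ⟨w, hw, e⟩
    refine ⟨x⁻¹ * w * x, ?_, ?_⟩
    · have h1 := (mem_normalizer_iff.1 (inv_mem hx) w).1 hw
      rwa [inv_inv] at h1
    · rw [map_mul, map_mul, map_inv, e]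
      group

theorem pcent_congr {S G : Type*} [Group S] [Group G] {p : ℕ} (f : S ≃* G) {x : S} (h : PCent p (f x)) :
    PCent p x := pcent_of_injective f.toMonoidHom f.injective h

theorem pcent_quot {Γ : Type*} [Group Γ] [Finite Γ] {k : Type*} [Field k] {ι : Type*} [Fintype ι] [DecidableEq ι]
    (ρ : Γ →* GL ι k) (hρ : Function.Injective ρ) {p l : ℕ} (hp : p.Prime) (hp2 : p ≠ 2) (hl : l.Prime)
    (hlp : l ≠ p) (hpk : (p : k) ≠ 0) (hcard : Fintype.card ι < l) {x : Γ ⧸ center Γ} (hx : orderOf x = l) :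
    PCent p x := by
  classical
  have hpf : Fact p.Prime := ⟨hp⟩
  obtain ⟨x, rfl⟩ := QuotientGroup.mk'_surjective (center Γ) x
  set π := QuotientGroup.mk' (center Γ) with hπ
  have hker : ∀ y, π y = 1 ↔ y ∈ center Γ := fun y => by
    rw [hπ, QuotientGroup.mk'_apply, QuotientGroup.eq_one_iff]
  intro Q hQ hxn y0 hy0
  set R := Q.comap π with hR
  have hxR : ∀ y, y ∈ R → x * y * x⁻¹ ∈ R := by
    intro y hy
    show π (x * y * x⁻¹) ∈ Q
    rw [map_mul, map_mul, map_inv]
    exact (mem_normalizer_iff.1 hxn _).1 hy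
  have hxR' : ∀ y, x * y * x⁻¹ ∈ R → y ∈ R := by
    intro y hy
    have h1 : π (x * y * x⁻¹) ∈ Q := hy
    rw [map_mul, map_mul, map_inv] at h1
    exact (mem_normalizer_iff.1 hxn _).2 h1
  -- `R` is nilpotent
  let f : R →* Q := (π.comp R.subtype).codRestrict Q fun y => y.2
  have hQn : Group.IsNilpotent ↥Q := hQ.isNilpotent
  have hRn : Group.IsNilpotent ↥R := by
    refine Subgroup.isNilpotent_of_ker_le_center f ?_
    intro y hy
    have h1 : π (y : Γ) = 1 := congrArg Subtype.val (MonoidHom.mem_ker.1 hy)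
    rw [hker] at h1
    rw [mem_center_iff]
    intro z
    exact Subtype.ext (mem_center_iff.1 h1 z)
  obtain ⟨P⟩ : Nonempty (Sylow p ↥R) := inferInstance
  have hPn : (P : Subgroup ↥R).Normal := Sylow.normal_of_normalizerCondition Group.normalizerCondition_of_isNilpotent P
  have hPc : (P : Subgroup ↥R).Characteristic := Sylow.characteristic_of_normal P hPn
  -- the action of `x` on `R`
  let α : ↥R ≃* ↥R :=
    { toFun := fun y => ⟨x * y * x⁻¹, hxR y y.2⟩
      invFun := fun y => ⟨x⁻¹ * y * x, hxR' _ (by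
        have e : x * (x⁻¹ * (y : Γ) * x) * x⁻¹ = y := by group
        rw [e]; exact y.2)⟩
      left_inv := fun y => Subtype.ext (by show x⁻¹ * (x * (y : Γ) * x⁻¹) * x = y; group)
      right_inv := fun y => Subtype.ext (by show x * (x⁻¹ * (y : Γ) * x) * x⁻¹ = y; group)
      map_mul' := fun y z => Subtype.ext (by show x * ((y : Γ) * z) * x⁻¹ = x * y * x⁻¹ * (x * z * x⁻¹); group) }
  have hα : ∀ y : ↥R, α y ∈ (P : Subgroup ↥R) ↔ y ∈ (P : Subgroup ↥R) := by
    intro y
    have h1 := (Subgroup.characteristic_iff_comap_eq.1 hPc) α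
    constructor
    · intro h2
      have h3 : y ∈ (P : Subgroup ↥R).comap α.toMonoidHom := h2
      rwa [h1] at h3
    · intro h2
      have h3 : y ∈ (P : Subgroup ↥R).comap α.toMonoidHom := by rw [h1]; exact h2
      exact h3
  set P' := (P : Subgroup ↥R).map R.subtype with hP'
  have hxP : x ∈ normalizer (P' : Set Γ) := by
    rw [mem_normalizer_iff]
    intro y
    constructor
    · rintro ⟨z, hz, rfl⟩
      exact ⟨α z, (hα z).2 hz, rfl⟩
    · rintro ⟨z, hz, e⟩
      have hyR : y ∈ R := hxR' y (by rw [← e]; exact z.2)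
      refine ⟨⟨y, hyR⟩, ?_, rfl⟩
      rw [SetLike.mem_coe, ← hα]
      have e2 : α ⟨y, hyR⟩ = z := Subtype.ext e.symm
      rw [e2]
      exact hz
  have hxl : ∀ y ∈ P', x ^ l * y = y * x ^ l := by
    intro y _
    have h1 : π (x ^ l) = 1 := by rw [map_pow, ← hx, pow_orderOf_eq_one]
    rw [hker] at h1
    exact (mem_center_iff.1 h1 y).symm
  have hcomm := linP ρ hp hp2 hl hlp hpk P' (P.isPGroup'.map _) (fun y _ h => hρ (by rw [h, map_one])) x hxP hxl hcard
  -- conclusion
  obtain ⟨y, rfl⟩ := QuotientGroup.mk'_surjective (center Γ) y0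
  have hyR : y ∈ R := hy0
  suffices h : x * y = y * x by
    show π x * π y = π y * π x
    rw [← map_mul, h, map_mul]
  -- decompose `y`
  have hn0 : orderOf y ≠ 0 := (orderOf_pos y).ne'
  obtain ⟨a, m, hm, hn⟩ := Nat.exists_eq_pow_mul_and_not_dvd hn0 p hp.ne_one
  have hco : Nat.Coprime m (p ^ a) := (Nat.Coprime.pow_right a ((Nat.Prime.coprime_iff_not_dvd hp).2 hm).symm)
  -- the `p`-part
  have h1 : y ^ m ∈ P' := by
    refine ⟨⟨y ^ m, pow_mem hyR m⟩, ?_, rfl⟩
    have h2 : IsPGroup p ↥(zpowers (⟨y ^ m, pow_mem hyR m⟩ : ↥R)) := by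
      rw [IsPGroup.iff_orderOf]
      rintro ⟨w, hw⟩
      obtain ⟨i, rfl⟩ := hw
      have h3 : orderOf ((⟨y ^ m, pow_mem hyR m⟩ : ↥R) ^ i) ∣ p ^ a := by
        apply orderOf_dvd_of_pow_eq_one
        apply Subtype.ext
        show ((y ^ m) ^ i) ^ p ^ a = 1
        have e : ((y ^ m) ^ i) ^ p ^ a = (y ^ (p ^ a * m)) ^ i := by
          rw [← zpow_natCast ((y ^ m) ^ i), ← zpow_mul, mul_comm, zpow_mul, zpow_natCast, ← pow_mul, mul_comm m]
        rw [e, ← hn, pow_orderOf_eq_one, one_zpow]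
      obtain ⟨j, -, hj⟩ := (Nat.dvd_prime_pow hp).1 h3
      refine ⟨j, ?_⟩
      rw [← hj]
      exact (Subgroup.orderOf_coe _).symm
    obtain ⟨P2, hP2⟩ := h2.exists_le_sylow
    have h4 : P2 = P := by
      have : Subsingleton (Sylow p ↥R) := (Sylow.unique_of_normal P hPn).instSubsingleton
      exact Subsingleton.elim _ _
    rw [h4] at hP2
    exact hP2 (mem_zpowers _)
  -- the `p'`-part
  have h2 : y ^ p ^ a ∈ center Γ := by
    rw [← hker, map_pow]
    obtain ⟨b, hb⟩ := hQ ⟨π y, hy0⟩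
    have hb' : π y ^ p ^ b = 1 := congrArg Subtype.val hb
    have h3 : orderOf (π y) ∣ p ^ b := orderOf_dvd_of_pow_eq_one hb'
    have h4 : orderOf (π y) ∣ p ^ a * m := by rw [← hn]; exact orderOf_map_dvd π y
    obtain ⟨c, -, hc⟩ := (Nat.dvd_prime_pow hp).1 h3
    have h5 : orderOf (π y) ∣ p ^ a := by
      refine Nat.Coprime.dvd_of_dvd_mul_right ?_ h4
      rw [hc]
      exact Nat.Coprime.pow_left c ((Nat.Prime.coprime_iff_not_dvd hp).2 hm)
    exact orderOf_dvd_iff_pow_eq_one.1 h5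
  have h3 := hcomm _ h1
  have h4 : x * y ^ p ^ a = y ^ p ^ a * x := mem_center_iff.1 h2 x
  have hbez : ∃ u v : ℤ, (m : ℤ) * u + (p ^ a : ℕ) * v = 1 := by
    have := (Nat.isCoprime_iff_coprime.2 hco)
    obtain ⟨u, v, huv⟩ := this
    exact ⟨u, v, by linarith⟩
  obtain ⟨u, v, huv⟩ := hbez
  have e : y = (y ^ m) ^ u * (y ^ p ^ a) ^ v := by
    rw [← zpow_natCast, ← zpow_mul, ← zpow_natCast y (p ^ a), ← zpow_mul, ← zpow_add, huv, zpow_one]
  have c1 : Commute x ((y ^ m) ^ u) := (show Commute x (y ^ m) from h3).zpow_right u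
  have c2 : Commute x ((y ^ p ^ a) ^ v) := (show Commute x (y ^ p ^ a) from h4).zpow_right v
  have c3 : Commute x y := by rw [e]; exact c1.mul_right c2
  exact c3

end Cfsg.Agent.H83.PQuot
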