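import Cfsg.Agent.H83.TorD4
import Cfsg.Agent.H83.PQuot
import Cfsg.Agent.H568.RowTools
import Cfsg.Agent.H69.OutTwD4
import Cfsg.Agent.H166.FieldAut
import Cfsg.Agent.Lib.Zsigmondy
import Cfsg.Agent.H83.OwnChar
import Cfsg.Agent.H997.OutCard
import Cfsg.Agent.S1067
import Cfsg.Agent.S1071
import Cfsg.Agent.S1082
import Cfsg.Agent.S1088

/-!
# The row of `³D₄(q)` in S4329 (helper83)
-/

set_option autoImplicit false

namespace Cfsg.Agent.H83.RowD4

open Subgroup Cfsg Cfsg.Lie Cfsg.Agent.H568 Cfsg.Agent.H83.AutCount Cfsg.Agent.H83.PQuot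

universe u

/-! ### numbers -/

theorem exists_l {r f : ℕ} (hr : r.Prime) (hf : 1 ≤ f) :
    ∃ l : ℕ, l.Prime ∧ orderOf (r : ZMod l) = 12 * f ∧ l ∣ (r ^ f) ^ 4 - (r ^ f) ^ 2 + 1 ∧ 12 * f < l ∧ l ≠ r := by
  obtain ⟨l, hl, hd, hl1, hlr⟩ := Lib.Zsigmondy.exists_primitive hr.two_le (n := 12 * f) (by omega) (by omega) (by omega)
  have hlf : Fact l.Prime := ⟨hl⟩
  have hl2 := hl.two_le
  have hpos : ∀ m, 1 ≤ r ^ m := fun m => Nat.one_le_pow _ _ hr.pos
  have hord : orderOf (r : ZMod l) = 12 * f := by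
    have key : ∀ m, (r : ZMod l) ^ m = 1 ↔ 12 * f ∣ m := by
      intro m
      rw [← hd m, ← ZMod.natCast_eq_zero_iff, Nat.cast_sub (hpos m)]
      push_cast
      rw [sub_eq_zero]
    apply Nat.dvd_antisymm
    · rw [orderOf_dvd_iff_pow_eq_one, key]
    · rw [← key, pow_orderOf_eq_one]
  refine ⟨l, hl, hord, ?_, ?_, ?_⟩
  · set q := r ^ f with hq
    have hq1 : 1 ≤ q := hpos f
    have h12 : l ∣ q ^ 12 - 1 := by rw [hq, ← pow_mul, hd]; exact ⟨1, by ring⟩
    have h6 : ¬ l ∣ q ^ 6 - 1 := by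
      rw [hq, ← pow_mul, hd]
      intro h
      have := Nat.le_of_dvd (by omega) h
      omega
    have h4 : ¬ l ∣ q ^ 4 - 1 := by
      rw [hq, ← pow_mul, hd]
      intro h
      have := Nat.le_of_dvd (by omega) h
      omega
    have e1 : q ^ 12 - 1 = (q ^ 6 - 1) * ((q ^ 2 + 1) * (q ^ 4 - q ^ 2 + 1)) := by
      have h0 : q ^ 2 ≤ q ^ 4 := Nat.pow_le_pow_right hq1 (by norm_num)
      have h01 : 1 ≤ q ^ 12 := Nat.one_le_pow _ _ hq1
      have h02 : 1 ≤ q ^ 6 := Nat.one_le_pow _ _ hq1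
      zify [h0, h01, h02]
      ring
    have e2 : q ^ 4 - 1 = (q ^ 2 - 1) * (q ^ 2 + 1) := by
      have h01 : 1 ≤ q ^ 4 := Nat.one_le_pow _ _ hq1
      have h02 : 1 ≤ q ^ 2 := Nat.one_le_pow _ _ hq1
      zify [h01, h02]
      ring
    rw [e1] at h12
    rcases hl.dvd_mul.1 h12 with h | h
    · exact absurd h h6
    rcases hl.dvd_mul.1 h with h | h
    · exact absurd (by rw [e2]; exact h.mul_left _) h4
    · exact h
  · have := Nat.le_of_dvd (by omega) hl1
    omega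
  · rintro rfl
    exact hlr dvd_rfl

theorem index_mod {q m c : ℕ} (hq : 1 ≤ q) (hm : m ∣ q ^ 4 - q ^ 2 + 1)
    (hc : c * (q ^ 4 - q ^ 2 + 1) = q ^ 12 * (q ^ 2 - 1) * (q ^ 6 - 1) * (q ^ 8 + q ^ 4 + 1)) : c ≡ 4 [MOD m] := by
  have h0 : q ^ 2 ≤ q ^ 4 := Nat.pow_le_pow_right hq (by norm_num)
  have h1 : 1 ≤ q ^ 2 := Nat.one_le_pow _ _ hq
  have h2 : 1 ≤ q ^ 6 := Nat.one_le_pow _ _ hq
  have e : c = q ^ 12 * (q ^ 2 - 1) * (q ^ 6 - 1) * (q ^ 4 + q ^ 2 + 1) := by
    have hpos : 0 < q ^ 4 - q ^ 2 + 1 := by omega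
    apply Nat.eq_of_mul_eq_mul_right hpos
    rw [hc]
    zify [h0, h1, h2]
    ring
  rw [← ZMod.natCast_eq_natCast_iff, e]
  have h3 : (q : ZMod m) ^ 4 = (q : ZMod m) ^ 2 - 1 := by
    have h4 := (ZMod.natCast_eq_zero_iff (q ^ 4 - q ^ 2 + 1) m).2 hm
    push_cast [Nat.cast_sub h0] at h4
    linear_combination h4
  push_cast [Nat.cast_sub h1, Nat.cast_sub h2]
  set y := (q : ZMod m) with hy
  have h6 : y ^ 6 = -1 := by
    calc y ^ 6 = y ^ 4 * y ^ 2 := by ring
      _ = y ^ 4 - y ^ 2 := by rw [h3]; linear_combination h3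
      _ = -1 := by rw [h3]; ring
  calc y ^ 12 * (y ^ 2 - 1) * (y ^ 6 - 1) * (y ^ 4 + y ^ 2 + 1)
      = (y ^ 6) ^ 2 * (y ^ 2 - 1) * (y ^ 6 - 1) * (y ^ 4 + y ^ 2 + 1) := by ring
    _ = (-2) * ((y ^ 2 - 1) * (y ^ 2 - 1 + y ^ 2 + 1)) := by rw [h6, h3]; ring
    _ = (-4) * (y ^ 4 - y ^ 2) := by ring
    _ = 4 := by rw [h3]; ring

/-! ### the group -/

section

variable {K : Type u} [Field K] [Fintype K] {q : ℕ} (hq : IsPrimePow q) (hK : Fintype.card K = q ^ 3)

include hq hK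

theorem pcent {r : ℕ} [Fact r.Prime] [CharP K r] {p l : ℕ} (hp : p.Prime) (hp2 : p ≠ 2) (hpr : p ≠ r) (hl : l.Prime)
    (hlp : l ≠ p) (h8 : 8 < l) {x : ↥(twistedD4 K q)} (hx : orderOf x = l) : PCent p x := by
  obtain ⟨e⟩ := S1082.result (F := K)
  have hle : twistedD4 K q ≤ chevD4.group K := H129.TriD4.tw_le hq hK
  let f : ↥(twistedD4 K q) →* POmega K (quadFormPlus 4 K) := e.toMonoidHom.comp (Subgroup.inclusion hle)
  have hf : Function.Injective f := e.injective.comp (Subgroup.inclusion_injective hle)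
  refine pcent_of_injective f hf ?_
  have hfin : Finite ↥(Omega K (quadFormPlus 4 K)) := inferInstance
  refine pcent_quot (Γ := ↥(Omega K (quadFormPlus 4 K)))
    ((isometryGroup K (quadFormPlus 4 K)).subtype.comp (Omega K (quadFormPlus 4 K)).subtype)
    (Subtype.val_injective.comp Subtype.val_injective) hp hp2 hl hlp ?_ ?_ ?_
  · intro h
    rw [CharP.cast_eq_zero_iff K r] at h
    exact hpr ((Nat.prime_dvd_prime_iff_eq (Fact.out : r.Prime) hp).1 h).symm
  · simpa using h8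
  · rw [← hx]
    exact orderOf_injective f hf x


/-- Own characteristic. -/
theorem noNorm_own {r f : ℕ} [hr : Fact r.Prime] [CharP K r] (hqf : q = r ^ f) (hf : 1 ≤ f) {l : ℕ} (hl : l.Prime)
    (hord : orderOf (r : ZMod l) = 12 * f) (hlN : l ∣ q ^ 4 - q ^ 2 + 1) (hlr : l ≠ r)
    {x : ↥(twistedD4 K q)} (hx : orderOf x = l) (hcent : Nat.card ↥(centralizer {x}) = q ^ 4 - q ^ 2 + 1) :
    NoNorm r x := by
  have hlf : Fact l.Prime := ⟨hl⟩
  obtain ⟨φ, hφ⟩ := Cfsg.Agent.ChevalleyStructure.D4Fixed.exists_frob hq hK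
  obtain ⟨hsim, hna⟩ := S1071.result hq hK
  have hq1 := hq.one_lt
  have hne : ∃ a b : ↥(twistedD4 K q), a * b ≠ b * a := by
    by_contra hcon
    push Not at hcon
    exact hna ⟨⟨hcon⟩⟩
  let cs : CoxeterSystem CoxeterMatrix.G₂ CoxeterMatrix.G₂.Group := CoxeterMatrix.G₂.toCoxeterSystem
  have hfin : Finite CoxeterMatrix.G₂.Group :=
    Cfsg.Agent.Nodes.RGDFold.finite_W (hp := Cfsg.Agent.Nodes.RGDTwD4.hp) cs Cfsg.Agent.Nodes.RGDTwD4.isCartan Cfsg.Agent.Nodes.RGDTwD4.foldData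
  have R := Cfsg.Agent.Nodes.RGDTwD4.rgd cs hK hφ r
  have hpow : ∀ m, l ∣ r ^ m - 1 ↔ 12 * f ∣ m := by
    intro m
    rw [← hord, orderOf_dvd_iff_pow_eq_one, ← ZMod.natCast_eq_zero_iff, Nat.cast_sub (Nat.one_le_pow _ _ hr.1.pos)]
    push_cast
    rw [sub_eq_zero]
  have hcop : ∀ m, 1 ≤ m → ¬ r ∣ q ^ m - 1 := by
    intro m hm h
    have h1 : r ∣ q ^ m := by
      rw [hqf, ← pow_mul]
      exact dvd_pow_self r (Nat.mul_ne_zero (by omega) (by omega))
    have h2 : 1 ≤ q ^ m := Nat.one_le_pow _ _ (by omega)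
    have h3 : r ∣ 1 := by
      have := (Nat.dvd_sub h1 h)
      rwa [Nat.sub_sub_self h2] at this
    exact hr.1.one_lt.ne' (Nat.dvd_one.1 h3)
  have hrq : r ∣ q := by rw [hqf]; exact dvd_pow_self r (by omega)
  refine OwnChar.noNorm_char (cs := cs) hne (KFacts.RgdFiltTwAll.hasFilt_D4 hq hK r) R
    (KFacts.RgdFilt.GG_eq_top (Cfsg.Agent.Nodes.RGDTwD4.G1_eq_top cs hK hφ)) hl hlr ?_ hx ?_ ?_
  · rw [H69.OutTwD4.card_T hq hK]
    intro h
    rcases hl.dvd_mul.1 h with h1 | h1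
    · rw [hqf, ← pow_mul, hpow] at h1
      have := Nat.le_of_dvd (by omega) h1
      omega
    · rw [show q - 1 = r ^ f - 1 by rw [hqf], hpow] at h1
      have := Nat.le_of_dvd (by omega) h1
      omega
  · rw [hcent]
    intro h
    have h0 : q ^ 2 ≤ q ^ 4 := Nat.pow_le_pow_right (by omega) (by norm_num)
    have h1 : r ∣ q ^ 4 - q ^ 2 := Nat.dvd_sub (dvd_pow hrq (by norm_num)) (dvd_pow hrq (by norm_num))
    exact hr.1.one_lt.ne' (Nat.dvd_one.1 ((Nat.dvd_add_right h1).1 h))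
  · intro k hk0 hkG hlk
    rw [hpow] at hlk
    obtain ⟨j, hj⟩ := hlk
    have hj0 : 1 ≤ j := by
      rcases Nat.eq_zero_or_pos j with h | h
      · rw [h] at hj; omega
      · exact h
    rw [S1067.result hq hK]
    have hco : ∀ m, Nat.Coprime (r ^ m) ((q ^ 2 - 1) * (q ^ 6 - 1) * (q ^ 8 + q ^ 4 + 1)) := by
      intro m
      apply Nat.Coprime.pow_left
      rw [Nat.Prime.coprime_iff_not_dvd hr.1]
      intro h
      rcases hr.1.dvd_mul.1 h with h | h
      · rcases hr.1.dvd_mul.1 h with h | h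
        · exact hcop 2 (by norm_num) h
        · exact hcop 6 (by norm_num) h
      · have h1 : r ∣ q ^ 8 + q ^ 4 := dvd_add (dvd_pow hrq (by norm_num)) (dvd_pow hrq (by norm_num))
        exact hr.1.one_lt.ne' (Nat.dvd_one.1 ((Nat.dvd_add_right h1).1 h))
    intro h
    rw [mul_assoc, mul_assoc, ← mul_assoc (q ^ 2 - 1)] at h
    have h2 := (hco (k + 1)).dvd_of_dvd_mul_right h
    rw [hqf, ← pow_mul] at h2
    have h3 := (Nat.pow_dvd_pow_iff_le_right hr.1.one_lt).1 h2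
    rw [hj] at h3
    nlinarith

/-- **`Row p (³D₄(q))`.** -/
theorem row_tw (p : ℕ) [hp : Fact p.Prime] (hp2 : p ≠ 2) : Row p ↥(twistedD4 K q) := by
  obtain ⟨r, f, hr', hf, hqf⟩ := id hq
  have hr'' : r.Prime := hr'.nat_prime
  have hr : Fact r.Prime := ⟨hr''⟩
  have hcr : CharP K r := by
    obtain ⟨r', hr1⟩ := CharP.exists K
    have hr2 : r'.Prime := CharP.char_is_prime K r'
    obtain ⟨m, -, hm⟩ := FiniteField.card K r'
    rw [hK, ← hqf, ← pow_mul] at hm
    have h1 : r ∣ r' ^ (m : ℕ) := by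
      rw [← hm]
      exact dvd_pow_self r (by omega)
    have h2 := (Nat.prime_dvd_prime_iff_eq hr'' hr2).1 (hr''.dvd_of_dvd_pow h1)
    rw [h2]; exact hr1
  obtain ⟨hsim, hna⟩ := S1071.result hq hK
  have hZ := H69.OutTwD4.center_eq_bot hq hK
  obtain ⟨l, hl, hord, hlN', hlf, hlr⟩ := exists_l hr'' (f := f) (by omega)
  have hlN : l ∣ q ^ 4 - q ^ 2 + 1 := by rw [← hqf]; exact hlN'
  obtain ⟨x0, hx0, hx0c, b, hb⟩ := TorD4.exists_x0 hq hK r
  set N := q ^ 4 - q ^ 2 + 1 with hN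
  have hNpos : 0 < N := by omega
  obtain ⟨m, hm⟩ := hlN
  have hm0 : m ≠ 0 := by rintro rfl; omega
  -- the element of order `l`
  set x1 := x0 ^ m with hx1
  have hx1l : orderOf x1 = l := by
    rw [hx1, orderOf_pow_of_dvd hm0 (by rw [hx0, hm]; exact Dvd.intro_left _ rfl), hx0, hm,
      Nat.mul_div_cancel _ (Nat.pos_of_ne_zero hm0)]
  have hx1ne : x1 ≠ 1 := by
    intro h
    rw [h, orderOf_one] at hx1l
    exact hl.one_lt.ne hx1l
  have hT : centralizer {x1} = zpowers x0 := hx0c x1 (npow_mem_zpowers x0 m) hx1ne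
  set T := zpowers x0 with hTdef
  have hTcard : Nat.card ↥T = N := by rw [hTdef, Nat.card_zpowers, hx0]
  have hcyc : IsCyclic ↥T := by rw [hTdef]; infer_instance
  have hbx : b x1 = x1 ^ r := by rw [hx1, map_pow, hb, ← pow_mul, ← pow_mul, mul_comm]
  have hidx : T.index * N = q ^ 12 * (q ^ 2 - 1) * (q ^ 6 - 1) * (q ^ 8 + q ^ 4 + 1) := by
    rw [← S1067.result hq hK, ← hTcard, mul_comm]
    exact T.card_mul_index
  have hmod : ∀ m, m ∣ N → T.index ≡ 4 [MOD m] := fun m hm => index_mod hq.one_lt.le hm hidx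
  have hout : (MulAut.conj : ↥(twistedD4 K q) →* MulAut ↥(twistedD4 K q)).range.index = 3 * f := by
    rw [← H997.OutCard.card_out, H69.OutTwD4.card_out hq hK r, H166.FieldAut.card_ringAut r (3 * f)]
    rw [hK, ← hqf, ← pow_mul, mul_comm]
  have hstab : Nat.card ↥(MulAction.stabilizer (MulAut ↥(twistedD4 K q)) x1) ≤ Nat.card ↥T := by
    have := card_fix_le hl hx1l hT hcyc hZ (c := 4) (by norm_num) (by omega) (hmod l ⟨m, hm⟩) hbx hord (d := 1)
      (by rw [hout]; omega) (by omega)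
    rwa [one_mul] at this
  have hTx : ∀ y ∈ T, y * x1 = x1 * y := fun y hy => by
    rw [← hT] at hy
    exact mem_centralizer_singleton_iff.1 hy
  have hlp8 : 8 < l := by omega
  -- own characteristic
  have hown : NoNorm r x1 := noNorm_own hq hK hqf.symm (by omega) hl hord ⟨m, hm⟩ hlr hx1l (by rw [hT, hTcard])
  refine row_of hna fun a ha => ?_
  by_cases hinn : ∃ s, a = MulAut.conj s
  · by_cases hpN : p ∣ N
    · left
      refine ⟨hinn, exists_cyclic_sylow hcyc ?_⟩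
      intro h
      have h1 := hmod p hpN
      have h2 : p ∣ 4 := (Nat.modEq_zero_iff_dvd).1 (h1.symm.trans (Nat.modEq_zero_iff_dvd.2 h))
      have h3 : p ∣ 2 ^ 2 := h2
      exact hp2 ((Nat.prime_dvd_prime_iff_eq hp.1 Nat.prime_two).1 (hp.1.dvd_of_dvd_pow h3))
    · right; left
      refine ⟨hinn, x1, ?_⟩
      by_cases hpr : p = r
      · subst hpr; exact hown
      · have hlp : l ≠ p := by
          rintro rfl
          exact hpN ⟨m, hm⟩
        have hpc := pcent hq hK hp.1 hp2 hpr hl hlp hlp8 hx1l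
        intro Q hQ hn
        rw [eq_bot_iff]
        intro y hy
        rw [mem_bot]
        have h1 : y ∈ T := by
          rw [← hT, mem_centralizer_singleton_iff]
          exact (hpc Q hQ hn y hy).symm
        by_contra hy1
        obtain ⟨k, hk⟩ := hQ ⟨y, hy⟩
        have hk' : y ^ p ^ k = 1 := congrArg Subtype.val hk
        obtain ⟨j, -, hj⟩ := (Nat.dvd_prime_pow hp.1).1 (orderOf_dvd_of_pow_eq_one hk')
        have hj0 : j ≠ 0 := by
          rintro rfl
          rw [pow_zero, orderOf_eq_one_iff] at hj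
          exact hy1 hj
        apply hpN
        have h2 : orderOf (⟨y, h1⟩ : ↥T) ∣ Nat.card ↥T := orderOf_dvd_natCard _
        rw [Subgroup.orderOf_mk, hj, hTcard] at h2
        exact (dvd_pow_self p hj0).trans h2
  · right; right
    have hp3 : p ∣ 3 * f := by
      rw [← hout]
      have hKn : (MulAut.conj : ↥(twistedD4 K q) →* MulAut ↥(twistedD4 K q)).range.Normal := by
        refine ⟨?_⟩
        rintro _ ⟨g, rfl⟩ a
        refine ⟨a g, ?_⟩
        ext y
        simp [MulAut.conj_apply]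
      set J := (MulAut.conj : ↥(twistedD4 K q) →* MulAut ↥(twistedD4 K q)).range with hJ
      have h1 : orderOf (QuotientGroup.mk a : MulAut ↥(twistedD4 K q) ⧸ J) ∣ p := by
        rw [← ha]
        exact orderOf_map_dvd (QuotientGroup.mk' J) a
      rcases (Nat.dvd_prime hp.1).1 h1 with h2 | h2
      · exfalso
        rw [orderOf_eq_one_iff, QuotientGroup.eq_one_iff] at h2
        obtain ⟨s, hs⟩ := h2
        exact hinn ⟨s, hs.symm⟩
      · rw [← h2]
        exact orderOf_dvd_natCard _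
    have hlp : l ≠ p := by
      rintro rfl
      have := Nat.le_of_dvd (by omega) hp3
      omega
    refine ⟨x1, ?_, ?_, ?_⟩
    · rw [hx1l]
      intro h
      exact hlp ((Nat.prime_dvd_prime_iff_eq hp.1 hl).1 h).symm
    · by_cases hpr : p = r
      · subst hpr; exact hown.pcent
      · exact pcent hq hK hp.1 hp2 hpr hl hlp hlp8 hx1l
    · intro g hg
      obtain ⟨s, -, hs⟩ := inner_of_fix hZ hTx hstab hg
      apply hinn
      refine ⟨g⁻¹ s, ?_⟩
      have h1 : a = g⁻¹ * MulAut.conj s * g := by rw [← hs]; group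
      rw [h1]
      ext y
      simp [MulAut.conj_apply]

end

/-- **The row `³D₄(q)` of S4329.** -/
theorem row_twistedD4 {G : Type*} [Group G] {K : Type u} [Field K] [Fintype K] {q : ℕ} (hq : IsPrimePow q)
    (hK : Fintype.card K = q ^ 3) (e : G ≃* ↥(twistedD4 K q)) (p : ℕ) [hp : Fact p.Prime] (hp2 : p ≠ 2) : Row p G :=
  (row_tw hq hK p hp2).congr e.symm

end Cfsg.Agent.H83.RowD4
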