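import Cfsg.Agent.H568.LinP
import Cfsg.Agent.H568.Row

/-!
# Frobenius groups in linear groups (helper83)

`noNorm_of_frob` : `x` in a finite group `S` with a faithful representation of degree less than the order of `x` over a
field of characteristic `≠ p`; if no `1 ≠ s ∈ ⟨x⟩` commutes with an element of order `p`, then `x` normalises no
nontrivial `p`-subgroup.
-/

set_option autoImplicit false

namespace Cfsg.Agent.H83.Frob

open Subgroup Module Cfsg.Agent.H568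

/-- A multiplicative function on a finite abelian group `A`, invariant under a fixed point free automorphism, is
trivial. -/
theorem char_trivial {S : Type*} [Group S] {A : Subgroup S} [Finite ↥A] {K : Type*} [Monoid K] (χ : ↥A → K)
    (h1 : χ 1 = 1) (hmul : ∀ a b : ↥A, χ (a * b) = χ a * χ b) (φ : ↥A → ↥A) (hφ : ∀ a b, φ (a * b) = φ a * φ b)
    (hcomm : ∀ a b : ↥A, a * b = b * a) (hfix : ∀ a, φ a = a → a = 1) (hχ : ∀ a, χ (φ a) = χ a) (a : ↥A) : χ a = 1 := by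
  have hφ1 : φ 1 = 1 := by
    have := hφ 1 1
    rw [one_mul] at this
    exact (left_eq_mul.1 this)
  have hφi : ∀ a, φ a⁻¹ = (φ a)⁻¹ := fun a => by
    rw [eq_inv_iff_mul_eq_one, ← hφ, inv_mul_cancel, hφ1]
  have hinj : Function.Injective (fun a : ↥A => a⁻¹ * φ a) := by
    intro a b h
    have h2 : a⁻¹ * φ a = b⁻¹ * φ b := h
    have h3 : φ (a * b⁻¹) = a * b⁻¹ := by
      rw [hφ, hφi]
      calc φ a * (φ b)⁻¹ = a * (a⁻¹ * φ a) * (φ b)⁻¹ := by group
        _ = a * (b⁻¹ * φ b) * (φ b)⁻¹ := by rw [h2]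
        _ = a * b⁻¹ := by group
    have := hfix _ h3
    exact mul_inv_eq_one.1 this
  obtain ⟨b, hb⟩ := Finite.surjective_of_injective hinj a
  have hb' : b⁻¹ * φ b = a := hb
  rw [← hb', hmul, hχ, ← hmul, inv_mul_cancel, h1]

theorem noNorm_of_frob {S : Type*} [Group S] [Finite S] {ι : Type*} [Fintype ι] [DecidableEq ι] {k : Type*} [Field k]
    (ρ : S →* Matrix.GeneralLinearGroup ι k) (hρ : Function.Injective ρ) {p : ℕ} (hp : p.Prime) (hpk : (p : k) ≠ 0)
    {x : S} (hcard : Fintype.card ι < orderOf x)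
    (hx : ∀ s ∈ zpowers x, s ≠ 1 → ∀ y : S, orderOf y = p → y * s ≠ s * y) : NoNorm p x := by
  classical
  have hpf : Fact p.Prime := ⟨hp⟩
  intro Q hQ hn
  by_contra hQ1
  -- the subgroup `A`
  let A : Subgroup S :=
    { carrier := {y | y ∈ Q ∧ (∀ z ∈ Q, y * z = z * y) ∧ y ^ p = 1}
      one_mem' := ⟨Q.one_mem, fun z _ => by rw [one_mul, mul_one], one_pow p⟩
      mul_mem' := by
        rintro a b ⟨ha, ha2, ha3⟩ ⟨hb, hb2, hb3⟩
        refine ⟨Q.mul_mem ha hb, fun z hz => ?_, ?_⟩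
        · rw [mul_assoc, hb2 z hz, ← mul_assoc, ha2 z hz, mul_assoc]
        · rw [(show Commute a b from ha2 b hb).mul_pow, ha3, hb3, one_mul]
      inv_mem' := by
        rintro a ⟨ha, ha2, ha3⟩
        refine ⟨Q.inv_mem ha, fun z hz => ?_, by rw [inv_pow, ha3, inv_one]⟩
        exact ((show Commute a z from ha2 z hz).inv_left).eq }
  have hcomm : ∀ a b : ↥A, a * b = b * a := fun a b => Subtype.ext (a.2.2.1 b b.2.1)
  obtain ⟨a0, ha0⟩ : ∃ a0 : ↥A, a0 ≠ 1 := by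
    have : Nontrivial ↥Q := (nontrivial_iff_ne_bot Q).2 hQ1
    have hc := hQ.center_nontrivial
    obtain ⟨c, hc1⟩ := exists_ne (1 : ↥(center ↥Q))
    obtain ⟨n, hn⟩ := (hQ.to_subgroup (center ↥Q)) c
    obtain ⟨j, -, hj⟩ := (Nat.dvd_prime_pow hp).1 (orderOf_dvd_of_pow_eq_one hn)
    have hj0 : j ≠ 0 := by
      rintro rfl
      rw [pow_zero, orderOf_eq_one_iff] at hj
      exact hc1 hj
    obtain ⟨i, rfl⟩ : ∃ i, j = i + 1 := ⟨j - 1, by omega⟩
    have ho : orderOf (c ^ p ^ i) = p := by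
      rw [orderOf_pow_of_dvd (pow_ne_zero _ hp.ne_zero) (by rw [hj, pow_succ]; exact Dvd.intro _ rfl), hj, pow_succ,
        Nat.mul_div_cancel_left _ (pow_pos hp.pos _)]
    refine ⟨⟨((c ^ p ^ i : ↥(center ↥Q)) : ↥Q), ((c ^ p ^ i : ↥(center ↥Q)) : ↥Q).2, fun z hz => ?_, ?_⟩, ?_⟩
    · have h2 := mem_center_iff.1 (c ^ p ^ i : ↥(center ↥Q)).2 ⟨z, hz⟩
      exact (congrArg Subtype.val h2).symm
    · have h2 : (c ^ p ^ i) ^ p = 1 := by
        have h3 := pow_orderOf_eq_one (c ^ p ^ i)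
        rwa [ho] at h3
      exact congrArg (fun t : ↥(center ↥Q) => ((t : ↥Q) : S)) h2
    · intro h2
      have h2' : (((c ^ p ^ i : ↥(center ↥Q)) : ↥Q) : S) = 1 := congrArg (Subtype.val : ↥A → S) h2
      have h3 : ((c ^ p ^ i : ↥(center ↥Q)) : ↥Q) = 1 := Subtype.ext h2'
      have h4 : c ^ p ^ i = 1 := Subtype.ext h3
      rw [h4, orderOf_one] at ho
      exact hp.one_lt.ne ho
  -- powers of `x` normalise `A`
  have hxi : ∀ i : ℤ, ∀ a ∈ A, x ^ (-i) * a * x ^ i ∈ A := by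
    intro i a ha
    have hni : x ^ (-i) ∈ normalizer (Q : Set S) := zpow_mem hn _
    have hci : ∀ y ∈ Q, x ^ (-i) * y * x ^ i ∈ Q := by
      intro y hy
      have h2 := (mem_normalizer_iff.1 hni y).1 hy
      rwa [zpow_neg, inv_inv, ← zpow_neg] at h2
    have hci' : ∀ y ∈ Q, x ^ i * y * x ^ (-i) ∈ Q := by
      intro y hy
      have h2 := (mem_normalizer_iff.1 (inv_mem hni) y).1 hy
      rwa [← zpow_neg, neg_neg, ← zpow_neg] at h2
    refine ⟨hci a ha.1, fun z hz => ?_, ?_⟩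
    · have h2 := ha.2.1 (x ^ i * z * x ^ (-i)) (hci' z hz)
      calc x ^ (-i) * a * x ^ i * z = x ^ (-i) * (a * (x ^ i * z * x ^ (-i))) * x ^ i := by group
        _ = x ^ (-i) * (x ^ i * z * x ^ (-i) * a) * x ^ i := by rw [h2]
        _ = z * (x ^ (-i) * a * x ^ i) := by group
    · have h2 : x ^ (-i) * a * x ^ i = MulAut.conj (x ^ (-i)) a := by
        rw [MulAut.conj_apply, zpow_neg, inv_inv]
      rw [h2, ← map_pow, ha.2.2, map_one]
  -- operators
  let f : ↥A → End (AlgebraicClosure k) (ι → AlgebraicClosure k) := fun a => opK ρ (a : S)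
  have hfcomm : ∀ i j, f i * f j = f j * f i := by
    intro i j
    show opK ρ (i : S) * opK ρ (j : S) = opK ρ (j : S) * opK ρ (i : S)
    rw [← map_mul, ← map_mul, i.2.2.1 j j.2.1]
  have hpK : (p : AlgebraicClosure k) ≠ 0 := by
    have := (map_ne_zero (algebraMap k (AlgebraicClosure k))).2 hpk
    rwa [map_natCast] at this
  have hfp : ∀ i, f i ^ p = 1 := by
    intro i
    show opK ρ (i : S) ^ p = 1
    rw [← map_pow, i.2.2.2, map_one]
  obtain ⟨χ, v, hv, hne⟩ : ∃ (χ : ↥A → AlgebraicClosure k) (v : ι → AlgebraicClosure k), (∀ i, f i v = χ i • v) ∧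
      f a0 v ≠ v := by
    by_contra hcon
    push Not at hcon
    have h1 : f a0 = LinearMap.id := LinA.eq_of_joint f hfcomm p hpK hfp fun χ v hv => hcon χ v hv
    apply ha0
    apply Subtype.ext
    apply hρ
    rw [opK_injOn (ρ := ρ) (g := (a0 : S)) h1]
    exact (map_one ρ).symm
  have hv0 : v ≠ 0 := by
    rintro rfl
    exact hne (map_zero _)
  have hχ0 : χ a0 ≠ 1 := by
    intro h
    apply hne
    rw [hv, h, one_smul]
  have hχ1 : χ 1 = 1 := by
    have h2 : f 1 v = v := by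
      show opK ρ (1 : S) v = v
      rw [map_one]; rfl
    rw [hv] at h2
    have h3 : (χ 1 - 1) • v = 0 := by rw [sub_smul, h2, one_smul, sub_self]
    exact sub_eq_zero.1 ((smul_eq_zero.1 h3).resolve_right hv0)
  have hχm : ∀ a b : ↥A, χ (a * b) = χ a * χ b := by
    intro a b
    have h2 : f (a * b) v = f a (f b v) := by
      show opK ρ ((a : S) * b) v = opK ρ (a : S) (opK ρ (b : S) v)
      rw [map_mul]; rfl
    rw [hv, hv b, map_smul, hv a, smul_smul, mul_comm (χ b)] at h2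
    have h3 : (χ (a * b) - χ a * χ b) • v = 0 := by rw [sub_smul, h2, sub_self]
    exact sub_eq_zero.1 ((smul_eq_zero.1 h3).resolve_right hv0)
  -- the eigenvectors
  let n := orderOf x
  let cj : ℤ → ↥A → ↥A := fun i a => ⟨x ^ (-i) * (a : S) * x ^ i, hxi i a a.2⟩
  have h1 : Nat.card (Fin n) ≤ finrank (AlgebraicClosure k) (ι → AlgebraicClosure k) := by
    refine LinA.card_le_finrank_of_joint f (fun i : Fin n => opK ρ (x ^ ((i : ℕ) : ℤ)) v)
      (fun i a => χ (cj ((i : ℕ) : ℤ) a)) ?_ ?_ ?_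
    · intro i h2
      apply hv0
      have h3 : opK ρ (x ^ (-((i : ℕ) : ℤ))) (opK ρ (x ^ ((i : ℕ) : ℤ)) v) = v := by
        rw [← Module.End.mul_apply, ← map_mul, ← zpow_add, neg_add_cancel, zpow_zero, map_one]; rfl
      have h2' : opK ρ (x ^ ((i : ℕ) : ℤ)) v = 0 := h2
      rw [← h3, h2', map_zero]
    · intro a i
      show opK ρ (a : S) (opK ρ (x ^ ((i : ℕ) : ℤ)) v) = χ (cj ((i : ℕ) : ℤ) a) • opK ρ (x ^ ((i : ℕ) : ℤ)) v
      rw [← map_smul, ← hv, ← Module.End.mul_apply, ← map_mul]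
      show _ = opK ρ (x ^ ((i : ℕ) : ℤ)) (opK ρ (x ^ (-((i : ℕ) : ℤ)) * (a : S) * x ^ ((i : ℕ) : ℤ)) v)
      rw [← Module.End.mul_apply (opK ρ (x ^ ((i : ℕ) : ℤ))), ← map_mul]
      congr 2
      group
    · intro i j hij
      by_contra hne2
      wlog hlt : (i : ℕ) < (j : ℕ) generalizing i j
      · refine this hij.symm (Ne.symm hne2) ?_
        have : (i : ℕ) ≠ (j : ℕ) := fun h => hne2 (Fin.ext h)
        omega
      -- `h = x ^ (j - i)`
      set h := x ^ (((j : ℕ) : ℤ) - ((i : ℕ) : ℤ)) with hh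
      have hh1 : h ≠ 1 := by
        intro h2
        rw [hh, ← Nat.cast_sub hlt.le, zpow_natCast] at h2
        have h3 := Nat.le_of_dvd (by omega) (orderOf_dvd_of_pow_eq_one h2)
        have h4 : (j : ℕ) < orderOf x := j.2
        omega
      have hfinA : Finite ↥A := inferInstance
      have hχc : ∀ a, χ (cj (((j : ℕ) : ℤ) - ((i : ℕ) : ℤ)) a) = χ a := by
        intro a
        have h2 := congrFun hij (cj (-((i : ℕ) : ℤ)) a)
        have h3 : cj ((i : ℕ) : ℤ) (cj (-((i : ℕ) : ℤ)) a) = a := by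
          apply Subtype.ext
          show x ^ (-((i : ℕ) : ℤ)) * (x ^ (- -((i : ℕ) : ℤ)) * (a : S) * x ^ (-((i : ℕ) : ℤ))) * x ^ ((i : ℕ) : ℤ) = a
          group
        have h4 : cj ((j : ℕ) : ℤ) (cj (-((i : ℕ) : ℤ)) a) = cj (((j : ℕ) : ℤ) - ((i : ℕ) : ℤ)) a := by
          apply Subtype.ext
          show x ^ (-((j : ℕ) : ℤ)) * (x ^ (- -((i : ℕ) : ℤ)) * (a : S) * x ^ (-((i : ℕ) : ℤ))) * x ^ ((j : ℕ) : ℤ) =
            x ^ (-(((j : ℕ) : ℤ) - ((i : ℕ) : ℤ))) * (a : S) * x ^ (((j : ℕ) : ℤ) - ((i : ℕ) : ℤ))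
          group
        have h2' : χ (cj ((i : ℕ) : ℤ) (cj (-((i : ℕ) : ℤ)) a)) = χ (cj ((j : ℕ) : ℤ) (cj (-((i : ℕ) : ℤ)) a)) := h2
        rw [h3, h4] at h2'
        exact h2'.symm
      apply hχ0
      refine char_trivial χ hχ1 hχm (cj (((j : ℕ) : ℤ) - ((i : ℕ) : ℤ))) ?_ hcomm ?_ hχc a0
      · intro a b
        apply Subtype.ext
        show x ^ (-(((j : ℕ) : ℤ) - ((i : ℕ) : ℤ))) * ((a : S) * b) * x ^ (((j : ℕ) : ℤ) - ((i : ℕ) : ℤ)) =
          x ^ (-(((j : ℕ) : ℤ) - ((i : ℕ) : ℤ))) * (a : S) * x ^ (((j : ℕ) : ℤ) - ((i : ℕ) : ℤ)) *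
            (x ^ (-(((j : ℕ) : ℤ) - ((i : ℕ) : ℤ))) * (b : S) * x ^ (((j : ℕ) : ℤ) - ((i : ℕ) : ℤ)))
        group
      · intro a ha
        by_contra ha1
        have h2 : x ^ (-(((j : ℕ) : ℤ) - ((i : ℕ) : ℤ))) * (a : S) * x ^ (((j : ℕ) : ℤ) - ((i : ℕ) : ℤ)) = a :=
          congrArg Subtype.val ha
        have h3 : (a : S) * h = h * a := by
          rw [zpow_neg, ← hh] at h2
          calc (a : S) * h = h * (h⁻¹ * a * h) := by group
            _ = h * a := by rw [h2]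
        refine hx h (zpow_mem_zpowers x _) hh1 (a : S) ?_ h3
        refine orderOf_eq_prime a.2.2.2 fun h4 => ha1 (Subtype.ext h4)
  have h2 : finrank (AlgebraicClosure k) (ι → AlgebraicClosure k) = Fintype.card ι := by simp
  rw [Nat.card_eq_fintype_card, Fintype.card_fin, h2] at h1
  omega

end Cfsg.Agent.H83.Frob
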