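import Cfsg.Agent.H379.TD.SylThree
import Cfsg.Agent.H903.SylMeet
import Cfsg.Agent.H172.SIBase
import Cfsg.Agent.S2129
import Cfsg.Agent.S1071

/-!
helper83, task 2131 (helper172; S2484, S5760): every 3-subgroup of `Aut(³D₄(2))` meets a conjugate of itself trivially.

Kernel certificate in the model of helper379 (`8 × 8` matrices over the field with eight elements): `K3` is a Sylow
3-subgroup of order 81, `psi` a conjugate of the field automorphism of order three normalising it, and the conjugating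
element is the generator `gt`.
-/

set_option autoImplicit false

namespace Cfsg.Agent.H83.MeetTD4

open Cfsg.Agent.TypeD4Two Cfsg.Agent.H379.TD Cfsg.Agent.H903.SylMeet

/-! ### the Frobenius map -/

/-- squaring -/
def sq : F8 →+* F8 where
  toFun a := a * a
  map_one' := by decide +kernel
  map_mul' := by decide +kernel
  map_zero' := by decide +kernel
  map_add' := by decide +kernel

theorem sq3 : ∀ a : F8, sq (sq (sq a)) = a := by decide +kernel

/-- linear maps to matrices -/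
def μ : Module.End F8 V →+* Matrix (Fin 8) (Fin 8) F8 := (LinearMap.toMatrixAlgEquiv' (R := F8) (n := Fin 8)).toRingHom

theorem μτ (A : Matrix (Fin 8) (Fin 8) F8) : μ (τ A) = A :=
  LinearMap.toMatrixAlgEquiv'_toLinAlgEquiv' A

theorem τμ (f : Module.End F8 V) : τ (μ f) = f :=
  Matrix.toLinAlgEquiv'_toMatrixAlgEquiv' f

/-- the Frobenius map on linear maps -/
def frE : Module.End F8 V →+* Module.End F8 V := τ.comp (sq.mapMatrix.comp μ)

theorem frE_lin {c c' : ℕ} (h : ∀ i j : Fin 8, ent c i j * ent c i j = ent c' i j) : frE (lin c) = lin c' := by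
  show τ (sq.mapMatrix (μ (τ (dec c)))) = τ (dec c')
  rw [μτ]
  congr 1
  ext i j
  exact h i j

theorem frE3 (f : Module.End F8 V) : frE (frE (frE f)) = f := by
  show τ (sq.mapMatrix (μ (τ (sq.mapMatrix (μ (τ (sq.mapMatrix (μ f)))))))) = f
  rw [μτ, μτ]
  have : sq.mapMatrix (sq.mapMatrix (sq.mapMatrix (μ f))) = μ f := by
    ext i j
    exact sq3 (μ f i j)
  rw [this, τμ]

/-- the Frobenius map on invertible maps -/
def frU : GLV →* GLV := Units.map (frE : Module.End F8 V →* Module.End F8 V)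

theorem frU3 (g : GLV) : frU (frU (frU g)) = g := Units.ext (frE3 g.val)

/-- image of a letter -/
def fl : ℕ → List ℕ
  | 0 => [0, 0]
  | 5 => [5, 5]
  | n => [n]

theorem frU_gen (k : ℕ) : frU (genU k) = wu (fl k) := by
  have key : ∀ k, (∀ i j : Fin 8, ent (genC k) i j * ent (genC k) i j = ent (wv (fl k)) i j) →
      frU (genU k) = wu (fl k) := by
    intro k hk
    apply Units.ext
    rw [val_wu]
    exact frE_lin hk
  match k with
  | 0 => exact key 0 (by decide +kernel)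
  | 1 => exact key 1 (by decide +kernel)
  | 2 => exact key 2 (by decide +kernel)
  | 3 => exact key 3 (by decide +kernel)
  | 4 => exact key 4 (by decide +kernel)
  | 5 => exact key 5 (by decide +kernel)
  | (n + 6) =>
    apply Units.ext
    show frE (lin oneC) = lin oneC * 1
    rw [lin_one, map_one, mul_one]

/-- image of a word -/
def fw : List ℕ → List ℕ
  | [] => []
  | k :: l => fl k ++ fw l

theorem frU_wu (l : List ℕ) : frU (wu l) = wu (fw l) := by
  induction l with
  | nil => exact map_one frU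
  | cons k l ih => rw [wu, map_mul, frU_gen, ih, fw, wu_append]

theorem frU_mem {g : GLV} (hg : g ∈ M) : frU g ∈ M := by
  have h : M ≤ M.comap frU := by
    rw [M, Subgroup.closure_le]
    intro g hg
    simp only [Set.mem_insert_iff, Set.mem_singleton_iff] at hg
    rcases hg with rfl | rfl | rfl | rfl | rfl
    all_goals
      show frU (wu _) ∈ M
      rw [frU_wu]
      exact wu_mem _
  exact h hg

/-- the field automorphism -/
def phi : MulAut M where
  toFun g := ⟨frU g.1, frU_mem g.2⟩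
  invFun g := ⟨frU (frU g.1), frU_mem (frU_mem g.2)⟩
  left_inv g := Subtype.ext (frU3 g.1)
  right_inv g := Subtype.ext (frU3 g.1)
  map_mul' g h := Subtype.ext (map_mul frU g.1 h.1)

theorem phi_wm (l : List ℕ) : phi (wm l) = wm (fw l) := Subtype.ext (frU_wu l)

theorem phi3 (g : M) : phi (phi (phi g)) = g := Subtype.ext (frU3 g.1)

/-- word of the conjugating element -/
def wd : List ℕ := [1, 5, 1, 0, 0]

/-- the outer automorphism normalising the Sylow 3-subgroup -/
def psi : MulAut M := MulAut.conj (wm wd) * phi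

theorem psi_apply (g : M) : psi g = wm wd * phi g * (wm wd)⁻¹ := rfl

theorem psi_wm (l : List ℕ) : psi (wm l) = wm (wd ++ fw l ++ wi wd) := by
  rw [psi_apply, phi_wm, wm_append, wm_append, wm_wi]

theorem wd3 : wm wd * phi (wm wd) * phi (phi (wm wd)) = 1 := by
  rw [phi_wm, phi_wm, ← wm_append, ← wm_append]
  have e : wd ++ fw wd ++ fw (fw wd) = [1, 5, 1, 0, 0, 1, 5, 5, 1, 0, 0, 0, 0, 1, 5, 5, 5, 5, 1, 0, 0, 0, 0, 0, 0,
      0, 0] := by decide +kernel
  rw [e]
  exact wm_one (by decide +kernel)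

theorem psi3 : psi ^ 3 = 1 := by
  ext1 g
  show psi (psi (psi g)) = g
  rw [psi_apply, psi_apply, psi_apply]
  simp only [map_mul, map_inv]
  rw [phi3]
  calc _ = (wm wd * phi (wm wd) * phi (phi (wm wd))) * g * (wm wd * phi (wm wd) * phi (phi (wm wd)))⁻¹ := by group
    _ = g := by rw [wd3]; group

theorem psi_x : psi x = x ^ 7 := by
  rw [x, psi_wm, ← wm_wp]
  have e : wd ++ fw wx ++ wi wd = [1, 5, 1, 0, 0, 2, 1, 0, 0, 5, 5, 1, 0, 1] := by decide +kernel
  rw [e]; exact wm_eq (by decide +kernel)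

theorem psi_x0 : psi x0 = x0 := by
  rw [x0, psi_wm]
  have e : wd ++ fw wx0 ++ wi wd = [1, 5, 1, 0, 0, 3, 2, 3, 2, 3, 2, 3, 2, 2, 4, 2, 4, 2, 4, 3, 2, 3, 2, 3, 2, 3, 2,
      2, 4, 2, 4, 2, 4, 5, 5, 1, 0, 1] := by decide +kernel
  rw [e]; exact wm_eq (by decide +kernel)

/-- word of the image of the last generator of the Sylow 3-subgroup -/
def wy' : List ℕ := [1, 5, 1, 0, 0, 4, 1, 4, 1, 0, 0, 1, 2, 3, 3, 2, 3, 2, 3, 2, 3, 2, 2, 4, 2, 4, 2,
      4, 3, 2, 3, 2, 3, 2, 3, 2, 2, 4, 2, 4, 2, 4, 3, 2, 1, 5, 5, 1, 4, 1, 4, 5, 5, 1, 0, 1]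

theorem wy'_eq : wd ++ fw wy ++ wi wd = wy' := by decide +kernel

theorem wv_wy' : wv wy' = wv wy := by decide +kernel

theorem psi_y : psi y = y := by
  have h1 : psi (wm wy) = wm wy' := by rw [psi_wm, wy'_eq]
  have h2 : wm wy' = wm wy := wm_eq wv_wy'
  exact h1.trans h2

theorem psi_mem {g : M} (hg : g ∈ K3) : psi g ∈ K3 := by
  have hs : ∀ g ∈ ({x, x0, y} : Set M), g ∈ K3 := fun g hg => Subgroup.subset_closure hg
  have key : ∀ g ∈ Subgroup.closure ({x, x0, y} : Set M), psi g ∈ K3 := by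
    intro g hg
    induction hg using Subgroup.closure_induction with
    | mem g hg =>
      simp only [Set.mem_insert_iff, Set.mem_singleton_iff] at hg
      rcases hg with hg | hg | hg
      · rw [hg, psi_x]; exact K3.pow_mem (hs x (by simp)) 7
      · rw [hg, psi_x0]; exact hs x0 (by simp)
      · rw [hg, psi_y]; exact hs y (by simp)
    | one => rw [map_one]; exact K3.one_mem
    | mul a b _ _ ha hb => rw [map_mul]; exact K3.mul_mem ha hb
    | inv a _ ha => rw [map_inv]; exact K3.inv_mem ha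
  exact key g hg

/-! ### the certificates -/

/-- codes of the conjugates of the 81 elements -/
def A3 : List ℕ := [
  0x200000040000008000001000000200000040000008000001,
  0xc180000c2a30c000000c0a000c20000001830c0000000180,
  0x608000187a084080000478080c6a080000c1146808000081,
  0xe28000106a102300001416300c7e080001c5042818000046,
  0xe100001022288180000c74181834080001c21c1830000103,
  0x610000181628838000102408043e100000c21c6620000107,
  0xc280000c1c10238000107628087230000185043a20000047,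
  0x208000041208418000105828186e38000041143230000083,
  0x18000000030c30000000a280020100000030c3618000186,
  0x200040040000008001001000000200200000000008008000,
  0xc181830c2a30c001800c0a000c2000c180000c0000c00000,
  0x6080c1187a084080810478080c6a08608000146808408000,
  0xe281c5106a102300461416300c7e08e28000042818230000,
  0xe101c21022288181030c7418183408e100001c1830818000,
  0x6100c2181628838107102408043e106100001c6620838000,
  0xc281850c1c10238047107628087230c28000043a20238000,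
  0x208041041208418083105828186e38208000143230418000,
  0x18003000030c30186000a280020100180000c3618c30000,
  0x40040000000001001000000200200040000008008001,
  0x1830c2a300001800c0a000c2000c181830c0000c00180,
  0xc1187a080000810478080c6a086080c1146808408081,
  0x1c5106a100000461416300c7e08e281c5042818230046,
  0x1c21022280001030c7418183408e101c21c1830818103,
  0xc2181628000107102408043e106100c21c6620838107,
  0x1850c1c10000047107628087230c28185043a20238047,
  0x41041208000083105828186e38208041143230418083,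
  0x3000030000186000a280020100180030c3618c30186,
  0xdebe48f8f74127ba2925f15f268efbfae985009277272857,
  0x3cc193ba1bd65199b0f226370efb76e5447145ab0389aa83,
  0xdeef1c16c16d350b994576a2a748c61361387b8b19bdf96,
  0x3869c55877c104a85686705b470e7dc6d648231231239239,
  0xc5c5f2591b54c82b03f1a7f4adfa353885a3c42a8359b3b0,
  0x60b6d2c26d9258df1735572868744c0dd8e1c73937cb0ea9,
  0xe6d78db8f68023127fa7f11c658ebe3c3fcd23927604ba6e,
  0xf90461fb1a9299b2b313a7f3af7b73ddc1d285ab80d01933,
  0x6d5823036d948b8faeb5566a4a74c86ceef244b9b650d13f,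
  0x2457cdf8f74100927e25f15f268efbdebe4800927727ba29,
  0xd985e2ba1bd6d83333f226370efb763cc19345ab035199b0,
  0x6cd8e2c16c16488f2f94576a2a748c0deef187b8b1d350b9,
  0xfebf8d5877c1273a6f86705b470e7d3869c523123104a856,
  0xfd4051591b549198b3f1a7f4adfa35c5c5f2c42a83c82b03,
  0x6d6e33c26d9293d1be35572868744c60b6d2c7393758df17,
  0xdae840b8f68027a811a7f11c658ebee6d78d23927623127f,
  0x24c5b3fb1a9249ab8013a7f3af7b73f9046185ab8099b2b3,
  0x1b6d1036d94db5e91b5566a4a74c86d582344b9b68b8fae,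
  0xfae985f8f74127285725f15f268efb2457cd00927700927e,
  0xe54471ba1bd689aa83f226370efb76d985e245ab03d83333,
  0x613613c16c169bdf9694576a2a748c6cd8e287b8b1488f2f,
  0xc6d6485877c123923986705b470e7dfebf8d231231273a6f,
  0x3885a3591b5459b3b0f1a7f4adfa35fd4051c42a839198b3,
  0xdd8e1c26d92cb0ea935572868744c6d6e33c7393793d1be,
  0x3c3fcdb8f68004ba6ea7f11c658ebedae84023927627a811,
  0xddc1d2fb1a92d0193313a7f3af7b7324c5b385ab8049ab80,
  0x6ceef2036d9450d13fb5566a4a74c801b6d144b9b6db5e91,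
  0xfebe48587741273a2986715f470efbc6d7cd23127723927e,
  0xfd4193591bd69199b0f1a637adfb763885e2c42b0359b333,
  0x6d6ef1c26c1693d0b935576a68748c0dd8e2c738b1cb0f2f,
  0xdae9c5b8f7c127a856a7f05b658e7d3c3f8d23923104ba6f,
  0x24c5f2fb1b5449ab0313a7f4af7a35ddc05185aa83d018b3,
  0x1b6d2036d92db5f17b557284a744c6cee3344b93750d1be,
  0x24578df8f68000927f25f11c268ebefae840009276272811,
  0xd98461ba1a92d832b3f227f30efb73e545b345ab8089ab80,
  0x6cd823c16d94488fae94566a2a74c86136d187b9b69bde91,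
  0x38698558774104a85786715f470efbfebe48231277273a29,
  0xc5c471591bd6c82a83f1a637adfb76fd4193c42b039199b0,
  0x60b613c26c1658df9635576a68748c6d6ef1c738b193d0b9,
  0xe6d648b8f7c1231239a7f05b658e7ddae9c523923127a856,
  0xf905a3fb1b5499b3b013a7f4af7a3524c5f285aa8349ab03,
  0x6d58e1036d928b8ea9b557284a744c01b6d244b937db5f17,
  0xdebfcdf8f68027ba6e25f11c268ebe24578d00927600927f,
  0x3cc1d2ba1a92519933f227f30efb73d9846145ab80d832b3,
  0xdeef2c16d94d3513f94566a2a74c86cd82387b9b6488fae,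
  0xc6d7cd58774123927e86715f470efb38698523127704a857,
  0x3885e2591bd659b333f1a637adfb76c5c471c42b03c82a83,
  0xdd8e2c26c16cb0f2f35576a68748c60b613c738b158df96,
  0x3c3f8db8f7c104ba6fa7f05b658e7de6d648239231231239,
  0xddc051fb1b54d018b313a7f4af7a35f905a385aa8399b3b0,
  0x6cee33036d9250d1beb557284a744c6d58e144b9378b8ea9,
  0xfae840f8f68027281125f11c268ebedebfcd00927627ba6e,
  0xe545b3ba1a9289ab80f227f30efb733cc1d245ab80519933,
  0x6136d1c16d949bde9194566a2a74c80deef287b9b6d3513f]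

/-- codes of the products in the outer coset -/
def B3 : List ℕ := [
  0x2000006400006080009690005f8200037a40387a0800a8d9,
  0x6180003bec30c00000970a00c8a00000a8ebac0000014780,
  0x8000000008208000038208029008000019651208037a59,
  0x6280003ab81003000003d03002840800a8e500001800000e,
  0x210000674c2821800065dc1864ce08037a72665e30037a6b,
  0xa10000cbf828c380003a5e0867ec1001ef72acf220014797,
  0x42800094ce10638000ae182864b43003d2a5392e2000a8d7,
  0x408000956808e18000673628c8523803d299f1f430023deb,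
  0xa18000c84630e3000097642838f21001ef6bf31e18023dce,
  0x237a406400006028d99690005f8200200000387a08608000,
  0x6128eb3bec30c14780970a00c8a000618000ac0000c00000,
  0x801900000823fa59038208029008008000651208208000,
  0x6228e53ab81003000e03d030028408628000000018030000,
  0x227a72674c2822fa6b65dc1864ce08210000665e30218000,
  0xa0ef72cbf828c2c7973a5e0867ec10a10000acf220c38000,
  0x4152a594ce106328d7ae182864b430428000392e20638000,
  0x435299956808e3bdeb673628c85238408000f1f430e18000,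
  0xa06f6bc84630e13dce97642838f210a18000f31e18e30000,
  0x37a4064000000a8d99690005f8200237a40387a086028d9,
  0xa8eb3bec30014780970a00c8a0006128ebac0000c14780,
  0x19000008037a5903820802900800801965120823fa59,
  0xa8e53ab81000000e03d0300284086228e500001803000e,
  0x37a72674c28037a6b65dc1864ce08227a72665e3022fa6b,
  0x1ef72cbf8280147973a5e0867ec10a0ef72acf220c2c797,
  0x3d2a594ce1000a8d7ae182864b4304152a5392e206328d7,
  0x3d299956808023deb673628c85238435299f1f430e3bdeb,
  0x1ef6bc84630023dce97642838f210a06f6bf31e18e13dce,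
  0x7a3e484bb199627cf1b8e5cf9a7593903aa5617ce73bd2c7,
  0x893afb8a8f9e2a99b09432a7e4293ed150a9d9506bb417eb,
  0xc5a82901c45ebf96612e10da9e6174c78b7bfa046957b1de,
  0xd1c0e588e31958fa1e5bcd335b5d5d8b564802fce95a06e1,
  0x9178424b1aac54d06bd4600c6729157ab8cbf997ebbd33b0,
  0x660b6221be22b7cb874d2d283cc9b4a2cc39d8b9a7299a71,
  0xabfead0924803a86efd870e4f89af61b6ced62d43e61d426,
  0x1842b9085d227e49dbd5b29be73c1babe8621b6d8009245b,
  0xa3a34b23c46c085de6cd85daff26c86547421843fe7e2baf,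
  0xea04ed4bb19959ae36b8e5cf9a75937a3e48617ce7627cf1,
  0x586a528a8f9e9e8e5b9432a7e4293e893afbd9506b2a99b0,
  0x2235201c45ee827bf2e10da9e6174c5a829fa0469bf9661,
  0x5a96ad88e31902fcff5bcd335b5d5dd1c0e502fce958fa1e,
  0xebc0894b1aace9e3dbd4600c672915917842f997eb54d06b,
  0xc4c75b21be229e51f64d2d283cc9b4660b62d8b9a7b7cb87,
  0xb092400924805b52c9d870e4f89af6abfead62d43e3a86ef,
  0xb3aadb085d22776d80d5b29be73c1b1842b91b6d807e49db,
  0xc6e40923c46c767649cd85daff26c8a3a34b1843fe085de6,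
  0x903aa54bb1993bd2c7b8e5cf9a7593ea04ed617ce759ae36,
  0xd150a98a8f9eb417eb9432a7e4293e586a52d9506b9e8e5b,
  0xc78b7b01c45e57b1de2e10da9e6174022352fa0469e827bf,
  0x8b564888e3195a06e15bcd335b5d5d5a96ad02fce902fcff,
  0x7ab8cb4b1aacbd33b0d4600c672915ebc089f997ebe9e3db,
  0xa2cc3921be22299a714d2d283cc9b4c4c75bd8b9a79e51f6,
  0x1b6ced09248061d426d870e4f89af6b0924062d43e5b52c9,
  0xabe862085d2209245bd5b29be73c1bb3aadb1b6d80776d80,
  0x65474223c46c7e2bafcd85daff26c8c6e4091843fe767649,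
  0x5a3e488b319902fcf15b65cf5bf5938884ed02fce75aae36,
  0xe8bafb498f9eea99b0d7b2a767293e796a52f8d06bbf0e5b,
  0xc5282922c45e9f16614f10da3c6174a32352da84692ba7bf,
  0xb340e50863195bfa1eda4d33f9dd5d1816ad627ce9617cff,
  0xb07842091aac75506bd6600ce5a915ab40891817eb0863db,
  0xc70b6220be22744b87cd2d28fec9b465475b1b39a77d51f6,
  0xe97ead4924805906efba70e49b9af690924061d43e3bd2c9,
  0x58c2b9895d229fc9db94329be6bc1bd22adbdb6d80b76d80,
  0x2234b01c46ceb5de62c85da9f26c8c66409fb43fe56f649,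
  0xd2baa58b31995852c75b65cf5bf5935a3e4802fce702fcf1,
  0x91d0a9498f9e5597ebd7b2a767293ee8bafbf8d06bea99b0,
  0x660b7b22c45eb4b1de4f10da3c6174c52829da84699f1661,
  0xab56480863193a86e1da4d33f9dd5db340e5627ce95bfa1e,
  0x1b38cb091aac7d33b0d6600ce5a915b078421817eb75506b,
  0xa24c3920be22091a71cd2d28fec9b4c70b621b39a7744b87,
  0x79eced49248062d426ba70e49b9af6e97ead61d43e5906ef,
  0x8ae862895d2228a45b94329be6bc1b58c2b9db6d809fc9db,
  0xc4474201c46cbdabaf2c85da9f26c802234bfb43feeb5de6,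
  0x8884ed8b31995aae365b65cf5bf593d2baa502fce75852c7,
  0x796a52498f9ebf0e5bd7b2a767293e91d0a9f8d06b5597eb,
  0xa3235222c45e2ba7bf4f10da3c6174660b7bda8469b4b1de,
  0x1816ad086319617cffda4d33f9dd5dab5648627ce93a86e1,
  0xab4089091aac0863dbd6600ce5a9151b38cb1817eb7d33b0,
  0x65475b20be227d51f6cd2d28fec9b4a24c391b39a7091a71,
  0x9092404924803bd2c9ba70e49b9af679eced61d43e62d426,
  0xd22adb895d22b76d8094329be6bc1b8ae862db6d8028a45b,
  0xc6640901c46c56f6492c85da9f26c8c44742fb43febdabaf]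

theorem A3_eq : ∀ m : Fin 81, mulC (mulC (genC 4) (T3.getD m.1 0)) (genC 4) = A3.getD m.1 0 := by decide +kernel

/-- code of the inverse image of the last generator -/
def cB : ℕ := 0x2000006080006400009690005f8200387a08037a4000a8d9

theorem wv_cB : wv [1, 5, 1, 0, 0, 4, 5, 5, 1, 0, 1] = cB := by decide +kernel

theorem B3_eq : ∀ m : Fin 81, mulC (mulC (genC 4) (T3.getD m.1 0)) cB = B3.getD m.1 0 := by
  decide +kernel

theorem A3_ne : ∀ m : Fin 81, m.1 ≠ 0 → A3.getD m.1 0 ∉ T3 := by decide +kernel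

theorem B3_ne : ∀ m : Fin 81, B3.getD m.1 0 ∉ T3 := by decide +kernel

theorem mulC_lt (a b : ℕ) : mulC a b < 8 ^ 64 := encF_lt _ _

/-- the elements of the Sylow 3-subgroup -/
theorem exists_code {h : M} (hh : h ∈ K3) :
    ∃ m : Fin 81, h = F (m.1 % 9) (m.1 / 9 % 3) (m.1 / 27) ∧ ap h = lin (T3.getD m.1 0) := by
  obtain ⟨i, j, k, rfl⟩ := form hh
  have h1 : F i j k = F ((i % 9 + 9 * (j % 3) + 27 * (k % 3)) % 9) ((i % 9 + 9 * (j % 3) + 27 * (k % 3)) / 9 % 3)
      ((i % 9 + 9 * (j % 3) + 27 * (k % 3)) / 27) := by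
    rw [F_mod i j k]
    congr 1 <;> omega
  refine ⟨⟨i % 9 + 9 * (j % 3) + 27 * (k % 3), by omega⟩, h1, ?_⟩
  rw [h1, ap_F, ← cf_eq ⟨i % 9 + 9 * (j % 3) + 27 * (k % 3), by omega⟩]

theorem T3_mem (m : Fin 81) : T3.getD m.1 0 ∈ T3 := by
  rw [List.getD_eq_getElem _ _ (by rw [T3_length]; exact m.2)]
  exact List.getElem_mem _

theorem ap_mul' (g h : M) : ap (g * h) = ap g * ap h := rfl

/-- inner part -/
theorem inner_part {h : M} (hh : h ∈ K3) (h' : wm [4] * h * (wm [4])⁻¹ ∈ K3) : h = 1 := by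
  obtain ⟨m, hm, hc⟩ := exists_code hh
  obtain ⟨m', hm', hc'⟩ := exists_code h'
  have e1 : ap (wm [4] * h * (wm [4])⁻¹) = lin (A3.getD m.1 0) := by
    rw [← wm_wi, ap_mul', ap_mul', hc, ap_wm, ap_wm, ← A3_eq, lin_mulC, lin_mulC]
    have e2 : wv [4] = genC 4 := by decide +kernel
    have e3 : wv (wi [4]) = genC 4 := by decide +kernel
    rw [e2, e3]
  have e2 : A3.getD m.1 0 = T3.getD m'.1 0 := by
    apply lin_inj
    · rw [← A3_eq]; exact mulC_lt _ _
    · exact T3_lt _ (T3_mem m')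
    · rw [← e1, hc']
  by_contra hne
  refine A3_ne m ?_ ?_
  · intro h0
    apply hne
    rw [hm, h0]
    simp [F]
  · rw [e2]; exact T3_mem m'

/-- outer part -/
theorem outer_part {h : M} (hh : h ∈ K3) : wm [4] * h * (psi (wm [4]))⁻¹ ∉ K3 := by
  intro h'
  obtain ⟨m, hm, hc⟩ := exists_code hh
  obtain ⟨m', hm', hc'⟩ := exists_code h'
  have e0 : (psi (wm [4]))⁻¹ = wm [1, 5, 1, 0, 0, 4, 5, 5, 1, 0, 1] := by
    rw [psi_wm, ← wm_wi]
    have e : wi (wd ++ fw [4] ++ wi wd) = [1, 5, 1, 0, 0, 4, 5, 5, 1, 0, 1] := by decide +kernel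
    rw [e]
  have e1 : ap (wm [4] * h * (psi (wm [4]))⁻¹) = lin (B3.getD m.1 0) := by
    rw [e0, ap_mul', ap_mul', hc, ap_wm, ap_wm, ← B3_eq, lin_mulC, lin_mulC, wv_cB]
    have e2 : wv [4] = genC 4 := by decide +kernel
    rw [e2]
  have e2 : B3.getD m.1 0 = T3.getD m'.1 0 := by
    apply lin_inj
    · rw [← B3_eq]; exact mulC_lt _ _
    · exact T3_lt _ (T3_mem m')
    · rw [← e1, hc']
  refine B3_ne m ?_
  rw [e2]; exact T3_mem m'

/-! ### the 3-subgroup of the automorphism group -/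

theorem psi_pow_mem {g : M} (hg : g ∈ K3) (i : ℕ) : (psi ^ i) g ∈ K3 := by
  induction i with
  | zero => simpa using hg
  | succ i ih => rw [pow_succ', MulAut.mul_apply]; exact psi_mem ih

theorem mul_form (h h' : M) (i j : ℕ) :
    MulAut.conj h * psi ^ i * (MulAut.conj h' * psi ^ j) = MulAut.conj (h * (psi ^ i) h') * psi ^ (i + j) := by
  rw [map_mul, ← conj_apply_aut (psi ^ i) h', pow_add]; group

theorem psi_pow3 (i : ℕ) : psi ^ (3 * i) = 1 := by rw [pow_mul, psi3, one_pow]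

/-- the 3-subgroup -/
def P3 : Subgroup (MulAut M) where
  carrier := {α | ∃ h ∈ K3, ∃ i : ℕ, α = MulAut.conj h * psi ^ i}
  one_mem' := ⟨1, K3.one_mem, 0, by rw [map_one, pow_zero, mul_one]⟩
  mul_mem' := by
    rintro _ _ ⟨h, hh, i, rfl⟩ ⟨h', hh', j, rfl⟩
    exact ⟨_, K3.mul_mem hh (psi_pow_mem hh' i), i + j, mul_form h h' i j⟩
  inv_mem' := by
    rintro _ ⟨h, hh, i, rfl⟩
    refine ⟨(psi ^ (2 * i)) h⁻¹, psi_pow_mem (K3.inv_mem hh) _, 2 * i, ?_⟩
    rw [eq_comm, eq_inv_iff_mul_eq_one, mul_form, ← map_mul, inv_mul_cancel, map_one, map_one, one_mul]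
    have : 2 * i + i = 3 * i := by ring
    rw [this, psi_pow3]



theorem conj_mem {h : M} (hh : h ∈ K3) : MulAut.conj h ∈ P3 := ⟨h, hh, 0, by rw [pow_zero, mul_one]⟩

theorem psi_P3 : psi ∈ P3 := ⟨1, K3.one_mem, 1, by rw [map_one, one_mul, pow_one]⟩

theorem isPGroup_K3 : IsPGroup 3 K3 := IsPGroup.of_card card_K3

theorem isPGroup_P3 : IsPGroup 3 P3 := by
  rintro ⟨α, h, hh, i, rfl⟩
  have key : ∀ n : ℕ, ∃ k ∈ K3, (MulAut.conj h * psi ^ i) ^ n = MulAut.conj k * psi ^ (n * i) := by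
    intro n
    induction n with
    | zero => exact ⟨1, K3.one_mem, by simp⟩
    | succ n ih =>
      obtain ⟨k, hk, e⟩ := ih
      refine ⟨_, K3.mul_mem hk (psi_pow_mem hh (n * i)), ?_⟩
      rw [pow_succ, e, mul_form]
      congr 2
      ring
  obtain ⟨k, hk, e⟩ := key 3
  obtain ⟨m, hm⟩ := isPGroup_K3 ⟨k, hk⟩
  refine ⟨m + 1, Subtype.ext ?_⟩
  show (MulAut.conj h * psi ^ i) ^ 3 ^ (m + 1) = 1
  rw [pow_succ', pow_mul, e, psi_pow3, mul_one, ← map_pow]
  have : k ^ 3 ^ m = 1 := congrArg Subtype.val hm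
  rw [this, map_one]

theorem psi_ne {g : M} (hg : g ∈ K3) : psi ≠ MulAut.conj g := by
  intro h
  refine outer_part (K3.inv_mem hg) ?_
  rw [h, MulAut.conj_apply]
  have : wm [4] * g⁻¹ * (g * wm [4] * g⁻¹)⁻¹ = g⁻¹ := by group
  rw [this]
  exact K3.inv_mem hg

/-! ### orders -/

theorem simple_M : IsSimpleGroup M ∧ ¬ IsMulCommutative M := by
  obtain ⟨e⟩ := iso_M F8 F8.card_F8
  obtain ⟨h1, h2⟩ := S1071.result (K := F8) (q := 2) Nat.prime_two.isPrimePow F8.card_F8
  have := e.toEquiv.nontrivial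
  refine ⟨IsSimpleGroup.isSimpleGroup_of_surjective e.symm.toMonoidHom e.symm.surjective, fun h => h2 ⟨⟨fun a b => ?_⟩⟩⟩
  have := h.is_comm.comm (e.symm a) (e.symm b)
  rw [← map_mul, ← map_mul] at this
  exact e.symm.injective this

theorem card_aut : Nat.card (MulAut M) = 634023936 := by
  obtain ⟨e⟩ := iso_M F8 F8.card_F8
  obtain ⟨h1, h2⟩ := S1071.result (K := F8) (q := 2) Nat.prime_two.isPrimePow F8.card_F8
  have hf : Finite (Cfsg.Lie.twistedD4 F8 2) := Finite.of_equiv M e.toEquiv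
  have : Fact (Nat.Prime 2) := ⟨Nat.prime_two⟩
  have : CharP F8 2 := by
    have h : (2 : F8) = 0 := two_F8
    exact CharTwo.of_one_ne_zero_of_two_eq_zero one_ne_zero h
  have h3 := S2129.result (K := F8) 2 1 F8.card_F8 le_rfl
  rw [Nat.card_congr (MulAut.congr e).toEquiv, H172.SI.card_mulAut h2, ← Nat.card_congr e.toEquiv, card_M]
  have h4 : Nat.card (Cfsg.Out ↥(Cfsg.Lie.twistedD4 F8 2)) = 3 := h3
  rw [h4]

theorem mem_of_conj {m : M} (hm : MulAut.conj m ∈ P3) : m ∈ K3 := by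
  have := simple_M.1
  have hinj := conj_injective simple_M.2
  have hR : IsPGroup 3 (P3.comap (MulAut.conj : M →* MulAut M)) := isPGroup_P3.comap_of_injective _ hinj
  have hle : K3 ≤ P3.comap (MulAut.conj : M →* MulAut M) := fun h hh => conj_mem hh
  obtain ⟨k, hk⟩ := IsPGroup.iff_card.1 hR
  have hd := Subgroup.card_subgroup_dvd_card (P3.comap (MulAut.conj : M →* MulAut M))
  rw [hk, card_M] at hd
  have hk4 : k ≤ 4 := by
    by_contra hc
    have h5 : 3 ^ 5 ∣ 211341312 := (pow_dvd_pow 3 (by omega : 5 ≤ k)).trans hd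
    norm_num at h5
  have hc : Nat.card (P3.comap (MulAut.conj : M →* MulAut M)) ≤ Nat.card K3 := by
    rw [hk, card_K3]; exact Nat.pow_le_pow_right (by norm_num) hk4
  have he := Subgroup.eq_of_le_of_card_ge hle hc
  have h1 : m ∈ P3.comap (MulAut.conj : M →* MulAut M) := hm
  rwa [← he] at h1

theorem index_P3 : ¬ 3 ∣ P3.index := by
  have := simple_M.1
  have hinj := conj_injective simple_M.2
  have hQ : Nat.card (K3.map (MulAut.conj : M →* MulAut M)) = 81 := by
    rw [Subgroup.card_map_of_injective hinj, card_K3]; norm_num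
  have hle : K3.map (MulAut.conj : M →* MulAut M) ≤ P3 := by
    rintro _ ⟨h, hh, rfl⟩
    exact conj_mem hh
  have hfin : Finite (MulAut M) := Nat.finite_of_card_ne_zero (by rw [card_aut]; norm_num)
  have hlt : 81 < Nat.card P3 := by
    by_contra hc
    have he := Subgroup.eq_of_le_of_card_ge hle (by rw [hQ]; omega)
    have h1 := psi_P3
    rw [← he] at h1
    obtain ⟨g, hg, e⟩ := h1
    exact psi_ne hg e.symm
  obtain ⟨k, hk⟩ := IsPGroup.iff_card.1 isPGroup_P3
  have hk5 : 5 ≤ k := by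
    by_contra hc
    have h1 : 3 ^ k ≤ 3 ^ 4 := Nat.pow_le_pow_right (by norm_num) (by omega)
    rw [hk] at hlt
    norm_num at h1
    omega
  intro hd
  have h1 := P3.index_mul_card
  have h2 : 3 ^ 5 ∣ Nat.card P3 := hk ▸ pow_dvd_pow 3 hk5
  have h3 : 3 * 3 ^ 5 ∣ Nat.card (MulAut M) := h1 ▸ Nat.mul_dvd_mul hd h2
  rw [card_aut] at h3
  norm_num at h3

theorem outer_case {h : M} (hh : h ∈ K3)
    (hx : MulAut.conj (wm [4]) * (MulAut.conj h * psi) * (MulAut.conj (wm [4]))⁻¹ ∈ P3) : False := by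
  have hy : MulAut.conj h * psi ∈ P3 := P3.mul_mem (conj_mem hh) psi_P3
  rw [conj_mul_mul_inv] at hx
  have h1 := mem_of_conj ((Subgroup.mul_mem_cancel_right _ hy).1 hx)
  apply outer_part hh
  have h2 : wm [4] * ((MulAut.conj h * psi) (wm [4]))⁻¹ = (wm [4] * h * (psi (wm [4]))⁻¹) * h⁻¹ := by
    rw [MulAut.mul_apply, MulAut.conj_apply]; group
  rw [h2] at h1
  exact (Subgroup.mul_mem_cancel_right _ (K3.inv_mem hh)).1 h1

theorem meet_M : Meet 3 M := by
  have : Fact (Nat.Prime 3) := ⟨Nat.prime_three⟩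
  refine meet_of_index P3 isPGroup_P3 index_P3 ⟨wm [4], ?_⟩
  rintro y ⟨h, hh, i, rfl⟩ hx
  have hpow : psi ^ i = psi ^ (i % 3) := by
    conv_lhs => rw [← Nat.div_add_mod i 3, pow_add, psi_pow3, one_mul]
  rw [hpow] at hx ⊢
  have h3 : i % 3 = 0 ∨ i % 3 = 1 ∨ i % 3 = 2 := by omega
  rcases h3 with h3 | h3 | h3
  · rw [h3, pow_zero, mul_one] at hx ⊢
    rw [← map_mul, ← map_inv, ← map_mul] at hx
    rw [inner_part hh (mem_of_conj hx), map_one]
  · rw [h3, pow_one] at hx
    exact (outer_case hh hx).elim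
  · exfalso
    rw [h3] at hx
    have h4 := P3.mul_mem hx hx
    have h5 : MulAut.conj (wm [4]) * (MulAut.conj h * psi ^ 2) * (MulAut.conj (wm [4]))⁻¹ *
        (MulAut.conj (wm [4]) * (MulAut.conj h * psi ^ 2) * (MulAut.conj (wm [4]))⁻¹) =
        MulAut.conj (wm [4]) * (MulAut.conj (h * (psi ^ 2) h) * psi) * (MulAut.conj (wm [4]))⁻¹ := by
      have h6 := mul_form h h 2 2
      have h7 : psi ^ (2 + 2) = psi := by
        rw [show 2 + 2 = 3 + 1 from rfl, pow_succ, psi3, one_mul]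
      rw [h7] at h6
      rw [← h6]; group
    rw [h5] at h4
    exact outer_case (K3.mul_mem hh (psi_pow_mem hh 2)) h4

/-- Every 3-subgroup of the automorphism group of `³D₄(2)` meets a conjugate of itself trivially. -/
theorem meet3_3D4_two {K : Type*} [Field K] [Fintype K] (hK : Fintype.card K = 8) :
    Meet 3 ↥(Cfsg.Lie.twistedD4 K 2) := by
  obtain ⟨e⟩ := iso_M K hK
  exact Meet.congr e meet_M

end Cfsg.Agent.H83.MeetTD4
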