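import Mathlib
import Cfsg.Agent.H83.RedGen

/-!
The orthogonal lists of roots of `E₆` up to `Eqv` (helper83): three classes and the empty list.
-/

set_option autoImplicit false

namespace Cfsg.Agent.H83.RedESix

open Cfsg.Lie Cfsg.Agent.ChevalleyStructure.Elts Cfsg.Agent.H83.ChevInv Cfsg.Agent.H83.OrthRed Cfsg.Agent.H83.RedGen

/-- the `D₄` certificate -/
def certs : List Cert := [(71, 60, 44, 2, 39)]

def words : List (List ℕ) := [[]]

/-- the representatives -/
def reps : List (List ℕ) := [[], [71], [71, 60], [71, 60, 44]]

theorem allchk_eq : allchk chevE6 certs words reps 4 = true := by decide +kernel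

end Cfsg.Agent.H83.RedESix
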