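import Cfsg.Agent.H129.TorusChar
import Cfsg.Agent.H129.TorusTw

/-!
# The number of roots killed by a torus element (helper83)

`card_conj` : torus elements of `D.group k` conjugate in `D.group k` kill the same number of roots.
-/

set_option autoImplicit false
set_option linter.unusedSectionVars false

namespace Cfsg.Agent.H83.RootCount

open CoxeterSystem Cfsg Cfsg.Lie Cfsg.Lie.ChevalleyDatum
open Cfsg.Agent.ChevalleyStructure Cfsg.Agent.ChevalleyStructure.Elts Cfsg.Agent.ChevalleyStructure.CoxeterGeom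
  Cfsg.Agent.ChevalleyStructure.CoxeterGeomTypes Cfsg.Agent.ChevalleyStructure.NPerm
open Cfsg.Agent.Tits.Roots Cfsg.Agent.Tits.Core Cfsg.Agent.Nodes Cfsg.Agent.Nodes.Reps Cfsg.Agent.Nodes.BNOf
  Cfsg.Agent.Nodes.RGDChev Cfsg.Agent.Nodes.Bruhat
open Cfsg.Agent.KFacts.RgdField Cfsg.Agent.KFacts.RgdChevCoord Cfsg.Agent.BpExc.TorCent Cfsg.Agent.BpExc.TorChev
open Cfsg.Agent.GpExc.Field Cfsg.Agent.BpExc.Tow Cfsg.Agent.BpExc.TowChev Cfsg.Agent.BpExc.Fr
  Cfsg.Agent.BpExc.LangFr Cfsg.Agent.LangThm Cfsg.Agent.BpExc Cfsg.Agent.H129 Cfsg.Agent.H129.TorusChar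
  Cfsg.Agent.H129.TorusTw

universe u

variable {D : ChevalleyDatum} {l : ℕ} {M : CoxeterMatrix (Fin l)} (hp : IsType D l M) {k : Type u} [Field k]

/-- The matrix of a torus element. -/
theorem coe_eq_diagonal {t : ↥(D.group k)} (ht : t ∈ TT D k) :
    ((t : GL D.Idx k) : Matrix D.Idx D.Idx k) =
      Matrix.diagonal (Sum.elim (fun _ => (1 : k)) (fun s : Fin D.nroots => cX hp t (vec D l s))) := by
  have ht' := ht
  rw [Subgroup.mem_subgroupOf] at ht
  obtain ⟨c, hc, e, hact⟩ := Tor.exists_c hp ht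
  rw [e]
  congr 1
  funext i
  rcases i with i | s
  · rfl
  · show ∏ i ∈ Finset.range D.rank, c i ^ D.cartan i s = cX hp t (vec D l s)
    rw [cX_vec hp ht' s.2]
    symm
    apply ch_eq hp s.2 ht'
    apply Subtype.ext
    rw [Subgroup.coe_mul, Subgroup.coe_mul, Subgroup.coe_inv, coe_xc hp s.2, coe_xc hp s.2, hact s s.2, mul_one]

theorem rank_sub_one {t : ↥(D.group k)} (ht : t ∈ TT D k) :
    (((t : GL D.Idx k) : Matrix D.Idx D.Idx k) - 1).rank =
      Nat.card {s : Fin D.nroots // cX hp t (vec D l s) ≠ 1} := by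
  classical
  rw [coe_eq_diagonal hp ht, ← Matrix.diagonal_one, Matrix.diagonal_sub, Matrix.rank_diagonal,
    ← Nat.card_eq_fintype_card]
  symm
  refine Nat.card_congr (Equiv.ofBijective (fun s : {s : Fin D.nroots // cX hp t (vec D l s) ≠ 1} =>
    (⟨Sum.inr s.1, sub_ne_zero.2 s.2⟩ : {i : D.Idx // (Sum.elim (fun _ => (1 : k))
      (fun s : Fin D.nroots => cX hp t (vec D l s)) i) - 1 ≠ 0})) ⟨?_, ?_⟩)
  · intro a b h
    exact Subtype.ext (Sum.inr_injective (congrArg Subtype.val h))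
  · rintro ⟨i, hi⟩
    rcases i with i | s
    · exact absurd (sub_self 1) hi
    · exact ⟨⟨s, sub_ne_zero.1 hi⟩, rfl⟩

/-- **Conjugate torus elements kill the same number of roots.** -/
theorem card_conj {s t y : ↥(D.group k)} (hs : s ∈ TT D k) (ht : t ∈ TT D k) (h : s = y * t * y⁻¹) :
    Nat.card {r : Fin D.nroots // cX hp s (vec D l r) ≠ 1} = Nat.card {r : Fin D.nroots // cX hp t (vec D l r) ≠ 1} := by
  classical
  rw [← rank_sub_one hp hs, ← rank_sub_one hp ht]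
  have h1 : ((s : GL D.Idx k) : Matrix D.Idx D.Idx k) - 1 =
      ((y : GL D.Idx k) : Matrix D.Idx D.Idx k) * (((t : GL D.Idx k) : Matrix D.Idx D.Idx k) - 1) *
        (((y⁻¹ : ↥(D.group k)) : GL D.Idx k) : Matrix D.Idx D.Idx k) := by
    rw [mul_sub, sub_mul, mul_one, ← Units.val_mul, ← Units.val_mul, ← Units.val_mul, ← Subgroup.coe_mul,
      ← Subgroup.coe_mul, ← h, ← Subgroup.coe_mul, mul_inv_cancel]
    rfl
  rw [h1, Matrix.rank_mul_eq_left_of_isUnit_det, Matrix.rank_mul_eq_right_of_isUnit_det]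
  · exact (Matrix.isUnit_iff_isUnit_det _).1 (Units.isUnit _)
  · exact (Matrix.isUnit_iff_isUnit_det _).1 (Units.isUnit _)

theorem cX_zpow {t : ↥(D.group k)} (ht : t ∈ TT D k) {B : Fin l → Fin l → ℤ} {q : ℤ} {u : k}
    (hcX : ∀ x, cX hp t x = u ^ Gq B q x) (i : ℤ) (x : Fin l → ℤ) : cX hp (t ^ i) x = u ^ (i * Gq B q x) := by
  obtain ⟨n, rfl | rfl⟩ := i.eq_nat_or_neg
  · rw [zpow_natCast, cX_pow hp ht, hcX, ← zpow_natCast, ← zpow_mul, mul_comm]
  · have h1 : cX hp (t ^ (-(n : ℤ))) x * cX hp (t ^ n) x = 1 := by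
      rw [← cX_mul hp (zpow_mem ht _) (pow_mem ht n), zpow_neg, zpow_natCast, inv_mul_cancel, cX_one]
    have h2 : cX hp (t ^ n) x = u ^ ((n : ℤ) * Gq B q x) := by
      rw [cX_pow hp ht, hcX, ← zpow_natCast, ← zpow_mul, mul_comm]
    rw [h2] at h1
    rw [neg_mul, zpow_neg u]
    exact eq_inv_of_mul_eq_one_left h1

/-- The roots killed by an element of order 3. -/
theorem card_three {t : ↥(D.group k)} (ht : t ∈ TT D k) {B : Fin l → Fin l → ℤ} {q : ℤ} {u : k} {N : ℕ}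
    (hu : IsPrimitiveRoot u N) (hcX : ∀ x, cX hp t x = u ^ Gq B q x) {i : ℤ} (hi : ¬ (N : ℤ) ∣ i)
    (hi3 : (N : ℤ) ∣ 3 * i) : Nat.card {r : Fin D.nroots // cX hp (t ^ i) (vec D l r) ≠ 1} =
      Nat.card {r : Fin D.nroots // ¬ (3 : ℤ) ∣ Gq B q (vec D l r)} := by
  refine Nat.card_congr (Equiv.subtypeEquivRight fun r => not_congr ?_)
  rw [cX_zpow hp ht hcX, hu.zpow_eq_one_iff_dvd]
  constructor
  · intro h1
    by_contra h2
    obtain ⟨a, b, hab⟩ := (Int.prime_three.coprime_iff_not_dvd).2 h2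
    apply hi
    have e : i = a * (3 * i) + b * (i * Gq B q (vec D l r)) := by
      calc i = i * (a * 3 + b * Gq B q (vec D l r)) := by rw [hab, mul_one]
        _ = _ := by ring
    rw [e]
    exact dvd_add (hi3.mul_left _) (h1.mul_left _)
  · rintro ⟨g, hg⟩
    rw [hg]
    have e : i * (3 * g) = 3 * i * g := by ring
    rw [e]
    exact hi3.mul_right _

theorem Gq_mod {B : Fin l → Fin l → ℤ} {q m : ℤ} (hq : m ∣ q + 1) (x : Fin l → ℤ) :
    m ∣ Gq B q x ↔ m ∣ Gq B (-1) x := by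
  have h1 : q ≡ -1 [ZMOD m] := by
    rw [Int.modEq_iff_dvd]
    have e : -1 - q = -(q + 1) := by ring
    rw [e]
    exact hq.neg_right
  have h2 : Gq B q x ≡ Gq B (-1) x [ZMOD m] := by
    unfold Gq
    refine Int.ModEq.sum fun j _ => Int.ModEq.mul_left _ (Int.ModEq.sum fun i _ => Int.ModEq.mul_left _ (h1.pow _))
  exact h2.dvd_iff

/-- **No conjugate elements of order 3 in two tori.** -/
theorem eq_one_of_conj {t t' y : ↥(D.group k)} (ht : t ∈ TT D k) (ht' : t' ∈ TT D k) {B B' : Fin l → Fin l → ℤ}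
    {q : ℤ} {u u' : k} {N N' : ℕ} (hu : IsPrimitiveRoot u N) (hu' : IsPrimitiveRoot u' N')
    (hcX : ∀ x, cX hp t x = u ^ Gq B q x) (hcX' : ∀ x, cX hp t' x = u' ^ Gq B' q x) (htN : orderOf t = N)
    (htN' : orderOf t' = N') (hgcd : Nat.gcd N N' ∣ 3)
    (hne : Nat.card {r : Fin D.nroots // ¬ (3 : ℤ) ∣ Gq B q (vec D l r)} ≠
      Nat.card {r : Fin D.nroots // ¬ (3 : ℤ) ∣ Gq B' q (vec D l r)}) {i j : ℤ} (h : t ^ i = y * t' ^ j * y⁻¹) :
    t ^ i = 1 := by
  by_contra h1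
  have hcard := card_conj hp (zpow_mem ht i) (zpow_mem ht' j) h
  have ho : orderOf (t ^ i) = orderOf (t' ^ j) := by
    rw [h]
    exact orderOf_injective (MulAut.conj y).toMonoidHom (MulAut.conj y).injective (t' ^ j)
  have h3 : orderOf (t ^ i) ∣ 3 := by
    refine dvd_trans (Nat.dvd_gcd ?_ ?_) hgcd
    · rw [← htN]; exact orderOf_dvd_of_mem_zpowers (Subgroup.zpow_mem_zpowers t i)
    · rw [ho, ← htN']; exact orderOf_dvd_of_mem_zpowers (Subgroup.zpow_mem_zpowers t' j)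
  have h1' : t' ^ j ≠ 1 := by
    intro h4
    rw [h4, mul_one, mul_inv_cancel] at h
    exact h1 h
  have key : ∀ {t : ↥(D.group k)} {i : ℤ} {N : ℕ}, orderOf t = N → orderOf (t ^ i) ∣ 3 → t ^ i ≠ 1 →
      ¬ (N : ℤ) ∣ i ∧ (N : ℤ) ∣ 3 * i := by
    intro t i N hN h3 h1
    constructor
    · intro h4
      rw [← hN, orderOf_dvd_iff_zpow_eq_one] at h4
      exact h1 h4
    · rw [← hN, orderOf_dvd_iff_zpow_eq_one, mul_comm, zpow_mul]
      exact orderOf_dvd_iff_pow_eq_one.1 h3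
  obtain ⟨h4, h5⟩ := key htN h3 h1
  obtain ⟨h6, h7⟩ := key htN' (ho ▸ h3) h1'
  rw [card_three hp ht hu hcX h4 h5, card_three hp ht' hu' hcX' h6 h7] at hcard
  exact hne hcard

end Cfsg.Agent.H83.RootCount
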