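import Cfsg.Agent.H129.TorusUntw
import Cfsg.Agent.H83.AutCount

/-!
# Field automorphisms and twisted tori (helper83)

`exists_torus` : the twisted torus of `w` in `D.group k` together with the position of the Frobenius automorphisms:
`n` can be taken fixed by all field automorphisms, and then `u = z φ(z)⁻¹` is fixed by `σ`.
`exists_elt` : the consequences for a finite group `G0` embedded in the fixed points.
-/

set_option autoImplicit false
set_option linter.unusedSectionVars false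

namespace Cfsg.Agent.H83.TorAut

open CoxeterSystem Cfsg Cfsg.Lie Cfsg.Lie.ChevalleyDatum
open Cfsg.Agent.ChevalleyStructure Cfsg.Agent.ChevalleyStructure.Elts Cfsg.Agent.ChevalleyStructure.CoxeterGeom
  Cfsg.Agent.ChevalleyStructure.CoxeterGeomTypes Cfsg.Agent.ChevalleyStructure.NPerm
open Cfsg.Agent.Tits.Roots Cfsg.Agent.Tits.Core Cfsg.Agent.Nodes Cfsg.Agent.Nodes.Reps Cfsg.Agent.Nodes.BNOf
  Cfsg.Agent.Nodes.RGDChev Cfsg.Agent.Nodes.Bruhat Cfsg.Agent.Nodes.SubComb Cfsg.Agent.Nodes.Coroot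
open Cfsg.Agent.KFacts.RgdField Cfsg.Agent.KFacts.RgdChevCoord Cfsg.Agent.BpExc.TorCent Cfsg.Agent.BpExc.TorChev
open Cfsg.Agent.GpExc.Field Cfsg.Agent.BpExc.Tow Cfsg.Agent.BpExc.TowChev Cfsg.Agent.BpExc.Fr
  Cfsg.Agent.BpExc.LangFr Cfsg.Agent.LangThm Cfsg.Agent.BpExc Cfsg.Agent.H129.TorusChar Cfsg.Agent.H129.TorusCent
  Cfsg.Agent.H129.TorusTw Cfsg.Agent.H129.TorusMain Cfsg.Agent.H129.TorusUntw Cfsg.Agent.ChevStructure.FieldMap
  Cfsg.Agent.BpExc.EmbSplit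

universe u

variable {D : ChevalleyDatum} {l : ℕ} {M : CoxeterMatrix (Fin l)} (hp : IsType D l M) {k : Type u} [Field k]
  {W : Type*} [Group W] (cs : CoxeterSystem M W) {p e : ℕ} [Fact p.Prime] [CharP k p] {σ : MulAut ↥(D.group k)}
  {g : (Fin l → ℤ) ≃+ (Fin l → ℤ)}

/-- Representatives fixed by all field automorphisms. -/
theorem exists_rp_fixed (hN : NSys M (TT D k) (nc hp k)) (L : List (Fin l)) :
    ∃ n : ↥(D.group k), Rp cs hN (cs.wordProd L) n ∧ ∀ f : k →+* k, emb hp.inList f n = n := by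
  induction L with
  | nil =>
    refine ⟨1, ⟨one_mem _, ?_⟩, fun f => map_one _⟩
    rw [wordProd_nil, map_one]
    rfl
  | cons i L ih =>
    obtain ⟨n, hn, hf⟩ := ih
    refine ⟨nc hp k i * n, ?_, fun f => by rw [map_mul, emb_nc, hf]⟩
    rw [wordProd_cons]
    exact Rp.mul ⟨hN.norm i, wq_simple cs hN i⟩ hn

/-- **The twisted torus.** -/
theorem exists_torus [IsAlgClosed k] [Finite W] (hl : 0 < l) (hk : LocFin k) (he : 0 < e) (hσ : IsFrob p e σ)
    (F : Fr cs hp.isCartan (TT D k) (XX D l k) σ g) {d' : ℕ}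
    {B' : Fin l → Fin l → ℤ} (hB : InvC D l d' B') (hd' : d' ≠ 0) (L : List (Fin l)) {V B : Fin l → Fin l → ℤ}
    {c : Fin l → ℤ} (h : Cyc l (theta hp cs (cs.wordProd L) g) V B c) {N : ℕ} (hfN : fN c ((p ^ e : ℕ) : ℤ) = N)
    (hpN : ¬ p ∣ N) (hcomm : ∀ (j : ℕ) (y : ↥(D.group k)), σ (phi D k p j y) = phi D k p j (σ y)) :
    ∃ z t : ↥(D.group k), t ∈ TT D k ∧ orderOf t = N ∧
      (∀ s ∈ TT D k, σ (z * s * z⁻¹) = z * s * z⁻¹ ↔ s ∈ Subgroup.zpowers t) ∧
      (∃ u : k, IsPrimitiveRoot u N ∧ ∀ x, cX hp t x = u ^ Gq B ((p ^ e : ℕ) : ℤ) x) ∧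
      (∀ s ∈ TT D k, σ (z * s * z⁻¹) = z * s * z⁻¹ →
        ∀ x, cX hp s (theta hp cs (cs.wordProd L) g x) = cX hp s x ^ p ^ e) ∧
      ∀ j : ℕ, σ (z * (phi D k p j z)⁻¹) = z * (phi D k p j z)⁻¹ := by
  have hN := nsys_of_locFin hp cs hk p
  have hNk : (N : k) ≠ 0 := by
    rw [Ne, CharP.cast_eq_zero_iff k p]
    exact hpN
  obtain ⟨n, hn, hnf⟩ := exists_rp_fixed hp cs hN L
  obtain ⟨z, hz⟩ := lang_all hp cs he hσ F 1 n
  rw [map_one, one_mul] at hz
  obtain ⟨t, ht, hθ, htN, hu, hgen⟩ := exists_gen hp h hl hB hd' (q := p ^ e) hfN hNk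
  have hσz : σ z = z * n := by rw [hz]; group
  have hkey : ∀ s, σ (z * s * z⁻¹) = z * s * z⁻¹ ↔ n * σ s * n⁻¹ = s := by
    intro s
    have e1 : σ (z * s * z⁻¹) = z * (n * σ s * n⁻¹) * z⁻¹ := by
      rw [map_mul, map_mul, map_inv, hσz]; group
    rw [e1]
    constructor
    · intro h1
      have h2 := congrArg (fun y => z⁻¹ * y * z) h1
      simpa [mul_assoc] using h2
    · intro h1
      rw [h1]
  refine ⟨z, t, ht, htN, fun s hs => ?_, hu, fun s hs h1 => ?_, fun j => ?_⟩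
  · rw [hkey]
    constructor
    · intro h1
      exact hgen s hs ((tau_iff hp cs hk hσ F hn hs).1 h1)
    · rintro ⟨i, rfl⟩
      have h1 : n * σ t * n⁻¹ = t := (tau_iff hp cs hk hσ F hn ht).2 hθ
      show n * σ (t ^ i) * n⁻¹ = t ^ i
      rw [map_zpow, ← conj_zpow, h1]
  · exact (tau_iff hp cs hk hσ F hn hs).1 ((hkey s).1 h1)
  · have h1 : phi D k p j n = n := by rw [phi_eq hp]; exact hnf _
    rw [map_mul, map_inv, hσz, hcomm, hσz, map_mul, h1]
    group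

/-- The centraliser of the powers of `t` of regular prime order. -/
theorem cent_of_regular [IsAlgClosed k] [Finite W] (hk : LocFin k) {t : ↥(D.group k)} (ht : t ∈ TT D k) {N : ℕ}
    {B : Fin l → Fin l → ℤ} {q : ℤ} {u : k} (hu : IsPrimitiveRoot u N) (hcX : ∀ x, cX hp t x = u ^ Gq B q x)
    {r : ℕ} (hr : r.Prime) (hrW : ¬ r ∣ Nat.card W) {i : ℤ} (hi : ¬ (N : ℤ) ∣ i) (hir : (N : ℤ) ∣ i * r)
    (hreg : ∀ a, IsRoot cs hp.isCartan a → ¬ (r : ℤ) ∣ Gq B q a)
    (p : ℕ) [Fact p.Prime] [CharP k p] {c : ↥(D.group k)} (hc : c * t ^ i = t ^ i * c) : c ∈ TT D k := by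
  have hti : t ^ i ∈ TT D k := zpow_mem ht i
  have hval : ∀ x, cX hp (t ^ i) x = u ^ (i * Gq B q x) := by
    intro x
    obtain ⟨n, rfl | rfl⟩ := i.eq_nat_or_neg
    · rw [zpow_natCast, cX_pow hp ht, hcX, ← zpow_natCast, ← zpow_mul, mul_comm]
    · have h1 : cX hp (t ^ (-(n : ℤ))) x * cX hp (t ^ n) x = 1 := by
        rw [← cX_mul hp (zpow_mem ht _) (pow_mem ht n), zpow_neg, zpow_natCast, inv_mul_cancel, cX_one]
      have h2 : cX hp (t ^ n) x = u ^ ((n : ℤ) * Gq B q x) := by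
        rw [cX_pow hp ht, hcX, ← zpow_natCast, ← zpow_mul, mul_comm]
      rw [h2] at h1
      rw [neg_mul, zpow_neg u]
      exact eq_inv_of_mul_eq_one_left h1
  have hone : ∀ z : ℤ, u ^ z = 1 ↔ (N : ℤ) ∣ z := fun z => hu.zpow_eq_one_iff_dvd z
  have hne : ∀ a, IsRoot cs hp.isCartan a → cX hp (t ^ i) a ≠ 1 := by
    intro a ha h1
    rw [hval, hone] at h1
    -- `N ∣ i G a`, `N ∣ i r`, `gcd (G a, r) = 1`
    obtain ⟨x, y, hxy⟩ := (Nat.prime_iff_prime_int.1 hr).coprime_iff_not_dvd.2 (hreg a ha)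
    apply hi
    have e1 : i = x * (i * r) + y * (i * Gq B q a) := by
      calc i = i * (x * r + y * Gq B q a) := by rw [hxy, mul_one]
        _ = _ := by ring
    rw [e1]
    exact dvd_add (hir.mul_left _) (h1.mul_left _)
  refine mem_TT_of_comm hp cs hti hk p hne (fun w hw => ?_) hc
  refine stab_eq_one hp cs hti hk p hr hrW (m := 1) ?_ (fun a ha h1 => ?_) ?_ hw
  · intro a _
    rw [one_mul, hval, ← zpow_natCast, ← zpow_mul, hone]
    have e1 : i * Gq B q a * (r : ℤ) = i * r * Gq B q a := by ring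
    rw [e1]
    exact hir.mul_right _
  · rw [pow_one] at h1
    exact absurd h1 (hne a ha)
  · rintro a ⟨ha, h1⟩
    rw [pow_one] at h1
    exact absurd h1 (hne a ha)

/-- Automorphisms of an embedded finite group. -/
theorem exists_aut {G0 Y : Type*} [Group G0] [Finite G0] [Group Y] {e0 : G0 →* Y} (he0 : Function.Injective e0)
    {θ : Y → Y} (hθm : ∀ a b, θ (a * b) = θ a * θ b) (hθ : Function.Injective θ) (h : ∀ y, θ (e0 y) ∈ e0.range) :
    ∃ b : MulAut G0, ∀ y, e0 (b y) = θ (e0 y) := by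
  choose f hf using h
  have hm : ∀ a b, f (a * b) = f a * f b := fun a b => he0 (by rw [hf, map_mul, map_mul, hf, hf, hθm])
  have hinj : Function.Injective f := by
    intro a b hab
    apply he0
    apply hθ
    rw [← hf, ← hf, hab]
  exact ⟨MulEquiv.ofBijective (MulHom.mk f hm) ⟨hinj, Finite.surjective_of_injective hinj⟩, fun y => hf y⟩

/-- **The element of a finite group embedded in the fixed points.** -/
theorem exists_elt [IsAlgClosed k] [Finite W] (hk : LocFin k) {z t : ↥(D.group k)} (ht : t ∈ TT D k) {N : ℕ}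
    (htN : orderOf t = N) (hN : N ≠ 0) (hfixt : ∀ s ∈ TT D k, σ (z * s * z⁻¹) = z * s * z⁻¹ ↔ s ∈ Subgroup.zpowers t)
    {B : Fin l → Fin l → ℤ} {q : ℤ} {u : k} (hu : IsPrimitiveRoot u N) (hcX : ∀ x, cX hp t x = u ^ Gq B q x)
    {G0 : Type*} [Group G0] [Finite G0] {e0 : G0 →* ↥(D.group k)} (he0 : Function.Injective e0)
    (hfix : ∀ x, σ (e0 x) = e0 x) {d : ℕ} (hd : d ∣ N)
    (hS : ∀ s ∈ Subgroup.zpowers t, z * s * z⁻¹ ∈ e0.range ↔ s ∈ Subgroup.zpowers (t ^ d))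
    (p : ℕ) [Fact p.Prime] [CharP k p] :
    ∃ x0 : G0, e0 x0 = z * t ^ d * z⁻¹ ∧ orderOf x0 = N / d ∧ ∀ y ∈ Subgroup.zpowers x0, ∀ r : ℕ, r.Prime →
      r ∣ orderOf y → ¬ r ∣ Nat.card W → (∀ a, IsRoot cs hp.isCartan a → ¬ (r : ℤ) ∣ Gq B q a) →
      Subgroup.centralizer {y} = Subgroup.zpowers x0 ∧ ∀ c, c * e0 y = e0 y * c → z⁻¹ * c * z ∈ TT D k := by
  obtain ⟨x0, hx0⟩ := (hS _ (Subgroup.npow_mem_zpowers t d)).2 (Subgroup.mem_zpowers _)
  have hd0 : d ≠ 0 := by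
    rintro rfl
    exact hN (Nat.eq_zero_of_zero_dvd hd)
  have hord : orderOf x0 = N / d := by
    have h1 : orderOf (e0 x0) = orderOf x0 := orderOf_injective e0 he0 x0
    have h2 : orderOf (z * t ^ d * z⁻¹) = orderOf (t ^ d) := by
      have h3 : z * t ^ d * z⁻¹ = MulAut.conj z (t ^ d) := rfl
      rw [h3]
      exact orderOf_injective (MulAut.conj z).toMonoidHom (MulAut.conj z).injective (t ^ d)
    rw [← h1, hx0, h2, orderOf_pow' t hd0, htN, Nat.gcd_eq_right hd]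
  refine ⟨x0, hx0, hord, ?_⟩
  rintro y ⟨j, rfl⟩ r hr hry hrW hreg
  have hy : e0 (x0 ^ j) = z * t ^ ((d : ℤ) * j) * z⁻¹ := by
    rw [map_zpow, hx0, conj_zpow, ← zpow_natCast, ← zpow_mul]
  -- a power of order `r`
  obtain ⟨m, hm⟩ := hry
  have hyo : orderOf (x0 ^ j) ≠ 0 := (orderOf_pos _).ne'
  have hm0 : m ≠ 0 := by
    rintro rfl
    rw [mul_zero] at hm
    exact hyo hm
  have hcent : ∀ c : ↥(D.group k), c * e0 (x0 ^ j) = e0 (x0 ^ j) * c → z⁻¹ * c * z ∈ TT D k := by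
    intro c hc
    have h1 : (z⁻¹ * c * z) * t ^ ((d : ℤ) * j * m) = t ^ ((d : ℤ) * j * m) * (z⁻¹ * c * z) := by
      have h2 : c * (z * t ^ ((d : ℤ) * j * m) * z⁻¹) = (z * t ^ ((d : ℤ) * j * m) * z⁻¹) * c := by
        have h3 : z * t ^ ((d : ℤ) * j * m) * z⁻¹ = e0 (x0 ^ j) ^ m := by
          rw [hy, conj_pow, ← zpow_natCast, ← zpow_mul]
        rw [h3]
        exact (show Commute c (e0 (x0 ^ j)) from hc).pow_right m
      calc (z⁻¹ * c * z) * t ^ ((d : ℤ) * j * m) = z⁻¹ * (c * (z * t ^ ((d : ℤ) * j * m) * z⁻¹)) * z := by group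
        _ = z⁻¹ * ((z * t ^ ((d : ℤ) * j * m) * z⁻¹) * c) * z := by rw [h2]
        _ = _ := by group
    refine cent_of_regular hp cs hk ht hu hcX hr hrW (i := (d : ℤ) * j * m) ?_ ?_ hreg p h1
    · intro h2
      -- `(x0 ^ j) ^ m = 1`
      have h3 : (x0 ^ j) ^ m = 1 := by
        apply he0
        rw [map_pow, hy, conj_pow, ← zpow_natCast, ← zpow_mul, map_one]
        have h4 : t ^ ((d : ℤ) * j * m) = 1 := by
          rw [← orderOf_dvd_iff_zpow_eq_one, htN]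
          exact h2
        rw [h4]
        group
      have h4 := Nat.le_of_dvd (Nat.pos_of_ne_zero hm0) (orderOf_dvd_of_pow_eq_one h3)
      rw [hm] at h4
      have := hr.two_le
      nlinarith [Nat.pos_of_ne_zero hm0]
    · have h3 : (x0 ^ j) ^ (m * r) = 1 := by rw [mul_comm m r, ← hm, pow_orderOf_eq_one]
      have h4 := congrArg e0 h3
      rw [map_pow, hy, conj_pow, ← zpow_natCast, ← zpow_mul, map_one] at h4
      have h5 : t ^ ((d : ℤ) * j * (m * r : ℕ)) = 1 := by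
        have h6 := congrArg (fun s => z⁻¹ * s * z) h4
        simpa [mul_assoc] using h6
      rw [← orderOf_dvd_iff_zpow_eq_one, htN] at h5
      have e1 : (d : ℤ) * j * m * r = (d : ℤ) * j * (m * r : ℕ) := by push_cast; ring
      rw [e1]
      exact h5
  refine ⟨?_, hcent⟩
  apply le_antisymm
  · intro c hc
    rw [Subgroup.mem_centralizer_singleton_iff] at hc
    have h1 := hcent (e0 c) (by rw [← map_mul, hc, map_mul])
    have h2 : z * (z⁻¹ * e0 c * z) * z⁻¹ = e0 c := by group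
    have h3 : z⁻¹ * e0 c * z ∈ Subgroup.zpowers t := by
      rw [← hfixt _ h1, h2, hfix]
    obtain ⟨i, hi⟩ := (hS _ h3).1 (by rw [h2]; exact ⟨c, rfl⟩)
    refine ⟨i, he0 ?_⟩
    show e0 (x0 ^ i) = e0 c
    rw [map_zpow, hx0]
    have h7 : (t ^ d) ^ i = z⁻¹ * e0 c * z := hi
    calc (z * t ^ d * z⁻¹) ^ i = z * (t ^ d) ^ i * z⁻¹ := conj_zpow
      _ = e0 c := by rw [h7]; group
  · rintro _ ⟨i, rfl⟩
    rw [Subgroup.mem_centralizer_singleton_iff]
    exact ((Commute.refl x0).zpow_zpow i j).eq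

include hp in
/-- **The field automorphism** `x0 ↦ x0 ^ (p ^ j)`. -/
theorem exists_field [IsAlgClosed k] {z t : ↥(D.group k)} (ht : t ∈ TT D k)
    {G0 : Type*} [Group G0] [Finite G0] {e0 : G0 →* ↥(D.group k)} (he0 : Function.Injective e0) {x0 : G0} {d : ℕ}
    (hx0 : e0 x0 = z * t ^ d * z⁻¹) (j : ℕ)
    (hr : ∀ y : G0, z * (phi D k p j z)⁻¹ * phi D k p j (e0 y) * (z * (phi D k p j z)⁻¹)⁻¹ ∈ e0.range) :
    ∃ b : MulAut G0, b x0 = x0 ^ p ^ j := by
  set u := z * (phi D k p j z)⁻¹ with hu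
  obtain ⟨b, hb⟩ := exists_aut he0 (θ := fun y => u * phi D k p j y * u⁻¹)
    (fun a b => by simp only [map_mul]; group)
    (fun a b h => by
      have h1 := congrArg (fun y => u⁻¹ * y * u) h
      simp only [mul_assoc, inv_mul_cancel_left, inv_mul_cancel, mul_one] at h1
      exact (phi D k p j).injective h1)
    hr
  refine ⟨b, he0 ?_⟩
  rw [hb, map_pow, hx0]
  have h1 : phi D k p j t = t ^ p ^ j := by
    have hφt : phi D k p j t ∈ TT D k := by
      rw [phi_eq hp]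
      exact emb_T hp _ ⟨t, ht, rfl⟩
    refine cX_inj hp hφt (pow_mem ht _) fun i => ?_
    have h2 := emb_ch hp (iterateFrobenius k p j) (simple_lt hp.inList (lt_rank hp i)) ht
    rw [vec_simple hp i] at h2
    rw [cX_pow hp ht, cX_sr, cX_sr, phi_eq hp, h2, iterateFrobenius_def]
  show u * phi D k p j (z * t ^ d * z⁻¹) * u⁻¹ = _
  rw [map_mul, map_mul, map_inv, map_pow, h1, hu]
  have h2 : (z * t ^ d * z⁻¹) ^ p ^ j = z * (t ^ d) ^ p ^ j * z⁻¹ := conj_pow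
  rw [h2, ← pow_mul, ← pow_mul, mul_comm d]
  group

end Cfsg.Agent.H83.TorAut
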