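import Mathlib
import Cfsg.Agent.H83.FoldRel
import Cfsg.Agent.Nodes.RGDTwE6

/-!
The table of the extremal involutions of the Weyl group of type `F₄`, for `²E₆(q)` (helper83).
-/

set_option autoImplicit false
set_option linter.unusedSectionVars false
set_option maxHeartbeats 400000

namespace Cfsg.Agent.H83.TwESixTab

open Cfsg.Lie Cfsg.Agent.ChevalleyStructure Cfsg.Agent.ChevalleyStructure.Elts
  Cfsg.Agent.H83.ChevInv Cfsg.Agent.H83.OrthRed Cfsg.Agent.H83.FoldInv Cfsg.Agent.H83.FoldRel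
open Cfsg.Agent.Nodes.RGDTwE6 (J foldData foldGrp hp isCartan)
open Cfsg.Agent.Nodes.RGDFold (nI wp wp_lt nI_cons)

universe u

/-- the table of the extremal involutions of the Weyl group of type `F₄` -/
def good : List (List (Fin 4) × Refs 4 × List (Fin 4)) :=
  [([], [([], 1), ([2], 1), ([3, 2], 1), ([0, 1, 2, 3, 1, 2, 1], 0)], []),
    ([0], [([1, 2, 1], 0), ([3, 1, 2, 1], 0), ([2, 3, 1, 2, 1], 0)], [0]),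
    ([1], [([2], 1), ([3, 2], 1), ([0, 1, 2, 3, 1, 2, 1], 0)], [1]),
    ([2], [([], 0), ([1, 2, 1], 0), ([3, 2, 1, 2, 3, 0, 1], 2)], [2]),
    ([0, 2], [([1, 2, 1], 0), ([3, 2, 1, 2, 3, 0, 1], 2)], [0, 2]),
    ([1, 2], [([3, 2], 1), ([0, 1, 2, 3, 1, 2, 1], 0)], [1, 2, 1, 2]),
    ([0, 1, 2], [([3, 2, 1, 2, 3, 0, 1], 2)], [0, 1, 0, 2, 1, 0, 2, 1, 2]),
    ([3], [([], 0), ([2, 3, 1, 2, 1], 0), ([1, 2, 3, 0, 1], 2)], [3]),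
    ([0, 3], [([2, 3, 1, 2, 1], 0), ([1, 2, 3, 0, 1], 2)], [0, 3]),
    ([1, 3], [([2, 3, 1], 2), ([0, 1, 2, 3, 1, 2, 1], 0)], [1, 3]),
    ([1, 2, 3], [([0, 1, 2, 3, 1, 2, 1], 0)], [1, 2, 1, 2, 3, 2, 1, 2, 3]),
    ([0, 1, 2, 3], [], [0, 1, 0, 2, 1, 0, 2, 1, 2, 3, 2, 1, 0, 2, 1, 2, 3, 2, 1, 0, 2, 1, 2, 3])]

def bad : List (List (Fin 4) × List (Fin 4) × List (Fin 4)) :=
  [([0, 1], [0, 1, 0, 2, 1, 0, 2, 1, 2, 3, 2, 1, 0, 2, 1, 2, 3, 2, 1, 0, 2, 1, 2, 3, 0, 1, 0], [0, 1, 0]),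
    ([0, 1, 3], [0, 1, 0, 2, 1, 0, 2, 1, 2, 3, 2, 1, 0, 2, 1, 2, 3, 2, 1, 0, 2, 1, 2, 3, 0, 1, 0, 3], [0, 1, 0, 3]),
    ([2, 3], [0, 1, 0, 2, 1, 0, 2, 1, 2, 3, 2, 1, 0, 2, 1, 2, 3, 2, 1, 0, 2, 1, 2, 3, 2, 3, 2], [2, 3, 2]),
    ([0, 2, 3], [0, 1, 0, 2, 1, 0, 2, 1, 2, 3, 2, 1, 0, 2, 1, 2, 3, 2, 1, 0, 2, 1, 2, 3, 0, 2, 3, 2], [0, 2, 3, 2])]

theorem tab : tabchk chevE6 J good bad = true := by decide +kernel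

end Cfsg.Agent.H83.TwESixTab
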