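import Mathlib
import Cfsg.Agent.H83.TwESixTab

/-!
Involutions of `²E₆(q)`, `q` even (helper83): every involution is conjugate to `x_{71}(1)`, to `x_{66}(1) x_{68}(1)` or
to `x_{53}(1) x_{68}(1) x_{66}(1)`.
-/

set_option autoImplicit false
set_option linter.unusedSectionVars false
set_option maxHeartbeats 400000

namespace Cfsg.Agent.H83.TwESix

open Cfsg.Lie Cfsg.Agent.ChevalleyStructure Cfsg.Agent.ChevalleyStructure.Elts
  Cfsg.Agent.H83.ChevInv Cfsg.Agent.H83.OrthRed Cfsg.Agent.H83.FoldInv Cfsg.Agent.H83.FoldRel Cfsg.Agent.H83.TwESixTab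
open Cfsg.Agent.Nodes.RGDTwE6 (J foldData foldGrp hp isCartan)
open Cfsg.Agent.Nodes.RGDFold (nI wp wp_lt nI_cons)
open Cfsg.Agent.Nodes.RGDChev (lt_rank nn)

universe u

variable {K : Type u} [Field K] [Fintype K] [CharP K 2] {q : ℕ}

theorem PX_one (r : ℕ) : PX hp.inList K [r] = xG hp.inList r 1 := by rw [PX_cons, PX_nil, mul_one]

theorem PX_two (r s : ℕ) : PX hp.inList K [r, s] = xG hp.inList r 1 * xG hp.inList s 1 := by rw [PX_cons, PX_one]

theorem mem_single {r : ℕ} (hr : r ∈ [46, 39]) : PX hp.inList K [r] ∈ twistedE6 K q := by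
  rw [PX_one]
  refine TwE6Basic.single_mem (K := K) (one_pow q) (r := r) ?_
  simp only [List.mem_cons, List.not_mem_nil, or_false] at hr
  rcases hr with rfl | rfl <;> simp

theorem mem_pair (t : K) {rs : ℕ × ℕ} (hr : rs ∈ [(56, 36), (42, 37)]) :
    xG hp.inList rs.1 t * xG hp.inList rs.2 (t ^ q) ∈ twistedE6 K q := by
  refine TwE6Basic.pair_mem (K := K) t (rs := rs) ?_
  simp only [List.mem_cons, List.not_mem_nil, or_false] at hr
  rcases hr with rfl | rfl <;> simp

theorem hx : ∀ i, PX hp.inList K (sblk chevE6 (J i)) ∈ twistedE6 K q := by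
  intro i
  have h : sblk chevE6 (J 0) = [46] ∧ sblk chevE6 (J 1) = [39] ∧ sblk chevE6 (J 2) = [42, 37] ∧
    sblk chevE6 (J 3) = [56, 36] := by decide +kernel
  fin_cases i
  · show PX hp.inList K (sblk chevE6 (J 0)) ∈ _
    rw [h.1]; exact mem_single (by simp)
  · show PX hp.inList K (sblk chevE6 (J 1)) ∈ _
    rw [h.2.1]; exact mem_single (by simp)
  · show PX hp.inList K (sblk chevE6 (J 2)) ∈ _
    rw [h.2.2.1, PX_two]
    have := mem_pair (K := K) (q := q) 1 (rs := (42, 37)) (by simp)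
    rwa [one_pow] at this
  · show PX hp.inList K (sblk chevE6 (J 3)) ∈ _
    rw [h.2.2.2, PX_two]
    have := mem_pair (K := K) (q := q) 1 (rs := (56, 36)) (by simp)
    rwa [one_pow] at this

/-- a word of blocks acts on all root elements by one element of the group -/
theorem exists_word (hn : ∀ i, nI hp K (J i) ∈ twistedE6 K q) (ω : List (Fin 4)) :
    ∃ g ∈ twistedE6 K q, ∀ r < chevE6.nroots, ∀ t : K,
      g * xG hp.inList r t * g⁻¹ = xG hp.inList (bact chevE6 J ω r) t := by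
  have hblk : ∀ (o : List (Fin 6)) (r : ℕ), r < chevE6.nroots → ∀ t : K,
      nI hp K o * xG hp.inList r t * (nI hp K o)⁻¹ = xG hp.inList (wp chevE6 o r) t := by
    intro o
    induction o with
    | nil => intro r hr t; show 1 * _ * 1⁻¹ = _; rw [one_mul, inv_one, mul_one]; rfl
    | cons j o ih =>
      intro r hr t
      rw [nI_cons, mul_inv_rev]
      calc nn hp K j * nI hp K o * xG hp.inList r t * ((nI hp K o)⁻¹ * (nn hp K j)⁻¹)
          = nn hp K j * (nI hp K o * xG hp.inList r t * (nI hp K o)⁻¹) * (nn hp K j)⁻¹ := by group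
        _ = _ := by
          rw [ih r hr t]
          exact n_conj hp.inList (lt_rank hp j) (wp_lt hp o hr) t
  induction ω with
  | nil => exact ⟨1, one_mem _, fun r _ t => by rw [one_mul, inv_one, mul_one]; rfl⟩
  | cons i ω ih =>
    obtain ⟨g, hg, h⟩ := ih
    refine ⟨nI hp K (J i) * g, mul_mem (hn i) hg, fun r hr t => ?_⟩
    rw [mul_inv_rev]
    calc nI hp K (J i) * g * xG hp.inList r t * (g⁻¹ * (nI hp K (J i))⁻¹)
        = nI hp K (J i) * (g * xG hp.inList r t * g⁻¹) * (nI hp K (J i))⁻¹ := by group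
      _ = _ := by rw [h r hr t]; exact hblk _ _ (bact_lt (hp := hp) ω hr) t

theorem mem_word (hn : ∀ i, nI hp K (J i) ∈ twistedE6 K q) (ω : List (Fin 4)) {r s r' s' : ℕ} {t u : K}
    (hr : r < chevE6.nroots) (hs : s < chevE6.nroots)
    (h : xG hp.inList r t * xG hp.inList s u ∈ twistedE6 K q) (hr' : bact chevE6 J ω r = r')
    (hs' : bact chevE6 J ω s = s') : xG hp.inList r' t * xG hp.inList s' u ∈ twistedE6 K q := by
  obtain ⟨g, hg, hg'⟩ := exists_word hn ω
  have h1 := mul_mem (mul_mem hg h) (inv_mem hg)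
  have h2 : g * (xG hp.inList r t * xG hp.inList s u) * g⁻¹ =
      (g * xG hp.inList r t * g⁻¹) * (g * xG hp.inList s u * g⁻¹) := by group
  rw [h2, hg' r hr, hg' s hs, hr', hs'] at h1
  exact h1

theorem mem_word1 (hn : ∀ i, nI hp K (J i) ∈ twistedE6 K q) (ω : List (Fin 4)) {r r' : ℕ} {t : K}
    (hr : r < chevE6.nroots) (h : xG hp.inList r t ∈ twistedE6 K q) (hr' : bact chevE6 J ω r = r') :
    xG hp.inList r' t ∈ twistedE6 K q := by
  obtain ⟨g, hg, hg'⟩ := exists_word hn ω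
  have h1 := mul_mem (mul_mem hg h) (inv_mem hg)
  rw [hg' r hr, hr'] at h1
  exact h1

/-- the representatives -/
def reps : List (List ℕ) := [[71], [66, 68], [53, 68, 66]]

theorem b2ok : b2chk chevE6 66 68 48 50 23 21 71 60 = true := by decide +kernel
theorem b2ok' : ∀ e ∈ [44], com chevE6 66 e = true ∧ com chevE6 68 e = true ∧ com chevE6 48 e = true ∧
    com chevE6 50 e = true ∧ com chevE6 23 e = true ∧ com chevE6 21 e = true ∧ com chevE6 71 e = true ∧
    com chevE6 60 e = true := by decide +kernel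
theorem d4ok1 : d4chk chevE6 71 60 44 2 39 = true := by decide +kernel
theorem d4ok2 : d4chk chevE6 68 66 53 1 46 = true := by decide +kernel

/-- **Every involution of `²E₆(q)`**, `q` even. -/
theorem exists_rep (hK : Fintype.card K = q ^ 2) {t : GL chevE6.Idx K} (ht : t ∈ twistedE6 K q) (h2 : t * t = 1) :
    t = 1 ∨ ∃ R ∈ reps, ∃ g ∈ twistedE6 K q, g * t * g⁻¹ = PX hp.inList K R := by
  have hq : IsPrimePow q := by
    obtain ⟨n, hpr, hcard⟩ := FiniteField.card K 2
    have h1 : IsPrimePow (q ^ 2) := by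
      rw [← hK, hcard]
      exact (Nat.prime_two.isPrimePow).pow n.2.ne'
    exact (isPrimePow_pow_iff (by norm_num)).1 h1
  obtain ⟨φ, hφ, hqq⟩ := TwE6Basic.exists_frob hq hK
  have FG := foldGrp hφ hqq
  have hn := FG.nG
  obtain ⟨τ, hτ⟩ := exists_trace hK φ hφ (fun x => by rw [hφ, hφ]; exact hqq x)
  obtain ⟨e, he, g, hg, hO, e1⟩ := exists_list CoxeterMatrix.F₄.toCoxeterSystem isCartan foldData FG tab hx ht h2
  have hR : ∀ L L' : List ℕ, ∀ ω : List (Fin 4), OL chevE6 L → (L.map (bact chevE6 J ω)).isPerm L' = true →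
      (L.map (bact chevE6 J ω)).Pairwise (Orth chevE6) → EqvG hp.inList K (twistedE6 K q) L L' := by
    intro L L' ω hL hperm hpw
    refine (EqvG.bword FG ω hL.lt).trans (EqvG.perm ⟨?_, hpw⟩ (List.isPerm_iff.1 hperm))
    intro r hr
    obtain ⟨s, hs, rfl⟩ := List.mem_map.1 hr
    exact bact_lt (hp := hp) ω (hL.lt s hs)
  have key : ∀ L R : List ℕ, R ∈ reps → EqvG hp.inList K (twistedE6 K q) L R →
      g * t * g⁻¹ = PX hp.inList K L →
      ∃ R ∈ reps, ∃ g ∈ twistedE6 K q, g * t * g⁻¹ = PX hp.inList K R := by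
    rintro L R hR ⟨k, hk, e2⟩ e3
    exact ⟨R, hR, k * g, mul_mem hk hg, by rw [← e2, ← e3]; group⟩
  -- membership
  have hU : xG hp.inList 48 (1 : K) * xG hp.inList 50 1 ∈ twistedE6 K q := by
    have h3 := mem_pair (K := K) (q := q) 1 (rs := (42, 37)) (by simp)
    rw [one_pow] at h3
    exact mem_word hn [2, 0, 1] (by decide +kernel) (by decide +kernel) h3 (by decide +kernel) (by decide +kernel)
  have hV : xG hp.inList 23 τ * xG hp.inList 21 (τ ^ q) ∈ twistedE6 K q :=
    mem_word hn [2, 0, 1, 2] (by decide +kernel) (by decide +kernel)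
      (mem_pair (K := K) (q := q) τ (rs := (42, 37)) (by simp)) (by decide +kernel) (by decide +kernel)
  have h46 : xG hp.inList 46 (1 : K) ∈ twistedE6 K q := by rw [← PX_one]; exact mem_single (by simp)
  have hz2 : xG hp.inList 2 (1 : K) ∈ twistedE6 K q :=
    mem_word1 hn [2, 3, 1, 2, 1, 0] (by decide +kernel) h46 (by decide +kernel)
  have hz1 : xG hp.inList 1 (1 : K) ∈ twistedE6 K q :=
    mem_word1 hn [1, 2, 3, 1, 2, 1, 0] (by decide +kernel) h46 (by decide +kernel)
  have hlong : PX hp.inList K [71, 60, 44] ∈ twistedE6 K q := by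
    have h3 := PX_rl_mem FG hx [([0, 1, 2, 3, 1, 2, 1], 0), ([3, 2], 1), ([2], 1)]
    have h4 : rl chevE6 J [([0, 1, 2, 3, 1, 2, 1], 0), ([3, 2], 1), ([2], 1)] = [71, 60, 44] := by decide +kernel
    rwa [h4] at h3
  have hls : PX hp.inList K [68, 66, 53] ∈ twistedE6 K q := by
    have h3 := PX_rl_mem FG hx [([3, 2, 1, 2, 3, 0, 1], 2), ([1, 2, 1], 0)]
    have h4 : rl chevE6 J [([3, 2, 1, 2, 3, 0, 1], 2), ([1, 2, 1], 0)] = [68, 66, 53] := by decide +kernel
    rwa [h4] at h3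
  -- `ll ~ s`
  have rll : EqvG hp.inList K (twistedE6 K q) [71, 60] [66, 68] :=
    EqvG.b2 hp.inList b2ok (L := []) (by simp) hτ hU hV
  have rlll : EqvG hp.inList K (twistedE6 K q) [71, 60, 44] [53, 68, 66] := by
    refine (EqvG.b2 hp.inList b2ok (L := [44]) b2ok' hτ hU hV).trans ?_
    exact hR _ _ [1, 0] ⟨by decide +kernel, by decide +kernel⟩ (by decide +kernel) (by decide +kernel)
  have rllll : EqvG hp.inList K (twistedE6 K q) [71, 60, 44, 39] [53, 68, 66] :=
    (EqvG.d4 hp.inList d4ok1 (L := []) ⟨by decide +kernel, by decide +kernel⟩ (by decide +kernel) (by simp) hz2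
      hlong).trans rlll
  have rlls : EqvG hp.inList K (twistedE6 K q) [68, 66, 53, 46] [53, 68, 66] :=
    (EqvG.d4 hp.inList d4ok2 (L := []) ⟨by decide +kernel, by decide +kernel⟩ (by decide +kernel) (by simp) hz1
      hls).trans (EqvG.perm ⟨by decide +kernel, by decide +kernel⟩ (List.isPerm_iff.1 (by decide +kernel)))
  simp only [TwESixTab.good, List.mem_cons, List.not_mem_nil, or_false] at he
  rcases he with rfl | rfl | rfl | rfl | rfl | rfl | rfl | rfl | rfl | rfl | rfl | rfl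
  · right
    have h3 : (rl chevE6 J [([], 1), ([2], 1), ([3, 2], 1), ([0, 1, 2, 3, 1, 2, 1], 0)]).map chevE6.neg =
      [39, 44, 60, 71].map chevE6.neg := by decide +kernel
    rw [h3] at e1 hO
    refine key _ [53, 68, 66] (by simp [reps]) ?_ e1
    exact (hR _ [71, 60, 44, 39] [1, 2, 3, 1, 2, 0, 1, 2, 3, 0, 1, 2, 0, 1] hO (by decide +kernel)
      (by decide +kernel)).trans rllll
  · right
    have h3 : (rl chevE6 J [([1, 2, 1], 0), ([3, 1, 2, 1], 0), ([2, 3, 1, 2, 1], 0)]).map chevE6.neg =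
      [53, 65, 69].map chevE6.neg := by decide +kernel
    rw [h3] at e1 hO
    refine key _ [53, 68, 66] (by simp [reps]) ?_ e1
    exact (hR _ [71, 60, 44] [2, 1, 2, 3, 2, 1, 2, 0, 1, 2, 3, 1, 2, 0, 1, 2, 0, 1] hO (by decide +kernel)
      (by decide +kernel)).trans rlll
  · right
    have h3 : (rl chevE6 J [([2], 1), ([3, 2], 1), ([0, 1, 2, 3, 1, 2, 1], 0)]).map chevE6.neg =
      [44, 60, 71].map chevE6.neg := by decide +kernel
    rw [h3] at e1 hO
    refine key _ [53, 68, 66] (by simp [reps]) ?_ e1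
    exact (hR _ [71, 60, 44] [2, 1, 2, 3, 2, 1, 2, 0, 1, 2, 3, 1, 2, 0, 1, 2] hO (by decide +kernel)
      (by decide +kernel)).trans rlll
  · right
    have h3 : (rl chevE6 J [([], 0), ([1, 2, 1], 0), ([3, 2, 1, 2, 3, 0, 1], 2)]).map chevE6.neg =
      [46, 53, 68, 66].map chevE6.neg := by decide +kernel
    rw [h3] at e1 hO
    refine key _ [53, 68, 66] (by simp [reps]) ?_ e1
    exact (hR _ [68, 66, 53, 46] [3, 2, 1, 2, 0, 1, 2, 3, 2, 1, 2, 0, 1, 2, 3, 0, 1, 2, 1, 0] hO (by decide +kernel)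
      (by decide +kernel)).trans rlls
  · right
    have h3 : (rl chevE6 J [([1, 2, 1], 0), ([3, 2, 1, 2, 3, 0, 1], 2)]).map chevE6.neg =
      [53, 68, 66].map chevE6.neg := by decide +kernel
    rw [h3] at e1 hO
    refine key _ [53, 68, 66] (by simp [reps]) ?_ e1
    exact hR _ _ [3, 2, 1, 2, 0, 1, 2, 3, 2, 1, 2, 0, 1, 2, 3, 1, 2, 0, 1, 2, 0, 1] hO (by decide +kernel)
      (by decide +kernel)
  · right
    have h3 : (rl chevE6 J [([3, 2], 1), ([0, 1, 2, 3, 1, 2, 1], 0)]).map chevE6.neg =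
      [60, 71].map chevE6.neg := by decide +kernel
    rw [h3] at e1 hO
    refine key _ [66, 68] (by simp [reps]) ?_ e1
    exact (hR _ [71, 60] [3, 2, 1, 2, 0, 1, 2, 3, 2, 1, 2, 0, 1, 2, 3] hO (by decide +kernel)
      (by decide +kernel)).trans rll
  · right
    have h3 : (rl chevE6 J [([3, 2, 1, 2, 3, 0, 1], 2)]).map chevE6.neg =
      [68, 66].map chevE6.neg := by decide +kernel
    rw [h3] at e1 hO
    refine key _ [66, 68] (by simp [reps]) ?_ e1
    exact hR _ [66, 68] [3, 2, 1, 2, 0, 1, 2, 3, 2, 1, 2, 0, 1, 2, 3] hO (by decide +kernel) (by decide +kernel)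
  · right
    have h3 : (rl chevE6 J [([], 0), ([2, 3, 1, 2, 1], 0), ([1, 2, 3, 0, 1], 2)]).map chevE6.neg =
      [46, 69, 64, 54].map chevE6.neg := by decide +kernel
    rw [h3] at e1 hO
    refine key _ [53, 68, 66] (by simp [reps]) ?_ e1
    exact (hR _ [68, 66, 53, 46] [0, 1, 2, 3, 2, 1, 2, 0, 1, 2, 3, 2, 0, 1, 2, 0, 1, 0] hO (by decide +kernel)
      (by decide +kernel)).trans rlls
  · right
    have h3 : (rl chevE6 J [([2, 3, 1, 2, 1], 0), ([1, 2, 3, 0, 1], 2)]).map chevE6.neg =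
      [69, 64, 54].map chevE6.neg := by decide +kernel
    rw [h3] at e1 hO
    refine key _ [53, 68, 66] (by simp [reps]) ?_ e1
    exact hR _ _ [1, 2, 0, 1, 2, 3, 2, 1, 2, 0, 1, 2, 3, 1, 2, 0, 1, 2, 0, 1] hO (by decide +kernel)
      (by decide +kernel)
  · right
    have h3 : (rl chevE6 J [([2, 3, 1], 2), ([0, 1, 2, 3, 1, 2, 1], 0)]).map chevE6.neg =
      [59, 45, 71].map chevE6.neg := by decide +kernel
    rw [h3] at e1 hO
    refine key _ [53, 68, 66] (by simp [reps]) ?_ e1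
    exact hR _ _ [1, 2, 0, 1, 2, 3, 2, 1, 2, 0, 1, 2, 3, 1, 2, 0, 1, 2] hO (by decide +kernel) (by decide +kernel)
  · right
    have h3 : (rl chevE6 J [([0, 1, 2, 3, 1, 2, 1], 0)]).map chevE6.neg = [71].map chevE6.neg := by decide +kernel
    rw [h3] at e1 hO
    refine key _ [71] (by simp [reps]) ?_ e1
    exact hR _ _ [0, 1, 2, 3, 1, 2, 0, 1, 2, 3, 0, 1, 2, 1, 0] hO (by decide +kernel) (by decide +kernel)
  · left
    have h3 : (rl chevE6 J []).map chevE6.neg = [] := rfl
    rw [h3, PX_nil] at e1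
    have h5 : g * t = g := by rw [← mul_inv_eq_one]; exact e1
    exact mul_eq_left.1 h5

/-- the representatives lie in the group -/
theorem reps_mem (hK : Fintype.card K = q ^ 2) : ∀ R ∈ reps, PX hp.inList K R ∈ twistedE6 K q := by
  have hq : IsPrimePow q := by
    obtain ⟨n, hpr, hcard⟩ := FiniteField.card K 2
    have h1 : IsPrimePow (q ^ 2) := by
      rw [← hK, hcard]
      exact (Nat.prime_two.isPrimePow).pow n.2.ne'
    exact (isPrimePow_pow_iff (by norm_num)).1 h1
  obtain ⟨φ, hφ, hqq⟩ := TwE6Basic.exists_frob hq hK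
  have FG := foldGrp hφ hqq
  intro R hR
  simp only [reps, List.mem_cons, List.not_mem_nil, or_false] at hR
  rcases hR with rfl | rfl | rfl
  · have h3 := PX_rl_mem FG hx [([0, 1, 2, 3, 1, 2, 1], 0)]
    have h4 : rl chevE6 J [([0, 1, 2, 3, 1, 2, 1], 0)] = [71] := by decide +kernel
    rwa [h4] at h3
  · have h3 := PX_rl_mem FG hx [([3, 2, 1, 2, 3, 0, 1], 2)]
    have h4 : rl chevE6 J [([3, 2, 1, 2, 3, 0, 1], 2)] = [68, 66] := by decide +kernel
    rw [h4] at h3
    have h5 : PX hp.inList K [66, 68] = PX hp.inList K [68, 66] :=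
      PX_perm ⟨by decide +kernel, by decide +kernel⟩ (List.isPerm_iff.1 (by decide +kernel))
    rwa [← h5] at h3
  · have h3 := PX_rl_mem FG hx [([1, 2, 1], 0), ([3, 2, 1, 2, 3, 0, 1], 2)]
    have h4 : rl chevE6 J [([1, 2, 1], 0), ([3, 2, 1, 2, 3, 0, 1], 2)] = [53, 68, 66] := by decide +kernel
    rwa [h4] at h3

end Cfsg.Agent.H83.TwESix
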