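import Cfsg.Agent.H83.OwnChar
import Cfsg.Agent.KFacts.TwESix.Tor
import Cfsg.Agent.S1066
import Cfsg.Agent.S1070
import Cfsg.Agent.S1102

/-!
# Elements of order `l`, `ord_l(r) = 18 f`, of `²E₆(r^f)` normalise no `r`-subgroup (helper83)
-/

set_option autoImplicit false
set_option linter.unusedSectionVars false

namespace Cfsg.Agent.H83.OwnE6

open Subgroup Cfsg.Agent.H568
open CoxeterSystem Cfsg.Agent.ChevalleyStructure.CoxeterGeom Cfsg.Agent.Tits.Roots Cfsg.Agent.Tits.Core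
  Cfsg.Agent.Tits.RootComb Cfsg.Agent.Nodes.Reps Cfsg.Agent.Nodes.BNOf
  Cfsg.Agent.Nodes.RGDTwE6 Cfsg.Agent.Nodes.RGDFold
open Cfsg.Lie Cfsg.Agent.ChevalleyStructure
open Cfsg.Agent.KFacts.RgdDiag Cfsg.Agent.KFacts.TwESix Cfsg.Agent.KFacts.TwESix.Comb
open Cfsg.Agent.ChevalleyStructure.SL2Hom (up lo)
open Cfsg.Agent.Nodes.RGDFoldSL Cfsg.Agent.Nodes.BNOf.RGD

universe u

variable {K : Type u} [Field K] [Fintype K] {q : ℕ} {φ : K →+* K}
variable {W : Type*} [Group W] (cs : CoxeterSystem CoxeterMatrix.F₄ W)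

/-- the exponents of the orders of the root groups -/
def wt (x : Fin 4 → ℤ) : ℕ := if bf x x = 4 then 1 else 2

theorem card_X (r : ℕ) [Fact r.Prime] [CharP K r] (hφ : ∀ x, φ x = x ^ q) (hqq : ∀ t : K, (t ^ q) ^ q = t)
    (hK : Fintype.card K = q ^ 2) (hq1 : 1 < q) {x : Fin 4 → ℤ} (hx : IsRoot cs isCartan x) :
    Nat.card ↥(X φ q x) = q ^ wt x := by
  have : Finite W := finiteW cs
  have R := rgd cs hφ hqq r
  rcases norm cs hx with hl | hl
  · obtain ⟨w, rfl⟩ := exists_rep_long cs hx hl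
    rw [Nodes.CardSup.card_X_rep R w (isRoot_sr cs isCartan 0), OutTwo.card_of_coord (Out.coordE hφ hqq 0), wt, if_pos hl,
      pow_one]
    have h1 := ChevalleyStructure.FixedCard.card_fixed hq1 hK
    rw [← h1]
    refine Nat.card_congr (Equiv.subtypeEquivRight fun x => ?_)
    show x ∈ Fx φ 1 ↔ _
    rw [mem_Fx, Function.iterate_one, hφ]
  · obtain ⟨w, rfl⟩ := exists_rep_short cs hx hl
    rw [Nodes.CardSup.card_X_rep R w (isRoot_sr cs isCartan 3), OutTwo.card_of_coord (Out.coordE hφ hqq 3), wt,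
      if_neg (by rw [hl]; norm_num)]
    have h1 : (Fx φ 2 : Subfield K) = ⊤ := Out.F2_eq_top hφ hqq
    show Nat.card ↥(Fx φ 2) = _
    rw [h1, Nat.card_congr Subfield.topEquiv.toEquiv, Nat.card_eq_fintype_card, hK]

/-- the positive roots with positive `j`-th coefficient -/
def SS (j : Fin 4) : Finset (Fin 4 → ℤ) := (rts.filter fun x => (∀ i, 0 ≤ x i) ∧ 0 < x j).toFinset

theorem mem_SS (j : Fin 4) (x : Fin 4 → ℤ) : x ∈ SS j ↔ IsRoot cs isCartan x ∧ 0 ≤ x ∧ 0 < x j := by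
  unfold SS
  rw [List.mem_toFinset, List.mem_filter, mem_rts cs, decide_eq_true_iff]
  rfl

theorem sum_SS : ∀ j : Fin 4, 21 ≤ ∑ x ∈ SS j, wt x := by decide +kernel

theorem closed_SS (j : Fin 4) : Nodes.Unique.Closed cs isCartan (SS j : Set (Fin 4 → ℤ)) := by
  intro x hx y hy z hz
  rw [Finset.mem_coe, mem_SS cs] at hx hy ⊢
  refine ⟨hz.1, nonneg_of_btwn hx.2.1 hy.2.1 hz, ?_⟩
  obtain ⟨-, m, a, b, hm, ha, hb, he⟩ := hz
  have h1 := congrFun he j
  simp only [Pi.smul_apply, Pi.add_apply, smul_eq_mul] at h1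
  have h2 : 0 < m * z j := by
    rw [h1]
    have := mul_pos ha hx.2.2
    have := mul_pos hb hy.2.2
    omega
  by_contra h3
  push Not at h3
  nlinarith

theorem card_VJ (r : ℕ) [Fact r.Prime] [CharP K r] (hφ : ∀ x, φ x = x ^ q) (hqq : ∀ t : K, (t ^ q) ^ q = t)
    (hK : Fintype.card K = q ^ 2) (hq1 : 1 < q) {J : Set (Fin 4)} (hJ : J ≠ Set.univ) :
    q ^ 21 ≤ Nat.card ↥(Nodes.LeviDec.VJ cs isCartan (X φ q) J) := by
  have : Finite W := finiteW cs
  obtain ⟨j, hj⟩ : ∃ j, j ∉ J := by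
    by_contra hcon
    push Not at hcon
    exact hJ (Set.eq_univ_of_forall hcon)
  have h1 : RGD.Sup (X φ q) (SS j : Set (Fin 4 → ℤ)) ≤ Nodes.LeviDec.VJ cs isCartan (X φ q) J := by
    refine RGD.Sup_mono fun x hx => ?_
    rw [Finset.mem_coe, mem_SS cs] at hx
    exact ⟨hx.1, hx.2.1, j, hj, hx.2.2⟩
  have h2 := Nodes.CardSup.card_sup (rgd cs hφ hqq r) (s := SS j)
    (fun x hx => by
      rw [Finset.mem_coe, mem_SS cs] at hx
      exact ⟨hx.1, hx.2.1⟩) (closed_SS cs j)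
  have h3 : ∏ x ∈ SS j, Nat.card ↥(X φ q x) = q ^ ∑ x ∈ SS j, wt x := by
    rw [← Finset.prod_pow_eq_pow_sum]
    refine Finset.prod_congr rfl fun x hx => ?_
    exact card_X cs r hφ hqq hK hq1 ((mem_SS cs j x).1 hx).1
  rw [h3] at h2
  calc q ^ 21 ≤ q ^ ∑ x ∈ SS j, wt x := Nat.pow_le_pow_right (by omega) (sum_SS j)
    _ = _ := h2.symm
    _ ≤ _ := Nat.le_of_dvd Nat.card_pos (Subgroup.card_dvd_of_le h1)

/-- **Own characteristic.** -/
theorem noNorm_own (hq : IsPrimePow q) (hK : Fintype.card K = q ^ 2) {r f : ℕ} [hr : Fact r.Prime] [CharP K r]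
    (hqf : q = r ^ f) (hf : 1 ≤ f) {l : ℕ} (hl : l.Prime) (hord : orderOf (r : ZMod l) = 18 * f)
    {x : ↥(twistedE6 K q)} (hx : orderOf x = l) (hcent : ¬ r ∣ Nat.card ↥(centralizer {x})) : NoNorm r x := by
  have hlf : Fact l.Prime := ⟨hl⟩
  obtain ⟨φ, hφ, hqq⟩ := TwE6Basic.exists_frob hq hK
  have hq1 := hq.one_lt
  let cs : CoxeterSystem CoxeterMatrix.F₄ CoxeterMatrix.F₄.Group := CoxeterMatrix.F₄.toCoxeterSystem
  have hfin : Finite CoxeterMatrix.F₄.Group := finiteW cs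
  have hpow : ∀ m, l ∣ r ^ m - 1 ↔ 18 * f ∣ m := by
    intro m
    rw [← hord, orderOf_dvd_iff_pow_eq_one, ← ZMod.natCast_eq_zero_iff, Nat.cast_sub (Nat.one_le_pow _ _ hr.1.pos)]
    push_cast
    rw [sub_eq_zero]
  have hlr : l ≠ r := by
    rintro rfl
    have h1 : ((l : ℕ) : ZMod l) = 0 := ZMod.natCast_self l
    rw [h1, orderOf_zero] at hord
    omega
  have hrq : r ∣ q := by rw [hqf]; exact dvd_pow_self r (by omega)
  have hcopm : ∀ m, 1 ≤ m → ¬ r ∣ q ^ m - 1 := by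
    intro m hm h
    have h1 : r ∣ q ^ m := dvd_pow hrq (by omega)
    have h2 : 1 ≤ q ^ m := Nat.one_le_pow _ _ (by omega)
    have h3 : r ∣ 1 := by
      have := (Nat.dvd_sub h1 h)
      rwa [Nat.sub_sub_self h2] at this
    exact hr.1.one_lt.ne' (Nat.dvd_one.1 h3)
  have hcopp : ∀ m, 1 ≤ m → ¬ r ∣ q ^ m + 1 := by
    intro m hm h
    have h1 : r ∣ q ^ m := dvd_pow hrq (by omega)
    exact hr.1.one_lt.ne' (Nat.dvd_one.1 ((Nat.dvd_add_right h1).1 h))
  have hcard := S1066.result hq hK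
  set d := Nat.gcd 3 (q + 1) with hd
  have hd0 : 0 < d := Nat.gcd_pos_of_pos_left _ (by norm_num)
  have hdr : ¬ r ∣ d := by
    intro h
    have := hcopp 1 le_rfl
    rw [pow_one] at this
    exact this (h.trans (Nat.gcd_dvd_right _ _))
  refine OwnChar.noNorm_char_bt (cs := cs) (rgd cs hφ hqq r)
    (KFacts.RgdFiltTwAll.filt_fold cs isCartan foldData (foldGrp hφ hqq) r)
    (G1_eq_top cs hφ hqq) hl hlr ?_ hx hcent ?_
  · -- the torus
    have h1 := S1102.result hq hK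
    have h2 : Nat.card ↥(T K q) = Nat.card ↥(chevE6.diagonalSubgroup K ⊓ twistedE6 K q) :=
      Nat.card_congr (Subgroup.subgroupOfEquivOfLe inf_le_right).toEquiv
    intro h
    have h3 : l ∣ (q - 1) ^ 4 * (q + 1) ^ 2 := by
      rw [← h1, ← h2]
      exact h.mul_left _
    have h4 : l ∣ q ^ 2 - 1 := by
      have e1 : q ^ 2 - 1 = (q - 1) * (q + 1) := by
        have h01 : 1 ≤ q ^ 2 := Nat.one_le_pow _ _ (by omega)
        have h02 : 1 ≤ q := by omega
        zify [h01, h02]; ring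
      rw [e1]
      rcases hl.dvd_mul.1 h3 with h | h
      · exact (hl.dvd_of_dvd_pow h).mul_right _
      · exact (hl.dvd_of_dvd_pow h).mul_left _
    rw [hqf, ← pow_mul, hpow] at h4
    have := Nat.le_of_dvd (by omega) h4
    omega
  · intro J k hJ hk0 hVJ hkG hlk
    rw [hpow] at hlk
    obtain ⟨j, hj⟩ := hlk
    -- `21 f ≤ k`
    have h1 := card_VJ cs r hφ hqq hK hq1 hJ
    rw [hVJ, hqf, ← pow_mul] at h1
    have h2 : f * 21 ≤ k := (Nat.pow_le_pow_iff_right hr.1.one_lt).1 h1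
    have hj2 : 2 ≤ j := by
      by_contra hcon
      have : j ≤ 1 := by omega
      have : k ≤ 18 * f := by rw [hj]; nlinarith
      omega
    intro h
    have hco : Nat.Coprime (r ^ (k + 1)) ((q ^ 2 - 1) * (q ^ 5 + 1) * (q ^ 6 - 1) * (q ^ 8 - 1) * (q ^ 9 + 1) * (q ^ 12 - 1)) := by
      apply Nat.Coprime.pow_left
      rw [Nat.Prime.coprime_iff_not_dvd hr.1]
      intro h
      rcases hr.1.dvd_mul.1 h with h | h
      · rcases hr.1.dvd_mul.1 h with h | h
        · rcases hr.1.dvd_mul.1 h with h | h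
          · rcases hr.1.dvd_mul.1 h with h | h
            · rcases hr.1.dvd_mul.1 h with h | h
              · exact hcopm 2 (by norm_num) h
              · exact hcopp 5 (by norm_num) h
            · exact hcopm 6 (by norm_num) h
          · exact hcopm 8 (by norm_num) h
        · exact hcopp 9 (by norm_num) h
      · exact hcopm 12 (by norm_num) h
    have h3 : r ^ (k + 1) ∣ q ^ 36 * ((q ^ 2 - 1) * (q ^ 5 + 1) * (q ^ 6 - 1) * (q ^ 8 - 1) * (q ^ 9 + 1) * (q ^ 12 - 1)) := by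
      have e1 : q ^ 36 * ((q ^ 2 - 1) * (q ^ 5 + 1) * (q ^ 6 - 1) * (q ^ 8 - 1) * (q ^ 9 + 1) * (q ^ 12 - 1)) =
          d * Nat.card ↥(twistedE6 K q) := by rw [hcard]; ring
      rw [e1]
      exact h.mul_left _
    have h4 := hco.dvd_of_dvd_mul_right h3
    rw [hqf, ← pow_mul] at h4
    have h5 := (Nat.pow_dvd_pow_iff_le_right hr.1.one_lt).1 h4
    rw [hj] at h5
    nlinarith

end Cfsg.Agent.H83.OwnE6
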