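import Cfsg.Agent.H83.RowE6C
import Cfsg.Agent.H83.OwnE6
import Cfsg.Agent.H568.LinP
import Cfsg.Agent.S2130
import Cfsg.Agent.H997.OutCard

/-!
# The row of `²E₆(q)` in S4329 (helper83)
-/

set_option autoImplicit false
set_option linter.unusedSectionVars false

namespace Cfsg.Agent.H83.RowE6

open Cfsg Cfsg.Lie Cfsg.Agent.H568 Cfsg.Agent.H129.TwE6Fr Cfsg.Agent.H83.AutCount Cfsg.Agent.H83.NumE6
  Cfsg.Agent.H83.TorE6 Cfsg.Agent.H83.RowE6A Cfsg.Agent.H83.RowE6B Cfsg.Agent.H83.RowE6C Cfsg.Agent.GpExc.Field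
  Cfsg.Agent.H129.TorusUntw Cfsg.Agent.BpExc.Tow

universe u

/-! ### numbers -/

theorem three_A {q : ℕ} (hq1 : 1 ≤ q) : ¬ 3 ∣ (q ^ 6 - q ^ 3 + 1) / Nat.gcd 3 (q + 1) := by
  rcases (Nat.dvd_prime Nat.prime_three).1 (Nat.gcd_dvd_left 3 (q + 1)) with hg | hg
  · rw [hg, Nat.div_one]
    intro h
    have h1 := (ZMod.natCast_eq_zero_iff (q ^ 6 - q ^ 3 + 1) 3).2 h
    push_cast [Nat.cast_sub (le1 hq1)] at h1
    have h2 : ((q + 1 : ℕ) : ZMod 3) = 0 := by
      push_cast
      revert h1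
      generalize (q : ZMod 3) = x
      revert x
      decide
    rw [ZMod.natCast_eq_zero_iff] at h2
    have h3 : 3 ∣ Nat.gcd 3 (q + 1) := Nat.dvd_gcd (dvd_refl 3) h2
    rw [hg] at h3
    norm_num at h3
  · rw [hg]
    intro h
    apply not_nine_A hq1
    obtain ⟨a, ha⟩ := h
    have h2 : 3 ∣ q ^ 6 - q ^ 3 + 1 := by
      have h3 : 3 ∣ q + 1 := by
        have := Nat.gcd_dvd_right 3 (q + 1)
        rwa [hg] at this
      have h4 := (ZMod.natCast_eq_zero_iff (q + 1) 3).2 h3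
      rw [← ZMod.natCast_eq_zero_iff]
      push_cast [Nat.cast_sub (le1 hq1)]
      push_cast at h4
      revert h4
      generalize (q : ZMod 3) = x
      revert x
      decide
    obtain ⟨b, hb⟩ := h2
    rw [hb, Nat.mul_div_cancel_left _ (by norm_num)] at ha
    exact ⟨a, by rw [hb, ha]; ring⟩

theorem big_A {q : ℕ} (hq3 : 3 ≤ q) (hd : Nat.gcd 3 (q + 1) ∣ q ^ 6 - q ^ 3 + 1) :
    78 < (q ^ 6 - q ^ 3 + 1) / Nat.gcd 3 (q + 1) := by
  have h27 : 27 ≤ q ^ 3 := by
    calc 27 = 3 ^ 3 := by norm_num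
      _ ≤ q ^ 3 := Nat.pow_le_pow_left hq3 3
  have e : q ^ 6 = q ^ 3 * q ^ 3 := by ring
  have h2 : q ^ 3 * 27 ≤ q ^ 3 * q ^ 3 := Nat.mul_le_mul_left _ h27
  have h3 : 3 * 79 ≤ q ^ 6 - q ^ 3 + 1 := by omega
  rw [Nat.lt_iff_add_one_le, Nat.le_div_iff_mul_le (Nat.gcd_pos_of_pos_left _ (by norm_num))]
  have h4 : Nat.gcd 3 (q + 1) ≤ 3 := Nat.gcd_le_left _ (by norm_num)
  calc (78 + 1) * Nat.gcd 3 (q + 1) ≤ 79 * 3 := Nat.mul_le_mul_left _ h4
    _ ≤ _ := by omega

/-- `q = 2` : the orders modulo 19. -/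
theorem nineteen {p n : ℕ} (hp : p.Prime) (hp2 : p ≠ 2) (hp19 : p ≠ 19) (hn : 1 ≤ n)
    (h : p ^ n ∣ 2 ^ 36 * (2 ^ 2 - 1) * (2 ^ 5 + 1) * (2 ^ 6 - 1) * (2 ^ 8 - 1) * (2 ^ 9 + 1) * (2 ^ 12 - 1))
    (hmod : p ^ n ≡ 1 [MOD 19]) : False := by
  have e : 2 ^ 36 * (2 ^ 2 - 1) * (2 ^ 5 + 1) * (2 ^ 6 - 1) * (2 ^ 8 - 1) * (2 ^ 9 + 1) * (2 ^ 12 - 1) =
      2 ^ 36 * (3 ^ 10 * (5 ^ 2 * (7 ^ 2 * (11 * (13 * (17 * 19)))))) := by norm_num
  rw [e] at h
  have key : ∀ s a : ℕ, s.Prime → p ≠ s → ∀ b : ℕ, p ^ n ∣ s ^ a * b → p ^ n ∣ b := by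
    intro s a hs hps b hb
    have hco : Nat.Coprime (p ^ n) (s ^ a) := Nat.Coprime.pow _ _ ((Nat.coprime_primes hp hs).2 hps)
    exact hco.dvd_of_dvd_mul_left hb
  have h1 := key 2 36 Nat.prime_two hp2 _ h
  have hpp : p = 3 ∨ p = 5 ∨ p = 7 ∨ p = 11 ∨ p = 13 ∨ p = 17 := by
    have h2 : p ∣ 3 ^ 10 * (5 ^ 2 * (7 ^ 2 * (11 * (13 * (17 * 19))))) := (dvd_pow_self p (by omega)).trans h1
    rcases hp.dvd_mul.1 h2 with h | h
    · left; exact (Nat.prime_dvd_prime_iff_eq hp (by norm_num)).1 (hp.dvd_of_dvd_pow h)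
    rcases hp.dvd_mul.1 h with h | h
    · right; left; exact (Nat.prime_dvd_prime_iff_eq hp (by norm_num)).1 (hp.dvd_of_dvd_pow h)
    rcases hp.dvd_mul.1 h with h | h
    · right; right; left; exact (Nat.prime_dvd_prime_iff_eq hp (by norm_num)).1 (hp.dvd_of_dvd_pow h)
    rcases hp.dvd_mul.1 h with h | h
    · right; right; right; left; exact (Nat.prime_dvd_prime_iff_eq hp (by norm_num)).1 h
    rcases hp.dvd_mul.1 h with h | h
    · right; right; right; right; left; exact (Nat.prime_dvd_prime_iff_eq hp (by norm_num)).1 h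
    rcases hp.dvd_mul.1 h with h | h
    · right; right; right; right; right; exact (Nat.prime_dvd_prime_iff_eq hp (by norm_num)).1 h
    · exact absurd ((Nat.prime_dvd_prime_iff_eq hp (by norm_num)).1 h) hp19
  have hle : ∀ m : ℕ, ¬ p ^ m ∣ 3 ^ 10 * (5 ^ 2 * (7 ^ 2 * (11 * (13 * (17 * 19))))) → n < m := by
    intro m hm
    by_contra hcon
    exact hm ((pow_dvd_pow p (by omega)).trans h1)
  rw [Nat.ModEq] at hmod
  rcases hpp with rfl | rfl | rfl | rfl | rfl | rfl
  · have := hle 11 (by norm_num)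
    interval_cases n <;> norm_num at hmod
  · have := hle 3 (by norm_num)
    interval_cases n <;> norm_num at hmod
  · have := hle 3 (by norm_num)
    interval_cases n <;> norm_num at hmod
  · have := hle 2 (by norm_num)
    interval_cases n
    norm_num at hmod
  · have := hle 2 (by norm_num)
    interval_cases n
    norm_num at hmod
  · have := hle 2 (by norm_num)
    interval_cases n
    norm_num at hmod

theorem index_out {F : Type u} [Field F] [Fintype F] {q r e : ℕ} [Fact r.Prime] [CharP F r] (hqe : q = r ^ e)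
    (he : 1 ≤ e) (hF : Fintype.card F = q ^ 2) :
    (MulAut.conj : ↥(twistedE6 F q) →* MulAut ↥(twistedE6 F q)).range.index = 2 * Nat.gcd 3 (q + 1) * e := by
  subst hqe
  rw [← H997.OutCard.card_out]
  exact S2130.result r e (by rw [hF, ← pow_mul, mul_comm]) he

/-- The order of an outer automorphism of prime order divides the index. -/
theorem dvd_index {G : Type*} [Group G] [Finite G] {p : ℕ} (hp : p.Prime) {a : MulAut G} (ha : orderOf a = p)
    (hinn : ¬ ∃ s, a = MulAut.conj s) : p ∣ (MulAut.conj : G →* MulAut G).range.index := by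
  have hKn : (MulAut.conj : G →* MulAut G).range.Normal := by
    refine ⟨?_⟩
    rintro _ ⟨g, rfl⟩ a
    refine ⟨a g, ?_⟩
    ext y
    simp [MulAut.conj_apply]
  set J := (MulAut.conj : G →* MulAut G).range with hJ
  have h1 : orderOf (QuotientGroup.mk a : MulAut G ⧸ J) ∣ p := by
    rw [← ha]
    exact orderOf_map_dvd (QuotientGroup.mk' J) a
  rcases (Nat.dvd_prime hp).1 h1 with h2 | h2
  · exfalso
    rw [orderOf_eq_one_iff, QuotientGroup.eq_one_iff] at h2
    obtain ⟨s, hs⟩ := h2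
    exact hinn ⟨s, hs.symm⟩
  · rw [← h2]
    exact orderOf_dvd_natCard _

/-- A conjugate of an outer automorphism is outer. -/
theorem inner_of_conj {G : Type*} [Group G] {a g : MulAut G} {s : G} (h : g * a * g⁻¹ = MulAut.conj s) :
    ∃ s, a = MulAut.conj s := by
  refine ⟨g⁻¹ s, ?_⟩
  have h1 : a = g⁻¹ * MulAut.conj s * g := by rw [← h]; group
  rw [h1]
  ext y
  simp [MulAut.conj_apply]

/-! ### the group -/

section

variable {F : Type u} [Field F] [Fintype F] {q : ℕ} {hq : IsPrimePow q} {hF : Fintype.card F = q ^ 2}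
  {k : Type u} [Field k] [IsAlgClosed k] {r e : ℕ} [hr : Fact r.Prime] [CharP k r] {f : F →+* k}
  {z t : ↥(chevE6.group k)} {u : k} {x0 : ↥(twistedE6 F q)}

/-- The nontrivial elements of the first torus. -/
theorem cent_A (T1 : Tor6 f hq hF cE r e TwEA.B (q ^ 6 - q ^ 3 + 1) (Nat.gcd 3 (q + 1)) z t u x0)
    {s : ↥(twistedE6 F q)} (hs : s ∈ Subgroup.zpowers x0) (hs1 : s ≠ 1) :
    Subgroup.centralizer {s} = Subgroup.zpowers x0 := by
  have hq1 := hq.one_lt.le
  have hs0 : orderOf s ≠ 1 := by rwa [Ne, orderOf_eq_one_iff]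
  obtain ⟨r', hr', hrs⟩ := Nat.exists_prime_and_dvd hs0
  have h1 : r' ∣ (q ^ 6 - q ^ 3 + 1) / Nat.gcd 3 (q + 1) := by
    rw [← T1.hord]
    exact hrs.trans (orderOf_dvd_of_mem_zpowers hs)
  have h2 : r' ∣ q ^ 6 - q ^ 3 + 1 := h1.trans (Nat.div_dvd_of_dvd T1.hdN)
  have h3 : r' ≠ 3 := by rintro rfl; exact three_A hq1 h1
  obtain ⟨hW, hreg⟩ := regA hq1 hr' h2 h3
  exact (T1.hcent s hs r' hr' hrs hW hreg).1

/-- **`x0` normalises no `p`-subgroup**, `p ∤ 2 r |T|`. -/
theorem noNorm_A (T1 : Tor6 f hq hF cE r e TwEA.B (q ^ 6 - q ^ 3 + 1) (Nat.gcd 3 (q + 1)) z t u x0)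
    (hqe : q = r ^ e) {p : ℕ} (hp : p.Prime) (hp2 : p ≠ 2) (hpr : p ≠ r)
    (hpN : ¬ p ∣ (q ^ 6 - q ^ 3 + 1) / Nat.gcd 3 (q + 1)) : NoNorm p x0 := by
  classical
  have hcomm : ∀ s ∈ Subgroup.zpowers x0, s ≠ 1 → ∀ y : ↥(twistedE6 F q), orderOf y = p → y * s ≠ s * y := by
    intro s hs hs1 y hy hys
    apply hpN
    have hyT : y ∈ Subgroup.zpowers x0 := by
      rw [← cent_A T1 hs hs1, Subgroup.mem_centralizer_singleton_iff]
      exact hys
    rw [← T1.hord, ← hy]
    exact orderOf_dvd_of_mem_zpowers hyT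
  have hcF : CharP F r := RingHom.charP f f.injective r
  rcases Nat.lt_or_ge q 3 with hq2 | hq3
  · have hq2' : q = 2 := by have := hq.one_lt; omega
    subst hq2'
    have h19 : Nat.Prime 19 := by norm_num
    have hord : orderOf x0 = 19 := by rw [T1.hord]; rfl
    have hp19 : p ≠ 19 := by
      rintro rfl
      apply hpN
      norm_num
    have hx1 : x0 ≠ 1 := by
      intro h
      rw [h, orderOf_one] at hord
      norm_num at hord
    intro Q hQ hn
    by_contra hQ1
    have hpf : Fact p.Prime := ⟨hp⟩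
    have hC : ∀ v ∈ Q, v * x0 = x0 * v → v = 1 := by
      intro v hv hvx
      by_contra hv1
      obtain ⟨m, hm⟩ := hQ ⟨v, hv⟩
      have hm' : v ^ p ^ m = 1 := congrArg Subtype.val hm
      obtain ⟨j, -, hj⟩ := (Nat.dvd_prime_pow hp).1 (orderOf_dvd_of_pow_eq_one hm')
      have hj0 : j ≠ 0 := by
        rintro rfl
        rw [pow_zero, orderOf_eq_one_iff] at hj
        exact hv1 hj
      obtain ⟨i, rfl⟩ : ∃ i, j = i + 1 := ⟨j - 1, by omega⟩
      have ho : orderOf (v ^ p ^ i) = p := by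
        rw [orderOf_pow_of_dvd (pow_ne_zero _ hp.ne_zero) (by rw [hj, pow_succ]; exact Dvd.intro _ rfl), hj, pow_succ,
          Nat.mul_div_cancel_left _ (pow_pos hp.pos _)]
      exact hcomm x0 (Subgroup.mem_zpowers _) hx1 _ ho ((show Commute v x0 from hvx).pow_left (p ^ i)).eq
    have h1 := OwnChar.card_modEq_one h19 hord hn hC
    obtain ⟨n, hn'⟩ := IsPGroup.iff_card.1 hQ
    rw [hn'] at h1
    have hn0 : n ≠ 0 := by
      rintro rfl
      rw [pow_zero] at hn'
      exact hQ1 (Subgroup.card_eq_one.1 hn')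
    refine nineteen hp hp2 hp19 (by omega) ?_ h1
    rw [← S1066.result hq hF, ← hn']
    exact (Subgroup.card_subgroup_dvd_card Q).mul_left _
  · refine Frob.noNorm_of_frob (ι := chevE6.Idx) (k := F) (twistedE6 F q).subtype (Subgroup.subtype_injective _)
      hp ?_ ?_ hcomm
    · intro h
      rw [CharP.cast_eq_zero_iff F r] at h
      exact hpr ((Nat.prime_dvd_prime_iff_eq hr.1 hp).1 h).symm
    · rw [T1.hord]
      have h1 : Fintype.card chevE6.Idx = 78 := by decide
      rw [h1]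
      exact big_A hq3 T1.hdN

/-- **The automorphisms fixing `x1`**, if the torus acts faithfully. -/
theorem fix_form (T1 : Tor6 f hq hF cE r e TwEA.B (q ^ 6 - q ^ 3 + 1) (Nat.gcd 3 (q + 1)) z t u x0) (hqe : q = r ^ e)
    {x1 : ↥(twistedE6 F q)} (hx1 : x1 ∈ Subgroup.zpowers x0)
    (hcard : Nat.card ↥(MulAction.stabilizer (MulAut ↥(twistedE6 F q)) x1) ≤ q ^ 6 - q ^ 3 + 1)
    {x2 : ↥(twistedE6 F q)}
    (hsec : ∀ i : ℤ, (z * t ^ i * z⁻¹) * embT f hq hF x2 = embT f hq hF x2 * (z * t ^ i * z⁻¹) → t ^ i = 1)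
    {a : MulAut ↥(twistedE6 F q)} (ha : a x1 = x1) :
    ∃ i : ℤ, ∀ y, embT f hq hF (a y) = (z * t ^ i * z⁻¹) * embT f hq hF y * (z * t ^ i * z⁻¹)⁻¹ := by
  classical
  set N := q ^ 6 - q ^ 3 + 1 with hN
  have hA : ∀ i : ℤ, ∃ b : MulAut ↥(twistedE6 F q), ∀ y, embT f hq hF (b y) =
      (z * t ^ i * z⁻¹) * embT f hq hF y * (z * t ^ i * z⁻¹)⁻¹ := by
    intro i
    refine TorAut.exists_aut (embT_injective f hq hF) (θ := fun y => (z * t ^ i * z⁻¹) * y * (z * t ^ i * z⁻¹)⁻¹)
      (fun a b => by group) (fun a b h => ?_) (fun y => tau_normal f hqe hq hF (tau_T T1 i) ⟨y, rfl⟩)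
    exact mul_left_cancel (mul_right_cancel h)
  choose A hA using hA
  have hAx : ∀ i, A i x1 = x1 := by
    intro i
    obtain ⟨j, rfl⟩ := hx1
    apply embT_injective f hq hF
    show embT f hq hF (A i (x0 ^ j)) = embT f hq hF (x0 ^ j)
    rw [hA, map_zpow, T1.hx0]
    have h1 : (z * t ^ i * z⁻¹) * (z * t ^ Nat.gcd 3 (q + 1) * z⁻¹) = (z * t ^ Nat.gcd 3 (q + 1) * z⁻¹) * (z * t ^ i * z⁻¹) := by
      have h2 : t ^ i * t ^ Nat.gcd 3 (q + 1) = t ^ Nat.gcd 3 (q + 1) * t ^ i :=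
        ((Commute.refl t).zpow_left i).pow_right _
      calc (z * t ^ i * z⁻¹) * (z * t ^ Nat.gcd 3 (q + 1) * z⁻¹) = z * (t ^ i * t ^ Nat.gcd 3 (q + 1)) * z⁻¹ := by group
        _ = _ := by rw [h2]; group
    have h3 := ((show Commute (z * t ^ i * z⁻¹) (z * t ^ Nat.gcd 3 (q + 1) * z⁻¹) from h1).zpow_right j).eq
    rw [h3, mul_inv_cancel_right]
  have hNpos : 0 < N := by omega
  let Φ : Fin N → ↥(MulAction.stabilizer (MulAut ↥(twistedE6 F q)) x1) := fun i =>
    ⟨A ((i : ℕ) : ℤ), by rw [MulAction.mem_stabilizer_iff]; exact hAx _⟩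
  have hΦ : Function.Injective Φ := by
    intro i j h
    have h1 : A ((i : ℕ) : ℤ) = A ((j : ℕ) : ℤ) := congrArg Subtype.val h
    have h2 : (z * t ^ ((i : ℕ) : ℤ) * z⁻¹) * embT f hq hF x2 * (z * t ^ ((i : ℕ) : ℤ) * z⁻¹)⁻¹ =
        (z * t ^ ((j : ℕ) : ℤ) * z⁻¹) * embT f hq hF x2 * (z * t ^ ((j : ℕ) : ℤ) * z⁻¹)⁻¹ := by
      rw [← hA, ← hA, h1]
    have h3 := hsec (((i : ℕ) : ℤ) - ((j : ℕ) : ℤ)) (by
      have e1 : z * t ^ (((i : ℕ) : ℤ) - ((j : ℕ) : ℤ)) * z⁻¹ =
          (z * t ^ ((j : ℕ) : ℤ) * z⁻¹)⁻¹ * (z * t ^ ((i : ℕ) : ℤ) * z⁻¹) := by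
        rw [zpow_sub]
        have h5 : t ^ ((i : ℕ) : ℤ) * (t ^ ((j : ℕ) : ℤ))⁻¹ = (t ^ ((j : ℕ) : ℤ))⁻¹ * t ^ ((i : ℕ) : ℤ) :=
          ((((Commute.refl t).zpow_left _).zpow_right _).inv_right).eq
        rw [h5]
        group
      rw [e1]
      set gi := z * t ^ ((i : ℕ) : ℤ) * z⁻¹ with hgi
      set gj := z * t ^ ((j : ℕ) : ℤ) * z⁻¹ with hgj
      set E := embT f hq hF x2 with hE
      calc gj⁻¹ * gi * E = gj⁻¹ * (gi * E * gi⁻¹) * gi := by group
        _ = gj⁻¹ * (gj * E * gj⁻¹) * gi := by rw [h2]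
        _ = _ := by group)
    rw [← orderOf_dvd_iff_zpow_eq_one, T1.htN] at h3
    have hi := i.2
    have hj := j.2
    apply Fin.ext
    have h4 : ((i : ℕ) : ℤ) - ((j : ℕ) : ℤ) = 0 := by
      apply Int.eq_zero_of_abs_lt_dvd h3
      rw [abs_lt]
      constructor <;> omega
    omega
  have hcf : Nat.card (Fin N) = N := by rw [Nat.card_eq_fintype_card, Fintype.card_fin]
  obtain ⟨i, hi⟩ := (hΦ.bijective_of_nat_card_le (hcard.trans hcf.ge)).2 ⟨a, ha⟩
  refine ⟨((i : ℕ) : ℤ), fun y => ?_⟩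
  have h1 : A ((i : ℕ) : ℤ) = a := congrArg Subtype.val hi
  rw [← hA, h1]

end

/-- **`Row p (²E₆(q))`.** -/
theorem row_tw {F : Type u} [Field F] [Fintype F] {q : ℕ} (hq : IsPrimePow q) (hF : Fintype.card F = q ^ 2)
    (p : ℕ) [hp : Fact p.Prime] (hp2 : p ≠ 2) : Row p ↥(twistedE6 F q) := by
  classical
  obtain ⟨r, e', hrF, hcF, hck, -, hre, hk⟩ := exists_closure hF
  obtain ⟨r', e, hr', he, hqe'⟩ := id hq
  have hrr : r' = r := by
    have h1 : r' ∣ r ^ e' := by
      rw [← hre, ← hqe']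
      exact dvd_pow (dvd_pow_self r' he.ne') (by norm_num)
    exact (Nat.prime_dvd_prime_iff_eq hr'.nat_prime hrF.out).1 (hr'.nat_prime.dvd_of_dvd_pow h1)
  subst hrr
  have hqe : q = r' ^ e := hqe'.symm
  have hq1 := hq.one_lt.le
  obtain ⟨hsim, hna⟩ := S1070.result hq hF
  have hZ : Subgroup.center ↥(twistedE6 F q) = ⊥ := center_eq_bot hna
  obtain ⟨l, hl, hord, hlN', hle⟩ := exists_l hrF.out (f := e) (by omega)
  have hlN : l ∣ q ^ 6 - q ^ 3 + 1 := by rw [hqe]; exact hlN'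
  have hl3 : l ≠ 3 := by omega
  obtain ⟨z, t, u, x0, T1⟩ := mainA (algebraMap F (AlgebraicClosure F)) hq hF hk (by omega) hqe hl hord hlN hle
  set N := q ^ 6 - q ^ 3 + 1 with hN
  have hNpos : 0 < N := by omega
  obtain ⟨n, hn⟩ := T1.hdN
  have hd0 : 0 < Nat.gcd 3 (q + 1) := Nat.gcd_pos_of_pos_left _ (by norm_num)
  have hNd : N / Nat.gcd 3 (q + 1) = n := by rw [hn, Nat.mul_div_cancel_left _ hd0]
  have hn0 : n ≠ 0 := by rintro rfl; omega
  have hx0o : orderOf x0 = n := by rw [T1.hord, hNd]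
  have hln : l ∣ n := by
    rw [hn] at hlN
    rcases hl.dvd_mul.1 hlN with h | h
    · exfalso
      have h3 : l ∣ 3 := h.trans (Nat.gcd_dvd_left _ _)
      exact hl3 ((Nat.prime_dvd_prime_iff_eq hl Nat.prime_three).1 h3)
    · exact h
  obtain ⟨m, hm⟩ := hln
  have hm0 : m ≠ 0 := by rintro rfl; omega
  -- the element of order `l`
  set x1 := x0 ^ m with hx1
  have hx1l : orderOf x1 = l := by
    rw [hx1, orderOf_pow_of_dvd hm0 (by rw [hx0o, hm]; exact Dvd.intro_left _ rfl), hx0o, hm,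
      Nat.mul_div_cancel _ (Nat.pos_of_ne_zero hm0)]
  have hx1ne : x1 ≠ 1 := by
    intro h
    rw [h, orderOf_one] at hx1l
    exact hl.one_lt.ne hx1l
  have hx1m : x1 ∈ Subgroup.zpowers x0 := Subgroup.npow_mem_zpowers x0 m
  have hT : Subgroup.centralizer {x1} = Subgroup.zpowers x0 := cent_A T1 hx1m hx1ne
  set T := Subgroup.zpowers x0 with hTdef
  have hTcard : Nat.card ↥T = n := by rw [hTdef, Nat.card_zpowers, hx0o]
  have hcyc : IsCyclic ↥T := by rw [hTdef]; infer_instance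
  obtain ⟨b, hb⟩ := T1.hfield
  have hbx : b x1 = x1 ^ r' := by rw [hx1, map_pow, hb, ← pow_mul, ← pow_mul, mul_comm]
  have hidx : T.index = M1 q := Nat.eq_of_mul_eq_mul_left hd0 (index_eq T1 (by omega) (eq1 hq1))
  have hout := index_out hqe (by omega) hF
  have hstab : Nat.card ↥(MulAction.stabilizer (MulAut ↥(twistedE6 F q)) x1) ≤ Nat.gcd 3 (q + 1) * Nat.card ↥T :=
    card_fix_le hl hx1l hT hcyc hZ (c := 9) (by norm_num) (by omega) (by rw [hidx]; exact mod1 hq1 hlN) hbx hord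
      (d := Nat.gcd 3 (q + 1)) (by rw [hout]; nlinarith) (by omega)
  have hTx : ∀ y ∈ T, y * x1 = x1 * y := fun y hy => by
    rw [← hT] at hy
    exact Subgroup.mem_centralizer_singleton_iff.1 hy
  have h3n : ¬ 3 ∣ n := by rw [← hNd]; exact three_A hq1
  -- own characteristic
  have hrn : ¬ r' ∣ n := by
    intro h
    have h1 : r' ∣ N := h.trans (by rw [hn]; exact Dvd.intro_left _ rfl)
    have h0 : q ^ 3 ≤ q ^ 6 := le1 hq1
    have hrq : r' ∣ q := by rw [hqe]; exact dvd_pow_self r' (by omega)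
    have h2 : r' ∣ q ^ 6 - q ^ 3 := Nat.dvd_sub (dvd_pow hrq (by norm_num)) (dvd_pow hrq (by norm_num))
    exact hrF.out.one_lt.ne' (Nat.dvd_one.1 ((Nat.dvd_add_right h2).1 h1))
  have hown : NoNorm r' x1 := OwnE6.noNorm_own hq hF hqe (by omega) hl hord hx1l (by rw [hT, hTcard]; exact hrn)
  have hnoN : p ≠ r' → ¬ p ∣ n → NoNorm p x0 := fun h1 h2 =>
    noNorm_A T1 hqe hp.1 hp2 h1 (by rw [hNd]; exact h2)
  refine row_of hna fun a ha => ?_
  by_cases hinn : ∃ s, a = MulAut.conj s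
  · by_cases hpn : p ∣ n
    · left
      refine ⟨hinn, exists_cyclic_sylow hcyc ?_⟩
      intro h
      have h1 : M1 q ≡ 9 [MOD p] := mod1 hq1 (hpn.trans (by rw [← hN, hn]; exact Dvd.intro_left _ rfl))
      rw [hidx] at h
      have h2 : p ∣ 9 := (Nat.modEq_zero_iff_dvd).1 (h1.symm.trans (Nat.modEq_zero_iff_dvd.2 h))
      have h3 : p ∣ 3 ^ 2 := h2
      have h4 := (Nat.prime_dvd_prime_iff_eq hp.1 Nat.prime_three).1 (hp.1.dvd_of_dvd_pow h3)
      rw [h4] at hpn
      exact h3n hpn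
    · right; left
      by_cases hpr : p = r'
      · subst hpr; exact ⟨hinn, x1, hown⟩
      · exact ⟨hinn, x0, hnoN hpr hpn⟩
  · right; right
    have hpd : p ∣ 2 * Nat.gcd 3 (q + 1) * e := by rw [← hout]; exact dvd_index hp.1 ha hinn
    have hpd' : p ∣ Nat.gcd 3 (q + 1) ∨ p ∣ e := by
      rcases hp.1.dvd_mul.1 hpd with h | h
      · rcases hp.1.dvd_mul.1 h with h | h
        · exact absurd ((Nat.prime_dvd_prime_iff_eq hp.1 Nat.prime_two).1 h) hp2
        · exact Or.inl h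
      · exact Or.inr h
    have hlp : l ≠ p := by
      rintro rfl
      rcases hpd' with h | h
      · have h3 : l ∣ 3 := h.trans (Nat.gcd_dvd_left _ _)
        exact hl3 ((Nat.prime_dvd_prime_iff_eq hl Nat.prime_three).1 h3)
      · have := Nat.le_of_dvd (by omega) h
        omega
    by_cases hfixex : ∃ g : MulAut ↥(twistedE6 F q), (g * a * g⁻¹) x1 = x1
    · -- the diagonal automorphisms
      obtain ⟨g, hg⟩ := hfixex
      rcases (Nat.dvd_prime Nat.prime_three).1 (Nat.gcd_dvd_left 3 (q + 1)) with hd1 | hd3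
      · exfalso
        rw [hd1, one_mul] at hstab
        obtain ⟨s, -, hs⟩ := inner_of_fix hZ hTx hstab hg
        exact hinn (inner_of_conj hs)
      · have hr3 : r' ≠ 3 := by
          rintro h
          have h3 : 3 ∣ q + 1 := by
            have := Nat.gcd_dvd_right 3 (q + 1)
            rwa [hd3] at this
          have h4 : 3 ∣ q := by rw [hqe, h]; exact dvd_pow_self 3 (by omega)
          have h5 := (Nat.dvd_add_right h4).1 h3
          norm_num at h5
        obtain ⟨x2, h32, hno2, hsec⟩ : ∃ x2 : ↥(twistedE6 F q), ¬ 3 ∣ orderOf x2 ∧ NoNorm 3 x2 ∧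
            ∀ y' : ↥(twistedE6 F q), orderOf y' = orderOf x2 → ∀ i : ℤ,
              (z * t ^ i * z⁻¹) * embT (algebraMap F (AlgebraicClosure F)) hq hF y' =
                embT (algebraMap F (AlgebraicClosure F)) hq hF y' * (z * t ^ i * z⁻¹) → t ^ i = 1 := by
          rcases Nat.lt_or_ge q 5 with hq5 | hq5
          · have hq2 : q = 2 := by
              have := hq.one_lt
              have h3 : 3 ∣ q + 1 := by
                have := Nat.gcd_dvd_right 3 (q + 1)
                rwa [hd3] at this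
              omega
            exact mainC hk hqe hq2 T1
          · exact mainB hk hqe hq5 hd3 hr3 T1
        obtain ⟨i, hi⟩ := fix_form T1 hqe hx1m (by
          refine hstab.trans ?_
          rw [hTcard, ← hn]) (hsec x2 rfl) hg
        set G := z * t ^ i * z⁻¹ with hG
        set e0 := embT (algebraMap F (AlgebraicClosure F)) hq hF with he0
        have hgp : (g * a * g⁻¹) ^ p = 1 := by
          rw [conj_pow, ← ha, pow_orderOf_eq_one, mul_one, mul_inv_cancel]
        have hpow : ∀ (j : ℕ) y, e0 (((g * a * g⁻¹) ^ j) y) = G ^ j * e0 y * (G ^ j)⁻¹ := by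
          intro j
          induction j with
          | zero => intro y; simp
          | succ j ih =>
            intro y
            rw [pow_succ', MulAut.mul_apply, hi, ih, pow_succ']
            group
        have hGp : t ^ (i * p) = 1 := by
          apply hsec x2 rfl
          have h1 := hpow p x2
          rw [hgp] at h1
          have h2 : z * t ^ (i * (p : ℤ)) * z⁻¹ = G ^ p := by
            rw [hG, conj_pow, ← zpow_natCast, ← zpow_mul]
          rw [h2]
          have h3 : e0 x2 = G ^ p * e0 x2 * (G ^ p)⁻¹ := h1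
          conv_rhs => rw [h3]
          rw [inv_mul_cancel_right]
        have hp3 : p = 3 := by
          by_contra hp3
          apply hinn
          rw [← orderOf_dvd_iff_zpow_eq_one, T1.htN, hn, hd3] at hGp
          have h3 : (3 : ℤ) ∣ i * p := by
            refine dvd_trans ?_ hGp
            push_cast
            exact Dvd.intro _ rfl
          have h3i : (3 : ℤ) ∣ i := by
            rcases Int.prime_three.dvd_or_dvd h3 with h | h
            · exact h
            · exfalso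
              have h4 : 3 ∣ p := by exact_mod_cast h
              exact hp3 ((Nat.prime_dvd_prime_iff_eq Nat.prime_three hp.1).1 h4).symm
          have hmem : G ∈ e0.range := by
            rw [hG, T1.hS _ (Subgroup.zpow_mem_zpowers t i), hd3]
            obtain ⟨j, rfl⟩ := h3i
            refine ⟨j, ?_⟩
            show (t ^ 3) ^ j = t ^ (3 * j)
            rw [zpow_mul]
            rfl
          obtain ⟨s, hs⟩ := hmem
          refine inner_of_conj (g := g) (s := s) ?_
          refine MulEquiv.ext fun y => ?_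
          apply embT_injective (algebraMap F (AlgebraicClosure F)) hq hF
          show e0 ((g * a * g⁻¹) y) = e0 (s * y * s⁻¹)
          rw [hi, map_mul, map_mul, map_inv, hs]
        subst hp3
        refine ⟨x2, h32, hno2.pcent, fun h hh => ?_⟩
        -- `a` fixes a conjugate of `x2`
        set y' := g (h⁻¹ x2) with hy'
        have hyo : orderOf y' = orderOf x2 := by
          rw [hy', MulEquiv.orderOf_eq, MulEquiv.orderOf_eq]
        have h1 : a (h⁻¹ x2) = h⁻¹ x2 := by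
          have h3 := congrArg (h⁻¹ : MulAut _) hh
          rw [MulAut.mul_apply, MulAut.mul_apply, MulAut.inv_apply_self] at h3
          exact h3
        have h2 : (g * a * g⁻¹) y' = y' := by
          rw [hy', MulAut.mul_apply, MulAut.mul_apply, MulAut.inv_apply_self, h1]
        have h3 := hi y'
        rw [h2] at h3
        have h4 : t ^ i = 1 := by
          apply hsec y' hyo
          conv_rhs => rw [h3]
          rw [inv_mul_cancel_right]
        -- then `a = 1`
        have h5 : g * a * g⁻¹ = 1 := by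
          refine MulEquiv.ext fun y => ?_
          apply embT_injective (algebraMap F (AlgebraicClosure F)) hq hF
          show e0 ((g * a * g⁻¹) y) = e0 y
          rw [hi, hG, h4]
          group
        have h6 : a = 1 := by
          have h7 : a = g⁻¹ * (g * a * g⁻¹) * g := by group
          rw [h7, h5]; group
        rw [h6, orderOf_one] at ha
        norm_num at ha
    · push Not at hfixex
      have hfix0 : ∀ g : MulAut ↥(twistedE6 F q), (g * a * g⁻¹) x0 ≠ x0 := by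
        intro g hg
        apply hfixex g
        rw [hx1, map_pow, hg]
      have hpl : ¬ p ∣ orderOf x1 := by
        rw [hx1l]
        intro h
        exact hlp ((Nat.prime_dvd_prime_iff_eq hp.1 hl).1 h).symm
      by_cases hpr : p = r'
      · subst hpr; exact ⟨x1, hpl, hown.pcent, hfixex⟩
      by_cases hpn : p ∣ n
      · -- `p ∣ e`, `p ≥ 5`
        have hp3 : p ≠ 3 := by rintro rfl; exact h3n hpn
        have hpe : p ∣ e := by
          rcases hpd' with h | h
          · exact absurd ((Nat.prime_dvd_prime_iff_eq hp.1 Nat.prime_three).1 (h.trans (Nat.gcd_dvd_left _ _))) hp3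
          · exact h
        have hp5 : 5 ≤ p := by
          have h2 := hp.1.two_le
          have h4 : p ≠ 4 := by rintro rfl; exact absurd hp.1 (by norm_num)
          omega
        have he5 : p ≤ e := Nat.le_of_dvd (by omega) hpe
        refine ⟨x1, hpl, ?_, hfixex⟩
        intro Q hQ hn
        refine linP (ι := chevE6.Idx) (k := F) (twistedE6 F q).subtype hp.1 hp2 hl hlp ?_ Q hQ
          (fun y _ h => Subgroup.subtype_injective _ (by rw [h, map_one])) x1 hn ?_ ?_
        · intro h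
          rw [CharP.cast_eq_zero_iff F r'] at h
          exact hpr ((Nat.prime_dvd_prime_iff_eq hrF.out hp.1).1 h).symm
        · intro y _
          rw [← hx1l, pow_orderOf_eq_one, one_mul, mul_one]
        · have h1 : Fintype.card chevE6.Idx = 78 := by decide
          rw [h1]
          omega
      · refine ⟨x0, ?_, (hnoN hpr hpn).pcent, hfix0⟩
        rw [hx0o]
        exact hpn

/-- **The row `²E₆(q)` of S4329.** -/
theorem row_twistedE6 {G : Type*} [Group G] {F : Type u} [Field F] [Fintype F] {q : ℕ} (hq : IsPrimePow q)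
    (hF : Fintype.card F = q ^ 2) (e : G ≃* ↥(twistedE6 F q)) (p : ℕ) [hp : Fact p.Prime] (hp2 : p ≠ 2) : Row p G :=
  (row_tw hq hF p hp2).congr e.symm

end Cfsg.Agent.H83.RowE6
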