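import Cfsg.Agent.H129.WData

/-!
# Data of the torus of order `(q⁴ + 1)(q² - 1)` of `²E₆(q)` (helper83)
-/

set_option autoImplicit false

namespace Cfsg.Agent.H83.TwEC

open Cfsg.Agent.H129.TorusTw Cfsg.Agent.H129.WData Cfsg.Agent.ChevalleyStructure.CoxeterGeomTypes
  Cfsg.Agent.ChevalleyStructure.RootVec Cfsg.Agent.Nodes.RGDChev
open Cfsg.Lie Cfsg.Lie.ChevalleyDatum

/-- the Cartan matrix -/
def Am : Mat 6 := ![![2, 0, -1, 0, 0, 0],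
    ![0, 2, 0, -1, 0, 0],
    ![-1, 0, 2, -1, 0, 0],
    ![0, -1, -1, 2, -1, 0],
    ![0, 0, 0, -1, 2, -1],
    ![0, 0, 0, 0, -1, 2]]

/-- the partial products -/
def chain : List (Fin 6 × Mat 6) := [
    (3, ![![1, 0, 1, 1, 0, 0],
      ![0, -1, 0, -1, 0, 0],
      ![0, 0, -1, -1, 0, 0],
      ![0, 1, 1, 1, 0, 0],
      ![0, 0, 0, 1, 1, 0],
      ![0, 0, 0, 0, 0, 1]]),
    (2, ![![1, 0, 1, 0, 0, 0],
      ![0, -1, 0, 0, 0, 0],
      ![0, 0, -1, 0, 0, 0],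
      ![0, 1, 1, 1, 0, 0],
      ![0, 0, 0, 0, 1, 0],
      ![0, 0, 0, 0, 0, 1]]),
    (1, ![![1, 0, 0, 0, 0, 0],
      ![0, -1, 0, 0, 0, 0],
      ![0, 0, 1, 0, 0, 0],
      ![0, 1, 0, 1, 0, 0],
      ![0, 0, 0, 0, 1, 0],
      ![0, 0, 0, 0, 0, 1]])]

/-- the permutation of the simple roots -/
def pi : Fin 6 → Fin 6 := ![5, 1, 4, 3, 2, 0]

/-- the matrix of `θ` -/
def Th : Mat 6 := ![![0, 0, 0, 0, 0, 1],
    ![0, -1, 0, -1, 0, 0],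
    ![0, 0, 0, 1, 1, 0],
    ![0, 1, 1, 1, 0, 0],
    ![0, 0, -1, -1, 0, 0],
    ![1, 0, 1, 1, 0, 0]]

/-- the basis -/
def V : Mat 6 := ![![-1, -1, -2, -2, -1, 0],
    ![0, -1, -1, -2, -2, -1],
    ![-1, -1, -1, -1, -1, 0],
    ![0, 0, 0, 0, -1, -1],
    ![-1, 0, 0, 0, 0, 0],
    ![0, 0, 0, 0, 0, -1]]

/-- the coordinates -/
def B : Mat 6 := ![![0, 0, 0, 0, -1, 0],
    ![1, 0, -2, 1, 1, -1],
    ![-1, 1, 0, -1, 1, 0],
    ![0, -1, 1, 1, -1, 0],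
    ![0, 0, 0, -1, 0, 1],
    ![0, 0, 0, 0, 0, -1]]

/-- the polynomial -/
def c : Fin 6 → ℤ := ![-1, 0, 1, 0, -1, 0]

/-- the representatives of the orbits of `θ` on the roots -/
def R : Fin 9 → Fin 6 → ℤ := ![![-1, -2, -2, -3, -2, -1],
    ![-1, -1, -2, -2, -1, 0],
    ![-1, -1, -1, -2, -1, 0],
    ![0, -1, -1, -2, -1, 0],
    ![0, -1, -1, -1, 0, 0],
    ![0, -1, 0, -1, 0, 0],
    ![0, 0, 0, 0, 0, 1],
    ![0, 0, 0, 1, 1, 1],
    ![1, 0, 1, 1, 1, 1]]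

/-- the values of the functional on the representatives -/
def G : Fin 9 → Fin 6 → ℤ := ![![0, 1, 1, -1, 0, 1],
    ![1, 0, 0, 0, 0, 0],
    ![0, 1, 0, -1, 1, 0],
    ![0, 1, 0, -1, 0, 0],
    ![0, 0, 1, -1, -1, 1],
    ![-1, 1, 1, -2, 0, 1],
    ![0, 0, 0, 0, 0, -1],
    ![0, -1, 1, 0, -1, 0],
    ![-1, 0, 1, -1, -1, 0]]

/-- predecessor -/
def prv (r : ℕ) : ℕ := Nat.mod (Nat.shiftRight 0x4644474136453c2d4237290034243126433a2b4035273b2c19283d32222f002a173e33000f1409301d0e1825150a1f001b0c001207000d0421162313081e1005000b020006000300 (8 * r)) 256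

/-- depth -/
def dep (r : ℕ) : ℕ := Nat.mod (Nat.shiftRight 0x40305020306010307050100050107070402040405040606040702050305000603060600050203070205010701070300020300010100070104040602040602030005020006010700 (8 * r)) 256

theorem hA : ∀ i j, Am i j = cartanOf chevE6 6 i j := by decide +kernel

theorem chainOK : ChainOK Am chain := by decide +kernel

theorem hd_pi : ∀ j, hd chain (pi j) = Th j := by decide +kernel

theorem cycOK : CycOK 6 Th V B c := by decide +kernel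

theorem rootOK : RootOK chevE6 6 Th R prv dep := by decide +kernel

theorem coefOK : ∀ s i, ∑ j, R s j * B j i = G s i := by decide +kernel

/-- the number of roots killed by the elements of order 3 -/
theorem card_three : (Finset.univ.filter fun r : Fin 72 => (3 : ℤ) ∣ Gq B (-1) (vec chevE6 6 r)).card = 40 := by
  decide +kernel

theorem fN_eq (x : ℤ) : fN c x = -1 + x ^ 2 - x ^ 4 + x ^ 6 := by
  unfold fN c
  simp [Fin.sum_univ_succ]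
  ring

theorem G_0 (x : ℤ) : Gq B x (R 0) = x + x ^ 2 - x ^ 3 + x ^ 5 := by
  rw [Gq_coef B x (R 0) (G 0) (coefOK 0)]
  unfold G
  simp [Fin.sum_univ_succ]
  try ring

theorem bez_0 (x : ℤ) : (2 - x - 2 * x ^ 2 + x ^ 3 + x ^ 4) * (1 + x ^ 4) + (1 + x - x ^ 2 - x ^ 3) * (x + x ^ 2 - x ^ 3 + x ^ 5) = 2 := by
  ring

theorem G_1 (x : ℤ) : Gq B x (R 1) = 1 := by
  rw [Gq_coef B x (R 1) (G 1) (coefOK 1)]
  unfold G
  simp [Fin.sum_univ_succ]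
  try ring

theorem bez_1 (x : ℤ) : (0) * (1 + x ^ 4) + (2) * (1) = 2 := by
  ring

theorem G_2 (x : ℤ) : Gq B x (R 2) = x - x ^ 3 + x ^ 4 := by
  rw [Gq_coef B x (R 2) (G 2) (coefOK 2)]
  unfold G
  simp [Fin.sum_univ_succ]
  try ring

theorem bez_2 (x : ℤ) : (2 - 2 * x - 2 * x ^ 2 + 2 * x ^ 3) * (1 + x ^ 4) + (2 + 2 * x - 2 * x ^ 3) * (x - x ^ 3 + x ^ 4) = 2 := by
  ring

theorem G_3 (x : ℤ) : Gq B x (R 3) = x - x ^ 3 := by
  rw [Gq_coef B x (R 3) (G 3) (coefOK 3)]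
  unfold G
  simp [Fin.sum_univ_succ]
  try ring

theorem bez_3 (x : ℤ) : (2 - x ^ 2) * (1 + x ^ 4) + (x - x ^ 3) * (x - x ^ 3) = 2 := by
  ring

theorem G_4 (x : ℤ) : Gq B x (R 4) = x ^ 2 - x ^ 3 - x ^ 4 + x ^ 5 := by
  rw [Gq_coef B x (R 4) (G 4) (coefOK 4)]
  unfold G
  simp [Fin.sum_univ_succ]
  try ring

theorem bez_4 (x : ℤ) : (2 - x ^ 2) * (1 + x ^ 4) + (1 + x) * (x ^ 2 - x ^ 3 - x ^ 4 + x ^ 5) = 2 := by
  ring

theorem G_5 (x : ℤ) : Gq B x (R 5) = -1 + x + x ^ 2 - 2 * x ^ 3 + x ^ 5 := by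
  rw [Gq_coef B x (R 5) (G 5) (coefOK 5)]
  unfold G
  simp [Fin.sum_univ_succ]
  try ring

theorem bez_5 (x : ℤ) : (3 + x - 2 * x ^ 2 - x ^ 3) * (1 + x ^ 4) + (1 + 2 * x + x ^ 2) * (-1 + x + x ^ 2 - 2 * x ^ 3 + x ^ 5) = 2 := by
  ring

theorem G_6 (x : ℤ) : Gq B x (R 6) = -x ^ 5 := by
  rw [Gq_coef B x (R 6) (G 6) (coefOK 6)]
  unfold G
  simp [Fin.sum_univ_succ]
  try ring

theorem bez_6 (x : ℤ) : (2 - 2 * x ^ 4) * (1 + x ^ 4) + (-2 * x ^ 3) * (-x ^ 5) = 2 := by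
  ring

theorem G_7 (x : ℤ) : Gq B x (R 7) = -x + x ^ 2 - x ^ 4 := by
  rw [Gq_coef B x (R 7) (G 7) (coefOK 7)]
  unfold G
  simp [Fin.sum_univ_succ]
  try ring

theorem bez_7 (x : ℤ) : (2 + 2 * x - 2 * x ^ 2 - 2 * x ^ 3) * (1 + x ^ 4) + (2 - 2 * x ^ 2 - 2 * x ^ 3) * (-x + x ^ 2 - x ^ 4) = 2 := by
  ring

theorem G_8 (x : ℤ) : Gq B x (R 8) = -1 + x ^ 2 - x ^ 3 - x ^ 4 := by
  rw [Gq_coef B x (R 8) (G 8) (coefOK 8)]
  unfold G
  simp [Fin.sum_univ_succ]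
  try ring

theorem bez_8 (x : ℤ) : (3 + x - 2 * x ^ 2 - x ^ 3) * (1 + x ^ 4) + (1 + x - x ^ 2 - x ^ 3) * (-1 + x ^ 2 - x ^ 3 - x ^ 4) = 2 := by
  ring

/-- Common divisors of `f(x)` and the value of `Gq` on a representative. -/
theorem dvd_of_G {x r : ℤ} (h : r ∣ 1 + x ^ 4) (s : Fin 9) (hs : r ∣ Gq B x (R s)) :
    r ∣ 2 := by
  have key : ∀ {a b g y : ℤ}, a * (1 + x ^ 4) + b * g = y → r ∣ g → r ∣ y := fun e hg => by
    rw [← e]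
    exact dvd_add (h.mul_left _) (hg.mul_left _)
  fin_cases s
  · exact key (bez_0 x) (by rw [← G_0]; exact hs)
  · exact key (bez_1 x) (by rw [← G_1]; exact hs)
  · exact key (bez_2 x) (by rw [← G_2]; exact hs)
  · exact key (bez_3 x) (by rw [← G_3]; exact hs)
  · exact key (bez_4 x) (by rw [← G_4]; exact hs)
  · exact key (bez_5 x) (by rw [← G_5]; exact hs)
  · exact key (bez_6 x) (by rw [← G_6]; exact hs)
  · exact key (bez_7 x) (by rw [← G_7]; exact hs)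
  · exact key (bez_8 x) (by rw [← G_8]; exact hs)

end Cfsg.Agent.H83.TwEC
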