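import Cfsg.Agent.H190.Exc.Defs
import Cfsg.Agent.H378.ExcAdj

/-!
# Elements of prime order whose centralisers are not cyclic, untwisted groups (helper83)

* `not_cc_of_nc` : an element commuting with two elements which do not commute;
* `not_cc_char` : a group of matrices of degree `≤ p²` and of order divisible by `p³`, in characteristic `p`;
* `not_cc_row` : Lemma R of helper378 with `X_a` and `X_{-a}`;
* `adj_tor` : two primes dividing `f(q)` are adjacent;
* `g2_card`, `f4_card`, `e6_card`.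
-/

set_option autoImplicit false
set_option linter.unusedSectionVars false

namespace Cfsg.Agent.H83.ExcNc

open CoxeterSystem Subgroup Cfsg Cfsg.Lie Cfsg.Lie.ChevalleyDatum Cfsg.Agent.H190.Exc
open Cfsg.Agent.ChevalleyStructure Cfsg.Agent.ChevalleyStructure.Elts Cfsg.Agent.ChevalleyStructure.CoxeterGeom
  Cfsg.Agent.ChevalleyStructure.CoxeterGeomTypes Cfsg.Agent.ChevalleyStructure.NPerm
open Cfsg.Agent.Tits.Roots Cfsg.Agent.Tits.Core Cfsg.Agent.Nodes.Reps Cfsg.Agent.Nodes.BNOf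
  Cfsg.Agent.Nodes.RGDChev Cfsg.Agent.Nodes.Bruhat
open Cfsg.Agent.KFacts.RgdField Cfsg.Agent.KFacts.RgdChevCoord Cfsg.Agent.BpExc.TorCent Cfsg.Agent.BpExc.TorChev
open Cfsg.Agent.BpExc.Tow Cfsg.Agent.BpExc.TowChev Cfsg.Agent.BpExc.FamExt Cfsg.Agent.BpExc.FamUntw
  Cfsg.Agent.BpExc.FamInst Cfsg.Agent.BpExc.LangFr Cfsg.Agent.BpExc.FamField
open Cfsg.Agent.GpExc.Field (glMap emb coe_emb glMap_xG emb_injective coe_glMap)
open Cfsg.Agent.H378.TorDual Cfsg.Agent.H378.TorChar Cfsg.Agent.H378.TorFin Cfsg.Agent.H378.RankOne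
  Cfsg.Agent.H378.RootTor Cfsg.Agent.H378
open Cfsg.Agent.H493.PGTorus Cfsg.Agent.H129.WData

universe u v

/-! ### abstract -/

theorem not_cc_of_nc {G : Type*} [Group G] {r : ℕ} {x a b : G} (hx : orderOf x = r) (ha : Commute a x)
    (hb : Commute b x) (h : ¬ Commute a b) : ¬ CC G r := fun hc => h (hc.comm hx ha hb)

theorem swap_not_comm {Y : Type*} [Group Y] {A B : Subgroup Y} {u v : Y} (h : Swap A B (u * v * u)) (hu : u ∈ A)
    (hu1 : u ≠ 1) : ¬ Commute u v := by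
  intro hc
  have h1 : (u * v * u) * u * (u * v * u)⁻¹ = u := by
    have h2 : Commute (u * v * u) u := ((Commute.refl u).mul_left hc.symm).mul_left (Commute.refl u)
    rw [h2.eq, mul_assoc, mul_inv_cancel, mul_one]
  have h2 := (h.ab u).2 hu
  rw [h1] at h2
  exact hu1 (h.nor u h2 fun y hy => mul_mem (mul_mem hu hy) (inv_mem hu))

/-- commuting elements of orders divisible by two primes -/
theorem exists_mul {G : Type*} [Group G] [Finite G] {r s : ℕ} (hr : r.Prime) (hs : s.Prime) (hrs : r ≠ s) {x y : G}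
    (hc : Commute x y) (hx : r ∣ orderOf x) (hy : s ∣ orderOf y) : ∃ z : G, orderOf z = r * s := by
  obtain ⟨a, ha⟩ := hx
  obtain ⟨b, hb⟩ := hy
  have ha0 : a ≠ 0 := by
    rintro rfl
    rw [mul_zero] at ha
    exact (orderOf_pos x).ne' ha
  have hb0 : b ≠ 0 := by
    rintro rfl
    rw [mul_zero] at hb
    exact (orderOf_pos y).ne' hb
  have h1 : orderOf (x ^ a) = r := by
    rw [orderOf_pow' x ha0, ha, Nat.gcd_eq_right (Dvd.intro_left r rfl), Nat.mul_div_cancel _ (Nat.pos_of_ne_zero ha0)]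
  have h2 : orderOf (y ^ b) = s := by
    rw [orderOf_pow' y hb0, hb, Nat.gcd_eq_right (Dvd.intro_left s rfl), Nat.mul_div_cancel _ (Nat.pos_of_ne_zero hb0)]
  refine ⟨x ^ a * y ^ b, ?_⟩
  rw [(hc.pow_pow a b).orderOf_mul_eq_mul_orderOf_of_coprime ?_, h1, h2]
  rw [h1, h2]
  exact (Nat.coprime_primes hr hs).2 hrs

/-! ### the characteristic -/

theorem pow_sq_eq_one {n : Type*} [Fintype n] [DecidableEq n] {K : Type*} [Field K] {p : ℕ} [hp : Fact p.Prime]
    [CharP K p] (hn : Fintype.card n ≤ p ^ 2) {g : GL n K} {k : ℕ} (hg : g ^ p ^ k = 1) : g ^ p ^ 2 = 1 := by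
  have hM : CharP (Matrix n n K) p ∨ IsEmpty n := by
    by_cases h : Nonempty n
    · left
      exact Matrix.charP p
    · right
      exact not_nonempty_iff.1 h
  rcases hM with hM | hM
  · have h1 : ((g : Matrix n n K) - 1) ^ p ^ k = 0 := by
      rw [sub_pow_char_pow_of_commute _ _ (Commute.one_right _), one_pow, ← Units.val_pow_eq_pow_val, hg,
        Units.val_one, sub_self]
    have h2 : IsNilpotent ((g : Matrix n n K) - 1) := ⟨_, h1⟩
    have h3 : ((g : Matrix n n K) - 1) ^ Fintype.card n = 0 := by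
      have h4 := Matrix.isNilpotent_charpoly_sub_pow_of_isNilpotent h2
      have h5 : ((g : Matrix n n K) - 1).charpoly = Polynomial.X ^ Fintype.card n := by
        have h6 := h4.eq_zero
        exact sub_eq_zero.1 h6
      have h7 := Matrix.aeval_self_charpoly ((g : Matrix n n K) - 1)
      rw [h5, map_pow, Polynomial.aeval_X] at h7
      exact h7
    have h4 : ((g : Matrix n n K) - 1) ^ p ^ 2 = 0 := pow_eq_zero_of_le hn h3
    rw [sub_pow_char_pow_of_commute _ _ (Commute.one_right _), one_pow, sub_eq_zero] at h4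
    apply Units.ext
    rw [Units.val_pow_eq_pow_val, h4, Units.val_one]
  · have : Subsingleton (GL n K) := ⟨fun a b => Units.ext (Subsingleton.elim _ _)⟩
    exact Subsingleton.elim _ _

/-- **The characteristic.** -/
theorem not_cc_char {n : Type*} [Fintype n] [DecidableEq n] {K : Type*} [Field K] {p : ℕ} [hp : Fact p.Prime]
    [CharP K p] (hn : Fintype.card n ≤ p ^ 2) (H : Subgroup (GL n K)) [Finite H] (hd : p ^ 3 ∣ Nat.card H) :
    ¬ CC H p := by
  intro hc
  obtain ⟨P⟩ : Nonempty (Sylow p H) := inferInstance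
  have hP : p ^ 3 ∣ Nat.card P := P.pow_dvd_card_of_pow_dvd_card hd
  have hpg : IsPGroup p P := P.2
  have hnt : Nontrivial P := by
    rw [← Finite.one_lt_card_iff_nontrivial]
    have h1 := Nat.le_of_dvd Nat.card_pos hP
    exact lt_of_lt_of_le (Nat.one_lt_pow (by norm_num) hp.out.one_lt) h1
  have hcn := hpg.center_nontrivial
  have hpc : IsPGroup p (Subgroup.center P) := hpg.to_subgroup _
  obtain ⟨m, hm⟩ := hpc.exists_card_eq
  have hm0 : m ≠ 0 := by
    rintro rfl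
    rw [pow_zero] at hm
    exact (Finite.one_lt_card_iff_nontrivial.2 hcn).ne' hm
  obtain ⟨z, hz⟩ := exists_prime_orderOf_dvd_card' (G := Subgroup.center P) p (by rw [hm]; exact dvd_pow_self p hm0)
  have hz' : orderOf (((z : P) : H)) = p := by
    rw [Subgroup.orderOf_coe, Subgroup.orderOf_coe, hz]
  have hle : (P : Subgroup H) ≤ Subgroup.centralizer ({((z : P) : H)} : Set H) := by
    intro y hy
    rw [Subgroup.mem_centralizer_singleton_iff]
    have h1 := (Subgroup.mem_center_iff.1 z.2) ⟨y, hy⟩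
    exact congrArg Subtype.val h1
  have hcyc : IsCyclic (P : Subgroup H) := by
    have h1 := hc _ hz'
    exact isCyclic_of_injective (Subgroup.inclusion hle) (Subgroup.inclusion_injective hle)
  obtain ⟨g, hg⟩ := hcyc.exists_generator
  have ho : orderOf g = Nat.card P := orderOf_eq_card_of_forall_mem_zpowers hg
  obtain ⟨k, hk⟩ := hpg g
  have h1 : ((g : H) : GL n K) ^ p ^ k = 1 := by
    have h2 := congrArg (fun y : P => ((y : H) : GL n K)) hk
    simpa using h2
  have h2 := pow_sq_eq_one hn h1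
  have h3 : g ^ p ^ 2 = 1 := by
    apply Subtype.ext
    apply Subtype.ext
    simpa using h2
  have h4 := orderOf_dvd_of_pow_eq_one h3
  rw [ho] at h4
  have h5 := Nat.le_of_dvd (pow_pos hp.out.pos 2) (hP.trans h4)
  exact absurd h5 (not_le.2 (Nat.pow_lt_pow_right hp.out.one_lt (by norm_num)))

variable {D : ChevalleyDatum} {l : ℕ} {M : CoxeterMatrix (Fin l)} (hp : IsType D l M) {k : Type u} [Field k]
  {W : Type*} [Group W] (cs : CoxeterSystem M W)

/-! ### the finite group -/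

section Main

variable [IsAlgClosed k] (hk : LocFin k) (r : ℕ) [Fact r.Prime] [CharP k r]
  {F : Type u} [Field F] [Finite F] (f : F →+* k) {n : ℕ} (hn0 : 0 < n) (hn : Nat.card F = r ^ n)
  {d : ℕ} {B : Fin l → Fin l → ℤ} (hB : InvC D l d B) (hd : d ≠ 0)

include hk hn0 hn hB hd f in
theorem exists_nc_aux {w : W} {a : Fin l → ℤ} (ha : IsRoot cs hp.isCartan a) (hwa : rep cs hp.isCartan w a = a)
    {ℓ : ℕ} (hℓ : ℓ.Prime) (hℓq : ¬ ℓ ∣ Nat.card F - 1)
    (hy : ∃ y : Multiplicative (Co (rep cs hp.isCartan w - ((Nat.card F : ℕ) : ℤ) •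
      (1 : Module.End ℤ (Fin l → ℤ)))), orderOf y = ℓ) :
    ∃ x u v : ↥(D.group F), orderOf x = ℓ ∧ Commute u x ∧ Commute v x ∧ ¬ Commute u v := by
  have hcop : ∀ m : ℕ, m.Coprime (Nat.card F - 1) → m.Coprime (Nat.gcd d (Nat.card F - 1)) := fun m hm =>
    Nat.Coprime.coprime_dvd_right (Nat.gcd_dvd_right _ _) hm
  have hℓc : ℓ.Coprime (Nat.card F - 1) := (Nat.Prime.coprime_iff_not_dvd hℓ).2 hℓq
  have hrp : r.Prime := Fact.out
  have hrc : r.Coprime (Nat.card F - 1) := by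
    rw [Nat.Prime.coprime_iff_not_dvd hrp]
    intro h1
    have h2 : r ∣ Nat.card F := by rw [hn]; exact dvd_pow_self _ hn0.ne'
    have h3 : 1 ≤ Nat.card F := Nat.card_pos
    have h4 : r ∣ 1 := by
      have := (Nat.dvd_sub h2 h1)
      have e : Nat.card F - (Nat.card F - 1) = 1 := by omega
      rwa [e] at this
    exact hrp.one_lt.ne' (Nat.dvd_one.1 h4)
  have hinj := emb_injective hp.inList f
  rw [hn] at hy
  obtain ⟨g, hg⟩ := exists_rp cs (nsysL hp cs hk r) w
  obtain ⟨z, hz⟩ := lang' hp r hn0 g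
  obtain ⟨e, he⟩ := twEquiv hp cs r hk hB hd hg (m := n)
  obtain ⟨e'⟩ := kerOf_equiv k (det_rep_ne_zero cs r hn0 hp.isCartan w)
  obtain ⟨y, hy⟩ := hy
  -- the torus element
  obtain ⟨t, ht⟩ : ∃ t : ↥(TwT D k r n g), t = e.symm (e'.symm y) := ⟨_, rfl⟩
  have hto : orderOf t = ℓ := by
    rw [ht, MulEquiv.orderOf_eq, MulEquiv.orderOf_eq, hy]
  have hto' : orderOf t.1 = ℓ := by rw [Subgroup.orderOf_coe, hto]
  have htT : t.1 ∈ TT D k := t.2.1
  have htau : tau D k r n g t.1 = t.1 := t.2.2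
  have htℓ : t.1 ^ ℓ = 1 := by rw [← hto']; exact pow_orderOf_eq_one _
  have hχK := (mem_TwT_iff hp cs r hk hg htT).1 t.2
  have hχℓ : tchar hp ⟨t.1, htT⟩ ^ ℓ = 1 := Regular.tchar_pow_eq_one hp htT htℓ
  have hna : IsRoot cs hp.isCartan (-a) := ha.neg
  have hwna : rep cs hp.isCartan w (-a) = -a := by rw [map_neg, hwa]
  have hℓn : ℓ.Coprime (r ^ n - 1) := by rw [← hn]; exact hℓc
  have hca := chi_eq_one (k := k) hp cs r hχK hwa hχℓ hℓn
  have hcna := chi_eq_one (k := k) hp cs r hχK hwna hχℓ hℓn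
  -- the root element
  obtain ⟨u, hu, hu1, hur, huτ⟩ := exists_fixed_x hp cs hk r hn0 hg ha hwa
  obtain ⟨v, hv, hS⟩ := exists_swap hp cs hk r ha hu hu1
  have hvτ : tau D k r n g v = v := hS.fix hu hv (tau_surjective r) (tau_X hp cs hk r hg ha hwa)
    (fun y hy => (tau_X hp cs hk r hg hna hwna y).2 hy) huτ
  have hvr : v ^ r = 1 := X_pow hp cs r hna hv
  have htu : t.1 * u = u * t.1 := comm_X hp cs hk r htT ha hca hu
  have htv : t.1 * v = v * t.1 := comm_X hp cs hk r htT hna hcna hv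
  -- in the finite group
  have hcp : ∀ (y : ↥(D.group k)) (j : ℕ), (z * y * z⁻¹) ^ j = z * y ^ j * z⁻¹ := fun y j => conj_pow
  obtain ⟨x, hx⟩ := mem_of_pow hp f r hn hB hd (fix_of_tau r hz htau) (m := ℓ)
    (by rw [hcp, htℓ]; group) (hcop _ hℓc)
  obtain ⟨u', hu'⟩ := mem_of_pow hp f r hn hB hd (fix_of_tau r hz huτ) (m := r)
    (by rw [hcp, hur]; group) (hcop _ hrc)
  obtain ⟨v', hv'⟩ := mem_of_pow hp f r hn hB hd (fix_of_tau r hz hvτ) (m := r)
    (by rw [hcp, hvr]; group) (hcop _ hrc)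
  have hco : ∀ y : ↥(D.group k), orderOf (z * y * z⁻¹) = orderOf y := fun y => by
    have h1 : z * y * z⁻¹ = MulAut.conj z y := rfl
    rw [h1, MulEquiv.orderOf_eq]
  have hor : ∀ y : ↥(D.group F), orderOf (emb hp.inList f y) = orderOf y := fun y => orderOf_injective _ hinj y
  refine ⟨x, u', v', ?_, ?_, ?_, ?_⟩
  · rw [← hor, hx, hco, hto']
  · apply hinj
    rw [map_mul, map_mul, hx, hu']
    calc z * u * z⁻¹ * (z * t.1 * z⁻¹) = z * (u * t.1) * z⁻¹ := by group
      _ = z * (t.1 * u) * z⁻¹ := by rw [htu]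
      _ = _ := by group
  · apply hinj
    rw [map_mul, map_mul, hx, hv']
    calc z * v * z⁻¹ * (z * t.1 * z⁻¹) = z * (v * t.1) * z⁻¹ := by group
      _ = z * (t.1 * v) * z⁻¹ := by rw [htv]
      _ = _ := by group
  · intro hcc
    apply swap_not_comm hS hu hu1
    have h1 : emb hp.inList f (u' * v') = emb hp.inList f (v' * u') := by rw [hcc.eq]
    have hm1 : emb hp.inList f (u' * v') = emb hp.inList f u' * emb hp.inList f v' := map_mul _ _ _
    have hm2 : emb hp.inList f (v' * u') = emb hp.inList f v' * emb hp.inList f u' := map_mul _ _ _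
    rw [hm1, hm2, hu', hv'] at h1
    have h2 : z * (u * v) * z⁻¹ = z * (v * u) * z⁻¹ := by
      calc z * (u * v) * z⁻¹ = z * u * z⁻¹ * (z * v * z⁻¹) := by group
        _ = z * v * z⁻¹ * (z * u * z⁻¹) := h1
        _ = _ := by group
    exact mul_left_cancel (mul_right_cancel h2)

end Main

theorem exists_nc {d : ℕ} {B : Fin l → Fin l → ℤ} (hB : InvC D l d B) (hd : d ≠ 0) {F : Type u} [Field F] [Finite F]
    {w : W} {a : Fin l → ℤ} (ha : IsRoot cs hp.isCartan a) (hwa : rep cs hp.isCartan w a = a)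
    {ℓ : ℕ} (hℓ : ℓ.Prime) (hℓq : ¬ ℓ ∣ Nat.card F - 1)
    (hy : ∃ y : Multiplicative (Co (rep cs hp.isCartan w - ((Nat.card F : ℕ) : ℤ) •
      (1 : Module.End ℤ (Fin l → ℤ)))), orderOf y = ℓ) :
    ∃ x u v : ↥(D.group F), orderOf x = ℓ ∧ Commute u x ∧ Commute v x ∧ ¬ Commute u v := by
  obtain ⟨k, _, _, f, r, _, hc, n, hk, -, hn0, hn⟩ := exists_closure F
  exact exists_nc_aux hp cs hk r f hn0 hn hB hd ha hwa hℓ hℓq hy

variable [Finite W]

include hp cs in
/-- **From a row.** -/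
theorem not_cc_row {d : ℕ} {B : Fin l → Fin l → ℤ} (hB : InvC D l d B) (hd0 : d ≠ 0) {A : Mat l}
    (hA : ∀ i j, A i j = cartanOf D l i j) {L : List (Fin l × Mat l)} {r : ℕ} (hr : r < D.nroots)
    {f : ℕ} {c : Fin (f + 1) → ℤ} {V : Fin (f + 1) → Fin l → ℤ} {U : Fin l → ℤ}
    (h : AdjTab.RowOK A L (vec D l r) c V U) {F : Type u} [Field F] [Finite F] {ℓ : ℕ} (hℓ : ℓ.Prime)
    (hℓq : ¬ ℓ ∣ Nat.card F - 1) (hdv : (ℓ : ℤ) ∣ pv c (Nat.card F : ℕ)) : ¬ CC ↥(D.group F) ℓ := by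
  obtain ⟨h1, h2, h3⟩ := h
  obtain ⟨x, u, v, hx, hu, hv, huv⟩ := exists_nc hp cs hB hd0 (isRoot_vec hp cs hr) (AdjTab.fixes_of_row hp cs hA h1 h2)
    hℓ hℓq (AdjTab.exists_order_row hp cs hA h1 h3 Finite.one_lt_card hℓ.pos hdv)
  exact not_cc_of_nc hx hu hv huv

include hp cs in
/-- **Two primes of the same class.** -/
theorem adj_tor {d : ℕ} {B : Fin l → Fin l → ℤ} (hB : InvC D l d B) (hd0 : d ≠ 0) {A : Mat l}
    (hA : ∀ i j, A i j = cartanOf D l i j) {L : List (Fin l × Mat l)} (hL : ChainOK A L)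
    {f : ℕ} {c : Fin (f + 1) → ℤ} {V : Fin (f + 1) → Fin l → ℤ} {U : Fin l → ℤ} (h : EigOK (hd L) c V U)
    {F : Type u} [Field F] [Finite F] {r s : ℕ} (hr : r.Prime) (hs : s.Prime) (hrd : d < r) (hsd : d < s) (hrs : r ≠ s)
    (hdv : (r : ℤ) ∣ pv c (Nat.card F : ℕ)) (hdv' : (s : ℤ) ∣ pv c (Nat.card F : ℕ)) :
    ∃ z : ↥(D.group F), orderOf z = r * s := by
  obtain ⟨x, y, hc, h1, h2⟩ := AdjTab.exists_comm_torus hp cs hB hd0 hA hL h h hr.pos hs.pos hdv hdv'
  have key : ∀ {t m : ℕ}, t.Prime → d < t → t ∣ m * Nat.gcd d (Nat.card F - 1) → t ∣ m := by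
    intro t m ht htd h3
    rcases ht.dvd_mul.1 h3 with h4 | h4
    · exact h4
    · exfalso
      have h5 := Nat.le_of_dvd (Nat.pos_of_ne_zero hd0) (h4.trans (Nat.gcd_dvd_left _ _))
      omega
  exact exists_mul hr hs hrs hc (key hr hrd h1) (key hs hsd h2)

end Cfsg.Agent.H83.ExcNc
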