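import Mathlib
import Cfsg.Agent.Lib.Zsigmondy

/-!
# Numbers for `²E₆(q)` (helper83)
-/

set_option autoImplicit false

namespace Cfsg.Agent.H83.NumE6

theorem exists_l {r f : ℕ} (hr : r.Prime) (hf : 1 ≤ f) :
    ∃ l : ℕ, l.Prime ∧ orderOf (r : ZMod l) = 18 * f ∧ l ∣ (r ^ f) ^ 6 - (r ^ f) ^ 3 + 1 ∧ 18 * f < l := by
  obtain ⟨l, hl, hd, hl1, hlr⟩ := Lib.Zsigmondy.exists_primitive hr.two_le (n := 18 * f) (by omega) (by omega) (by omega)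
  have hlf : Fact l.Prime := ⟨hl⟩
  have hl2 := hl.two_le
  have hpos : ∀ m, 1 ≤ r ^ m := fun m => Nat.one_le_pow _ _ hr.pos
  have hord : orderOf (r : ZMod l) = 18 * f := by
    have key : ∀ m, (r : ZMod l) ^ m = 1 ↔ 18 * f ∣ m := by
      intro m
      rw [← hd m, ← ZMod.natCast_eq_zero_iff, Nat.cast_sub (hpos m)]
      push_cast
      rw [sub_eq_zero]
    apply Nat.dvd_antisymm
    · rw [orderOf_dvd_iff_pow_eq_one, key]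
    · rw [← key, pow_orderOf_eq_one]
  refine ⟨l, hl, hord, ?_, ?_⟩
  · set q := r ^ f with hq
    have hq1 : 1 ≤ q := hpos f
    have h18 : l ∣ q ^ 18 - 1 := by rw [hq, ← pow_mul, hd]; exact ⟨1, by ring⟩
    have h9 : ¬ l ∣ q ^ 9 - 1 := by
      rw [hq, ← pow_mul, hd]
      intro h
      have := Nat.le_of_dvd (by omega) h
      omega
    have h6 : ¬ l ∣ q ^ 6 - 1 := by
      rw [hq, ← pow_mul, hd]
      intro h
      have := Nat.le_of_dvd (by omega) h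
      omega
    have h0 : q ^ 3 ≤ q ^ 6 := Nat.pow_le_pow_right hq1 (by norm_num)
    have h01 : 1 ≤ q ^ 18 := Nat.one_le_pow _ _ hq1
    have h02 : 1 ≤ q ^ 9 := Nat.one_le_pow _ _ hq1
    have h03 : 1 ≤ q ^ 6 := Nat.one_le_pow _ _ hq1
    have h04 : 1 ≤ q ^ 3 := Nat.one_le_pow _ _ hq1
    have e1 : q ^ 18 - 1 = (q ^ 9 - 1) * ((q ^ 3 + 1) * (q ^ 6 - q ^ 3 + 1)) := by
      zify [h0, h01, h02]
      ring
    have e2 : q ^ 6 - 1 = (q ^ 3 - 1) * (q ^ 3 + 1) := by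
      zify [h03, h04]
      ring
    rw [e1] at h18
    rcases hl.dvd_mul.1 h18 with h | h
    · exact absurd h h9
    rcases hl.dvd_mul.1 h with h | h
    · exact absurd (by rw [e2]; exact h.mul_left _) h6
    · exact h
  · have := Nat.le_of_dvd (by omega) hl1
    omega

def M1 (q : ℕ) : ℕ := q ^ 36 * (q ^ 2 - 1) * (q ^ 5 + 1) * (q ^ 6 - 1) * (q ^ 8 - 1) * (q ^ 3 + 1) * (q ^ 12 - 1)

def M2 (q : ℕ) : ℕ :=
  q ^ 36 * (q ^ 2 - 1) * (q ^ 5 + 1) * (q ^ 8 - 1) * (q ^ 9 + 1) * (q ^ 6 - 1) * (q ^ 2 + 1) * (q ^ 3 - 1) * (q + 1)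

section

variable {q : ℕ} (hq : 1 ≤ q)

include hq

theorem le1 : q ^ 3 ≤ q ^ 6 := Nat.pow_le_pow_right hq (by norm_num)
theorem le2 : q ^ 2 ≤ q ^ 4 := Nat.pow_le_pow_right hq (by norm_num)
theorem le3 : q ≤ q ^ 2 := Nat.le_self_pow (by norm_num) q
theorem onele (m : ℕ) : 1 ≤ q ^ m := Nat.one_le_pow _ _ hq

theorem eq1 : q ^ 36 * (q ^ 2 - 1) * (q ^ 5 + 1) * (q ^ 6 - 1) * (q ^ 8 - 1) * (q ^ 9 + 1) * (q ^ 12 - 1) =
    (q ^ 6 - q ^ 3 + 1) * M1 q := by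
  have e : q ^ 9 + 1 = (q ^ 6 - q ^ 3 + 1) * (q ^ 3 + 1) := by
    zify [le1 hq]; ring
  unfold M1
  rw [e]
  ring

theorem eq2 : q ^ 36 * (q ^ 2 - 1) * (q ^ 5 + 1) * (q ^ 6 - 1) * (q ^ 8 - 1) * (q ^ 9 + 1) * (q ^ 12 - 1) =
    ((q ^ 4 - q ^ 2 + 1) * (q ^ 2 - q + 1)) * M2 q := by
  have e : q ^ 12 - 1 = (q ^ 6 - 1) * (q ^ 2 + 1) * (q ^ 4 - q ^ 2 + 1) := by
    zify [le2 hq, onele hq 12, onele hq 6]; ring
  have e' : q ^ 6 - 1 = (q ^ 3 - 1) * (q + 1) * (q ^ 2 - q + 1) := by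
    zify [le3 hq, onele hq 3, onele hq 6]; ring
  unfold M2
  rw [e]
  calc q ^ 36 * (q ^ 2 - 1) * (q ^ 5 + 1) * (q ^ 6 - 1) * (q ^ 8 - 1) * (q ^ 9 + 1) *
        ((q ^ 6 - 1) * (q ^ 2 + 1) * (q ^ 4 - q ^ 2 + 1))
      = q ^ 36 * (q ^ 2 - 1) * (q ^ 5 + 1) * (q ^ 8 - 1) * (q ^ 9 + 1) * (q ^ 6 - 1) * (q ^ 2 + 1) * (q ^ 6 - 1) *
        (q ^ 4 - q ^ 2 + 1) := by ring
    _ = q ^ 36 * (q ^ 2 - 1) * (q ^ 5 + 1) * (q ^ 8 - 1) * (q ^ 9 + 1) * (q ^ 6 - 1) * (q ^ 2 + 1) *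
        ((q ^ 3 - 1) * (q + 1) * (q ^ 2 - q + 1)) * (q ^ 4 - q ^ 2 + 1) := by rw [← e']
    _ = _ := by ring

theorem mod1 {m : ℕ} (hm : m ∣ q ^ 6 - q ^ 3 + 1) : M1 q ≡ 9 [MOD m] := by
  rw [← ZMod.natCast_eq_natCast_iff, M1]
  have h3 : (q : ZMod m) ^ 6 - (q : ZMod m) ^ 3 + 1 = 0 := by
    have h4 := (ZMod.natCast_eq_zero_iff (q ^ 6 - q ^ 3 + 1) m).2 hm
    push_cast [Nat.cast_sub (le1 hq)] at h4
    exact h4
  push_cast [Nat.cast_sub (onele hq 2), Nat.cast_sub (onele hq 6), Nat.cast_sub (onele hq 8), Nat.cast_sub (onele hq 12)]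
  generalize (q : ZMod m) = y at h3
  have h6 : y ^ 6 = y ^ 3 - 1 := by linear_combination h3
  have h9 : y ^ 9 = -1 := by linear_combination (y ^ 3 + 1) * h3
  have h36 : y ^ 36 = 1 := by
    calc y ^ 36 = (y ^ 9) ^ 4 := by ring
      _ = 1 := by rw [h9]; ring
  have h12 : y ^ 12 = -y ^ 3 := by
    calc y ^ 12 = y ^ 9 * y ^ 3 := by ring
      _ = _ := by rw [h9]; ring
  have h8 : y ^ 8 = y ^ 5 - y ^ 2 := by
    calc y ^ 8 = y ^ 6 * y ^ 2 := by ring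
      _ = _ := by rw [h6]; ring
  rw [h36, h12, h8, h6]
  linear_combination (-7 - 4 * y ^ 3 - 2 * y ^ 4 + 3 * y ^ 6 - 3 * y ^ 7 + 4 * y ^ 9 + y ^ 13 - y ^ 15) * h3

theorem mod2 {m : ℕ} (hm : m ∣ q ^ 4 - q ^ 2 + 1) : M2 q ≡ 12 [MOD m] := by
  rw [← ZMod.natCast_eq_natCast_iff, M2]
  have h3 : (q : ZMod m) ^ 4 - (q : ZMod m) ^ 2 + 1 = 0 := by
    have h4 := (ZMod.natCast_eq_zero_iff (q ^ 4 - q ^ 2 + 1) m).2 hm
    push_cast [Nat.cast_sub (le2 hq)] at h4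
    exact h4
  push_cast [Nat.cast_sub (onele hq 2), Nat.cast_sub (onele hq 6), Nat.cast_sub (onele hq 8), Nat.cast_sub (onele hq 3)]
  generalize (q : ZMod m) = y at h3
  have h4 : y ^ 4 = y ^ 2 - 1 := by linear_combination h3
  have h6 : y ^ 6 = -1 := by linear_combination (y ^ 2 + 1) * h3
  have h36 : y ^ 36 = 1 := by
    calc y ^ 36 = (y ^ 6) ^ 6 := by ring
      _ = 1 := by rw [h6]; ring
  have h9 : y ^ 9 = -y ^ 3 := by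
    calc y ^ 9 = y ^ 6 * y ^ 3 := by ring
      _ = _ := by rw [h6]; ring
  have h8 : y ^ 8 = -y ^ 2 := by
    calc y ^ 8 = y ^ 6 * y ^ 2 := by ring
      _ = _ := by rw [h6]; ring
  have h5 : y ^ 5 = y ^ 3 - y := by
    calc y ^ 5 = y ^ 4 * y := by ring
      _ = _ := by rw [h4]; ring
  rw [h36, h9, h8, h6, h5]
  linear_combination (-10 - 10 * y ^ 2 - 2 * y ^ 3 - 2 * y ^ 4 + 8 * y ^ 6 + 4 * y ^ 7 + 6 * y ^ 8 - 2 * y ^ 10 - 2 * y ^ 11 - 2 * y ^ 12) * h3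

end

end Cfsg.Agent.H83.NumE6
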