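import Mathlib
import Cfsg.Agent.H83.RedGen

/-!
The orthogonal lists of roots of `E₈` up to `Eqv` (helper83): four classes and the empty list.
-/

set_option autoImplicit false

namespace Cfsg.Agent.H83.RedEEight

open Cfsg.Lie Cfsg.Agent.ChevalleyStructure.Elts Cfsg.Agent.H83.ChevInv Cfsg.Agent.H83.OrthRed Cfsg.Agent.H83.RedGen

/-- the `D₄` certificates -/
def certs : List Cert := [(239, 226, 159, 2, 121), (239, 226, 152, 4, 126), (159, 121, 152, 85, 126),
  (226, 159, 152, 25, 135), (239, 121, 152, 23, 135), (239, 159, 126, 21, 135), (226, 121, 126, 60, 135),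
  (239, 159, 152, 15, 141), (226, 121, 152, 44, 141), (226, 159, 126, 39, 141), (239, 121, 126, 37, 141),
  (239, 226, 135, 7, 141), (159, 121, 135, 100, 141), (152, 126, 135, 102, 141)]

def words : List (List ℕ) := [[]]

/-- the representatives -/
def reps : List (List ℕ) := [[], [239], [239, 226], [239, 226, 159], [239, 226, 159, 152]]

/-! The check `allchk` is done in five separate kernel computations (memory). -/

theorem e8_split_a : (List.range chevE8.nroots).all (fun r => inJ chevE8 [0, 1, 2, 3, 4, 5, 6] r ||
    !(inJ chevE8 [0, 1, 2, 3, 4, 5, 6, 7] r && decide (Orth chevE8 239 r))) = true := by decide +kernel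

theorem e8_split_b : (decide (tops chevE8 [0, 1, 2, 3, 4, 5, 6, 7] = [239]) &&
    decide (down chevE8 [0, 1, 2, 3, 4, 5, 6, 7] 239 = [0, 1, 2, 3, 4, 5, 6]) &&
    decide (tops chevE8 [0, 1, 2, 3, 4, 5, 6] = [226]) &&
    decide (down chevE8 [0, 1, 2, 3, 4, 5, 6] 226 = [1, 2, 3, 4, 5, 6])) = true := by decide +kernel

theorem e8_split_c : (List.range chevE8.nroots).all (fun r => inJ chevE8 [1, 2, 3, 4, 5, 6] r ||
    !(inJ chevE8 [0, 1, 2, 3, 4, 5, 6] r && decide (Orth chevE8 226 r))) = true := by decide +kernel

theorem e8_split_d : chk chevE8 3 [1, 2, 3, 4, 5, 6] = true := by decide +kernel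

theorem e8_split_e : (certs.all (certOK chevE8) &&
    words.all (fun w => w.all fun a => decide (a < chevE8.rank)) &&
    (List.range (4 + 1)).all (small chevE8 certs words reps) &&
    (casc chevE8 (4 + 1) (List.range chevE8.rank)).all fun C => certs.any (redchk C)) = true := by decide +kernel

/-- the order of the two sides of `||` does not matter -/
theorem e8_split_comm {l : List ℕ} {f g : ℕ → Bool} (h : l.all (fun r => f r || g r) = true) :
    l.all (fun r => g r || f r) = true := by
  rw [List.all_eq_true] at h ⊢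
  intro r hr
  rw [Bool.or_comm]
  exact h r hr

theorem e8_split_chk : chk chevE8 (4 + 1) (List.range chevE8.rank) = true := by
  have h := e8_split_b
  simp only [Bool.and_eq_true, decide_eq_true_eq] at h
  obtain ⟨⟨⟨h1, h2⟩, h3⟩, h4⟩ := h
  have h0 : List.range chevE8.rank = [0, 1, 2, 3, 4, 5, 6, 7] := rfl
  rw [h0, chk, h1, List.all_cons, List.all_nil, Bool.and_true, h2, e8_split_comm e8_split_a, Bool.true_and, chk, h3,
    List.all_cons, List.all_nil, Bool.and_true, h4, e8_split_comm e8_split_c, Bool.true_and, e8_split_d]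

theorem allchk_eq : allchk chevE8 certs words reps 4 = true := by
  have h := e8_split_e
  unfold allchk
  rw [e8_split_chk, Bool.true_and]
  exact h

end Cfsg.Agent.H83.RedEEight
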