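import Cfsg.Agent.H129.WData

/-!
# Data of the torus of order `q⁶ - q³ + 1` of `²E₆(q)` (helper83)
-/

set_option autoImplicit false

namespace Cfsg.Agent.H83.TwEA

open Cfsg.Agent.H129.TorusTw Cfsg.Agent.H129.WData Cfsg.Agent.ChevalleyStructure.CoxeterGeomTypes
  Cfsg.Agent.ChevalleyStructure.RootVec Cfsg.Agent.Nodes.RGDChev
open Cfsg.Lie Cfsg.Lie.ChevalleyDatum

/-- the Cartan matrix -/
def Am : Mat 6 := ![![2, 0, -1, 0, 0, 0],
    ![0, 2, 0, -1, 0, 0],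
    ![-1, 0, 2, -1, 0, 0],
    ![0, -1, -1, 2, -1, 0],
    ![0, 0, 0, -1, 2, -1],
    ![0, 0, 0, 0, -1, 2]]

/-- the partial products -/
def chain : List (Fin 6 × Mat 6) := [
    (3, ![![-1, 0, -1, -1, 0, 0],
      ![0, -1, 0, -1, 0, 0],
      ![1, 0, 0, 0, 0, 0],
      ![0, 1, 1, 1, 0, 0],
      ![0, 0, 0, 1, 1, 0],
      ![0, 0, 0, 0, 0, 1]]),
    (2, ![![-1, 0, -1, 0, 0, 0],
      ![0, -1, 0, 0, 0, 0],
      ![1, 0, 0, 0, 0, 0],
      ![0, 1, 1, 1, 0, 0],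
      ![0, 0, 0, 0, 1, 0],
      ![0, 0, 0, 0, 0, 1]]),
    (1, ![![-1, 0, 0, 0, 0, 0],
      ![0, -1, 0, 0, 0, 0],
      ![1, 0, 1, 0, 0, 0],
      ![0, 1, 0, 1, 0, 0],
      ![0, 0, 0, 0, 1, 0],
      ![0, 0, 0, 0, 0, 1]]),
    (0, ![![-1, 0, 0, 0, 0, 0],
      ![0, 1, 0, 0, 0, 0],
      ![1, 0, 1, 0, 0, 0],
      ![0, 0, 0, 1, 0, 0],
      ![0, 0, 0, 0, 1, 0],
      ![0, 0, 0, 0, 0, 1]])]

/-- the permutation of the simple roots -/
def pi : Fin 6 → Fin 6 := ![5, 1, 4, 3, 2, 0]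

/-- the matrix of `θ` -/
def Th : Mat 6 := ![![0, 0, 0, 0, 0, 1],
    ![0, -1, 0, -1, 0, 0],
    ![0, 0, 0, 1, 1, 0],
    ![0, 1, 1, 1, 0, 0],
    ![1, 0, 0, 0, 0, 0],
    ![-1, 0, -1, -1, 0, 0]]

/-- the basis -/
def V : Mat 6 := ![![-1, -2, -2, -3, -2, -1],
    ![-1, -1, -2, -2, -2, -1],
    ![-1, -1, -1, -2, -2, -1],
    ![-1, -1, -1, -1, -1, -1],
    ![0, 0, 0, 0, -1, -1],
    ![0, 0, 1, 1, 0, 0]]

/-- the coordinates -/
def B : Mat 6 := ![![1, 0, -1, -1, 1, 0],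
    ![-1, 0, 1, 0, 0, -1],
    ![0, -1, 1, 0, 0, 0],
    ![0, 1, -1, 0, 0, 1],
    ![0, -1, 0, 1, 0, -1],
    ![0, 1, 0, -1, -1, 1]]

/-- the polynomial -/
def c : Fin 6 → ℤ := ![1, 0, 0, -1, 0, 0]

/-- the representatives of the orbits of `θ` on the roots -/
def R : Fin 4 → Fin 6 → ℤ := ![![-1, -2, -2, -3, -2, -1],
    ![-1, -1, -2, -2, -1, -1],
    ![-1, -1, -1, -2, -1, -1],
    ![-1, -1, -1, -1, 0, 0]]

/-- the values of the functional on the representatives -/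
def G : Fin 4 → Fin 6 → ℤ := ![![1, 0, 0, 0, 0, 0],
    ![0, 0, 0, 1, 0, -1],
    ![0, -1, 1, 1, 0, -1],
    ![0, 0, 0, 1, -1, 0]]

/-- predecessor -/
def prv (r : ℕ) : ℕ := Nat.mod (Nat.shiftRight 0x4643474035453b2c4237283e33233025443a2b4136273c2d19293d32212f392a163f34380f1308311d0e1826150a1e2e1a0b2011061c0d0322172414090010051b00021200000400 (8 * r)) 256

/-- depth -/
def dep (r : ℕ) : ℕ := Nat.mod (Nat.shiftRight 0x9080a09070b09080c0b090c08050c0c0a06060a07060d0b060e0a0705070d08050d0b0d0402040e1104100e1001050f02040f10010f0f0103030e11030002031100021000011100 (8 * r)) 256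

theorem hA : ∀ i j, Am i j = cartanOf chevE6 6 i j := by decide +kernel

theorem chainOK : ChainOK Am chain := by decide +kernel

theorem hd_pi : ∀ j, hd chain (pi j) = Th j := by decide +kernel

theorem cycOK : CycOK 6 Th V B c := by decide +kernel

theorem rootOK : RootOK chevE6 6 Th R prv dep := by decide +kernel

theorem coefOK : ∀ s i, ∑ j, R s j * B j i = G s i := by decide +kernel

/-- the number of roots killed by the elements of order 3 -/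
theorem card_three : (Finset.univ.filter fun r : Fin 72 => (3 : ℤ) ∣ Gq B (-1) (vec chevE6 6 r)).card = 18 := by
  decide +kernel

theorem fN_eq (x : ℤ) : fN c x = 1 - x ^ 3 + x ^ 6 := by
  unfold fN c
  simp [Fin.sum_univ_succ]
  ring

theorem G_0 (x : ℤ) : Gq B x (R 0) = 1 := by
  rw [Gq_coef B x (R 0) (G 0) (coefOK 0)]
  unfold G
  simp [Fin.sum_univ_succ]
  try ring

theorem bez_0 (x : ℤ) : (0) * (1 - x ^ 3 + x ^ 6) + (3) * (1) = 3 := by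
  ring

theorem G_1 (x : ℤ) : Gq B x (R 1) = x ^ 3 - x ^ 5 := by
  rw [Gq_coef B x (R 1) (G 1) (coefOK 1)]
  unfold G
  simp [Fin.sum_univ_succ]
  try ring

theorem bez_1 (x : ℤ) : (3 + x ^ 3 - x ^ 4) * (1 - x ^ 3 + x ^ 6) + (2 + x + 2 * x ^ 2 - x ^ 3 + x ^ 4 - x ^ 5) * (x ^ 3 - x ^ 5) = 3 := by
  ring

theorem G_2 (x : ℤ) : Gq B x (R 2) = -x + x ^ 2 + x ^ 3 - x ^ 5 := by
  rw [Gq_coef B x (R 2) (G 2) (coefOK 2)]
  unfold G
  simp [Fin.sum_univ_succ]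
  try ring

theorem bez_2 (x : ℤ) : (3 + 3 * x - 3 * x ^ 3) * (1 - x ^ 3 + x ^ 6) + (3 + 3 * x - 3 * x ^ 4) * (-x + x ^ 2 + x ^ 3 - x ^ 5) = 3 := by
  ring

theorem G_3 (x : ℤ) : Gq B x (R 3) = x ^ 3 - x ^ 4 := by
  rw [Gq_coef B x (R 3) (G 3) (coefOK 3)]
  unfold G
  simp [Fin.sum_univ_succ]
  try ring

theorem bez_3 (x : ℤ) : (3) * (1 - x ^ 3 + x ^ 6) + (3 + 3 * x + 3 * x ^ 2) * (x ^ 3 - x ^ 4) = 3 := by
  ring

/-- Common divisors of `f(x)` and the value of `Gq` on a representative. -/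
theorem dvd_of_G {x r : ℤ} (h : r ∣ 1 - x ^ 3 + x ^ 6) (s : Fin 4) (hs : r ∣ Gq B x (R s)) :
    r ∣ 3 := by
  have key : ∀ {a b g y : ℤ}, a * (1 - x ^ 3 + x ^ 6) + b * g = y → r ∣ g → r ∣ y := fun e hg => by
    rw [← e]
    exact dvd_add (h.mul_left _) (hg.mul_left _)
  fin_cases s
  · exact key (bez_0 x) (by rw [← G_0]; exact hs)
  · exact key (bez_1 x) (by rw [← G_1]; exact hs)
  · exact key (bez_2 x) (by rw [← G_2]; exact hs)
  · exact key (bez_3 x) (by rw [← G_3]; exact hs)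

end Cfsg.Agent.H83.TwEA
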