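import Cfsg.Agent.H83.TorE6
import Cfsg.Agent.H83.NumE6
import Cfsg.Agent.H83.TwEA
import Cfsg.Agent.H83.TwEB
import Cfsg.Agent.H83.TwEC
import Cfsg.Agent.H129.UntwData
import Cfsg.Agent.ChevalleyStructure.WeylData
import Cfsg.Agent.H568.RowTools
import Cfsg.Agent.S1066

/-!
# The three tori of `²E₆(q)` (helper83)
-/

set_option autoImplicit false
set_option linter.unusedSectionVars false

namespace Cfsg.Agent.H83.RowE6A

open CoxeterSystem Cfsg Cfsg.Lie Cfsg.Lie.ChevalleyDatum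
open Cfsg.Agent.ChevalleyStructure Cfsg.Agent.ChevalleyStructure.Elts Cfsg.Agent.ChevalleyStructure.CoxeterGeom
  Cfsg.Agent.ChevalleyStructure.CoxeterGeomTypes Cfsg.Agent.ChevalleyStructure.NPerm
open Cfsg.Agent.Tits.Roots Cfsg.Agent.Tits.Core Cfsg.Agent.Nodes Cfsg.Agent.Nodes.Reps Cfsg.Agent.Nodes.BNOf
  Cfsg.Agent.Nodes.RGDChev Cfsg.Agent.Nodes.Bruhat Cfsg.Agent.Nodes.SubComb Cfsg.Agent.Nodes.Coroot
open Cfsg.Agent.KFacts.RgdField Cfsg.Agent.KFacts.RgdChevCoord Cfsg.Agent.BpExc.TorCent Cfsg.Agent.BpExc.TorChev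
open Cfsg.Agent.GpExc.Field Cfsg.Agent.BpExc.Tow Cfsg.Agent.BpExc.TowChev Cfsg.Agent.BpExc.Fr
  Cfsg.Agent.BpExc.LangFr Cfsg.Agent.LangThm Cfsg.Agent.BpExc Cfsg.Agent.H129.TorusChar Cfsg.Agent.H129.TorusCent
  Cfsg.Agent.H129.TorusTw Cfsg.Agent.H129.TorusMain Cfsg.Agent.H129.TorusUntw Cfsg.Agent.ChevStructure.FieldMap
  Cfsg.Agent.BpExc.EmbSplit Cfsg.Agent.BpExc.EmbInst Cfsg.Agent.H83.TorAut Cfsg.Agent.H129
  Cfsg.Agent.H129.TwE6Fr Cfsg.Agent.H83.RootCount Cfsg.Agent.H83.TorE6 Cfsg.Agent.H83.AutCount Cfsg.Agent.H83.NumE6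
  Cfsg.Agent.H568

universe u

abbrev WE := CoxeterMatrix.E₆.Group

abbrev cE : CoxeterSystem CoxeterMatrix.E₆ WE := CoxeterMatrix.E₆.toCoxeterSystem

theorem card_W : Nat.card WE = 51840 :=
  ChevalleyStructure.WeylData.certE6.card_group.trans ChevalleyStructure.WeylData.size_E6

instance finite_W : Finite WE := Nat.finite_of_card_ne_zero (by rw [card_W]; norm_num)

theorem not_dvd_W {r : ℕ} (hr : r.Prime) (hr2 : r ≠ 2) (hr3 : r ≠ 3) (hr5 : r ≠ 5) : ¬ r ∣ Nat.card WE := by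
  rw [card_W]
  intro h
  have h2 : (51840 : ℕ) = 2 ^ 7 * 3 ^ 4 * 5 := by norm_num
  rw [h2] at h
  rcases (Nat.Prime.dvd_mul hr).1 h with h | h
  · rcases (Nat.Prime.dvd_mul hr).1 h with h | h
    · exact hr2 ((Nat.prime_dvd_prime_iff_eq hr Nat.prime_two).1 (hr.dvd_of_dvd_pow h))
    · exact hr3 ((Nat.prime_dvd_prime_iff_eq hr Nat.prime_three).1 (hr.dvd_of_dvd_pow h))
  · exact hr5 ((Nat.prime_dvd_prime_iff_eq hr Nat.prime_five).1 h)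

section

variable {k : Type u} [Field k] [IsAlgClosed k] {p e : ℕ} [Fact p.Prime] [CharP k p]
  {F : Type u} [Field F] [Fintype F] (f : F →+* k) {q : ℕ} (hq : IsPrimePow q) (hF : Fintype.card F = q ^ 2)

variable {f hq hF}

theorem tau_T {W : Type*} [Group W] {cs : CoxeterSystem CoxeterMatrix.E₆ W} {B : Fin 6 → Fin 6 → ℤ}
    {N d : ℕ} {z t : ↥(chevE6.group k)} {u : k} {x0 : ↥(twistedE6 F q)}
    (T1 : Tor6 f hq hF cs p e B N d z t u x0) (i : ℤ) : tau k p e (z * t ^ i * z⁻¹) = z * t ^ i * z⁻¹ :=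
  (T1.hfix _ (zpow_mem T1.ht i)).2 (Subgroup.zpow_mem_zpowers t i)

/-- **Elements of the first torus commuting with an element of the second torus.** -/
theorem eq_one_of_comm {W : Type*} [Group W] {cs : CoxeterSystem CoxeterMatrix.E₆ W}
    (hqe : q = p ^ e) {B B2 : Fin 6 → Fin 6 → ℤ} {N N2 d d2 : ℕ} {z t z2 t2 : ↥(chevE6.group k)}
    {u u2 : k} {x0 x02 : ↥(twistedE6 F q)} (T1 : Tor6 f hq hF cs p e B N d z t u x0)
    (T2 : Tor6 f hq hF cs p e B2 N2 d2 z2 t2 u2 x02) {l2 : ℕ} (hl2 : l2.Prime)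
    (hW : ¬ l2 ∣ Nat.card W) (hreg : ∀ a, IsRoot cs RGDTwE6.hp.isCartan a → ¬ (l2 : ℤ) ∣ Gq B2 (q : ℤ) a)
    (hidx : ¬ l2 ∣ (Subgroup.zpowers x02).index) (hgcd : Nat.gcd N N2 ∣ 3)
    (hne : Nat.card {r : Fin chevE6.nroots // ¬ (3 : ℤ) ∣ Gq B q (vec chevE6 6 r)} ≠
      Nat.card {r : Fin chevE6.nroots // ¬ (3 : ℤ) ∣ Gq B2 q (vec chevE6 6 r)})
    {x2 : ↥(twistedE6 F q)} (hx2 : x2 ∈ Subgroup.zpowers x02) (hl2x : l2 ∣ orderOf x2)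
    {y' : ↥(twistedE6 F q)} (hy' : orderOf y' = orderOf x2) {i : ℤ}
    (h : (z * t ^ i * z⁻¹) * embT f hq hF y' = embT f hq hF y' * (z * t ^ i * z⁻¹)) : t ^ i = 1 := by
  classical
  have hlf : Fact l2.Prime := ⟨hl2⟩
  obtain ⟨m, hm⟩ := hl2x
  have ho : 0 < orderOf x2 := orderOf_pos x2
  have hm0 : m ≠ 0 := by rintro rfl; omega
  have hxo : orderOf (x2 ^ m) = l2 := by
    rw [orderOf_pow_of_dvd hm0 (by rw [hm]; exact Dvd.intro_left _ rfl), hm,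
      Nat.mul_div_cancel _ (Nat.pos_of_ne_zero hm0)]
  have hyo : orderOf (y' ^ m) = l2 := by
    rw [orderOf_pow_of_dvd hm0 (by rw [hy', hm]; exact Dvd.intro_left _ rfl), hy', hm,
      Nat.mul_div_cancel _ (Nat.pos_of_ne_zero hm0)]
  obtain ⟨P, hP⟩ := exists_cyclic_sylow (G := ↥(twistedE6 F q)) (p := l2) (T := Subgroup.zpowers x02)
    inferInstance hidx
  obtain ⟨s, -, j, hj⟩ := conj_of_cyclic P hP hxo (y' ^ m) hyo
  have hj' : (y' ^ m) ^ j = s * x2 ^ m * s⁻¹ := hj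
  set g := z * t ^ i * z⁻¹ with hg
  set e0 := embT f hq hF with he0
  -- `g` commutes with `e0 (s x2^m s⁻¹)`
  have h1 : g * e0 (s * x2 ^ m * s⁻¹) = e0 (s * x2 ^ m * s⁻¹) * g := by
    rw [← hj', map_zpow, map_pow]
    exact (((show Commute g (e0 y') from h).pow_right m).zpow_right j).eq
  have h2 : ((e0 s)⁻¹ * g * e0 s) * e0 (x2 ^ m) = e0 (x2 ^ m) * ((e0 s)⁻¹ * g * e0 s) := by
    rw [map_mul, map_mul, map_inv] at h1
    calc ((e0 s)⁻¹ * g * e0 s) * e0 (x2 ^ m) = (e0 s)⁻¹ * (g * (e0 s * e0 (x2 ^ m) * (e0 s)⁻¹)) * e0 s := by group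
      _ = (e0 s)⁻¹ * (e0 s * e0 (x2 ^ m) * (e0 s)⁻¹ * g) * e0 s := by rw [h1]
      _ = _ := by group
  have h3 := (T2.hcent (x2 ^ m) (pow_mem hx2 m) l2 hl2 (by rw [hxo]) hW hreg).2 _ h2
  set c := z2⁻¹ * ((e0 s)⁻¹ * g * e0 s) * z2 with hc
  have h4 : z2 * c * z2⁻¹ = (e0 s)⁻¹ * g * e0 s := by rw [hc]; group
  have h5 : c ∈ Subgroup.zpowers t2 := by
    rw [← T2.hfix c h3, h4, map_mul, map_mul, map_inv, he0, tau_embT f hqe hq hF, hg, tau_T T1]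
  obtain ⟨j', hj'⟩ := h5
  have hj'' : t2 ^ j' = c := hj'
  refine eq_one_of_conj (y := z⁻¹ * e0 s * z2) RGDTwE6.hp T1.ht T2.ht T1.hu T2.hu T1.hcX T2.hcX T1.htN T2.htN hgcd hne
    (i := i) (j := j') ?_
  rw [hj'', hc, hg]
  group

end

/-! ### the first torus -/

section

variable {k : Type u} [Field k] [IsAlgClosed k] {p e : ℕ} [Fact p.Prime] [CharP k p]
  {F : Type u} [Field F] [Fintype F] (f : F →+* k) {q : ℕ} (hq : IsPrimePow q) (hF : Fintype.card F = q ^ 2)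

theorem castN1 (hq1 : 1 ≤ q) : ((q ^ 6 - q ^ 3 + 1 : ℕ) : ℤ) = 1 - (q : ℤ) ^ 3 + (q : ℤ) ^ 6 := by
  push_cast [Nat.cast_sub (le1 hq1)]; ring

theorem castP (hq1 : 1 ≤ q) : ((q ^ 4 - q ^ 2 + 1 : ℕ) : ℤ) = 1 - (q : ℤ) ^ 2 + (q : ℤ) ^ 4 := by
  push_cast [Nat.cast_sub (le2 hq1)]; ring

theorem castN2 (hq1 : 1 ≤ q) : (((q ^ 4 - q ^ 2 + 1) * (q ^ 2 - q + 1) : ℕ) : ℤ) =
    1 - (q : ℤ) + (q : ℤ) ^ 3 - (q : ℤ) ^ 5 + (q : ℤ) ^ 6 := by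
  push_cast [Nat.cast_sub (le2 hq1), Nat.cast_sub (le3 hq1)]; ring

theorem torA (hk : LocFin k) (hqe : q = p ^ e) : ∃ (d' : ℕ) (z t : ↥(chevE6.group k)) (u : k) (x0 : ↥(twistedE6 F q)),
    Tor6 f hq hF cE p e TwEA.B (q ^ 6 - q ^ 3 + 1) d' z t u x0 := by
  have hq1 := hq.one_lt.le
  have hlin := lin_flip cE TwEA.hA TwEA.chainOK TwEA.hd_pi
  refine exists_tor6 f hq hF cE hk hqe (TwEA.chain.map Prod.fst) (WData.cyc_of hlin TwEA.cycOK)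
    (by rw [TwEA.fN_eq, castN1 hq1]) ?_ (by omega)
  exact UntwData.coprime_of_eq (a := -(q : ℤ) ^ 2 + (q : ℤ) ^ 5) (by rw [castN1 hq1]; ring)

theorem torB (hk : LocFin k) (hqe : q = p ^ e) : ∃ (d' : ℕ) (z t : ↥(chevE6.group k)) (u : k) (x0 : ↥(twistedE6 F q)),
    Tor6 f hq hF cE p e TwEB.B ((q ^ 4 - q ^ 2 + 1) * (q ^ 2 - q + 1)) d' z t u x0 := by
  have hq1 := hq.one_lt.le
  have hlin := lin_flip cE TwEB.hA TwEB.chainOK TwEB.hd_pi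
  refine exists_tor6 f hq hF cE hk hqe (TwEB.chain.map Prod.fst) (WData.cyc_of hlin TwEB.cycOK)
    (by rw [TwEB.fN_eq, castN2 hq1]) ?_ ?_
  · exact UntwData.coprime_of_eq (a := -1 + (q : ℤ) ^ 2 - (q : ℤ) ^ 4 + (q : ℤ) ^ 5) (by rw [castN2 hq1]; ring)
  · exact Nat.mul_ne_zero (by omega) (by omega)

theorem torC (hk : LocFin k) (hqe : q = p ^ e) (hq2 : q = 2) :
    ∃ (d' : ℕ) (z t : ↥(chevE6.group k)) (u : k) (x0 : ↥(twistedE6 F q)),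
    Tor6 f hq hF cE p e TwEC.B 51 d' z t u x0 := by
  have hlin := lin_flip cE TwEC.hA TwEC.chainOK TwEC.hd_pi
  refine exists_tor6 f hq hF cE hk hqe (TwEC.chain.map Prod.fst) (WData.cyc_of hlin TwEC.cycOK)
    (by rw [TwEC.fN_eq, hq2]; norm_num) (by rw [hq2]; decide) (by norm_num)

end

end Cfsg.Agent.H83.RowE6A
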