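import Cfsg.Agent.H83.RowE6A

/-!
# The orders of the tori of `²E₆(q)` (helper83)
-/

set_option autoImplicit false
set_option linter.unusedSectionVars false

namespace Cfsg.Agent.H83.RowE6B

open CoxeterSystem Cfsg Cfsg.Lie Cfsg.Lie.ChevalleyDatum
open Cfsg.Agent.ChevalleyStructure Cfsg.Agent.ChevalleyStructure.Elts Cfsg.Agent.ChevalleyStructure.CoxeterGeom
  Cfsg.Agent.ChevalleyStructure.CoxeterGeomTypes Cfsg.Agent.ChevalleyStructure.NPerm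
open Cfsg.Agent.Tits.Roots Cfsg.Agent.Tits.Core Cfsg.Agent.Nodes Cfsg.Agent.Nodes.Reps Cfsg.Agent.Nodes.BNOf
  Cfsg.Agent.Nodes.RGDChev Cfsg.Agent.Nodes.Bruhat Cfsg.Agent.Nodes.SubComb Cfsg.Agent.Nodes.Coroot
open Cfsg.Agent.KFacts.RgdField Cfsg.Agent.KFacts.RgdChevCoord Cfsg.Agent.BpExc.TorCent Cfsg.Agent.BpExc.TorChev
open Cfsg.Agent.GpExc.Field Cfsg.Agent.BpExc.Tow Cfsg.Agent.BpExc.TowChev Cfsg.Agent.BpExc.Fr
  Cfsg.Agent.BpExc.LangFr Cfsg.Agent.LangThm Cfsg.Agent.BpExc Cfsg.Agent.H129.TorusChar Cfsg.Agent.H129.TorusCent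
  Cfsg.Agent.H129.TorusTw Cfsg.Agent.H129.TorusMain Cfsg.Agent.H129.TorusUntw Cfsg.Agent.ChevStructure.FieldMap
  Cfsg.Agent.BpExc.EmbSplit Cfsg.Agent.BpExc.EmbInst Cfsg.Agent.H83.TorAut Cfsg.Agent.H129
  Cfsg.Agent.H129.TwE6Fr Cfsg.Agent.H83.RootCount Cfsg.Agent.H83.TorE6 Cfsg.Agent.H83.AutCount Cfsg.Agent.H83.NumE6
  Cfsg.Agent.H568 Cfsg.Agent.H83.RowE6A

universe u

/-! ### regular primes -/

theorem regA {q : ℕ} (hq1 : 1 ≤ q) {r : ℕ} (hr : r.Prime) (hrN : r ∣ q ^ 6 - q ^ 3 + 1) (hr3 : r ≠ 3) :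
    (¬ r ∣ Nat.card WE) ∧ ∀ a, IsRoot cE RGDTwE6.hp.isCartan a → ¬ (r : ℤ) ∣ Gq TwEA.B (q : ℤ) a := by
  have key : ∀ m : ℕ, m ∣ q ^ 6 - q ^ 3 + 1 → ((q : ZMod m) ^ 6 - (q : ZMod m) ^ 3 + 1 = 0) := by
    intro m hm
    have h1 := (ZMod.natCast_eq_zero_iff (q ^ 6 - q ^ 3 + 1) m).2 hm
    push_cast [Nat.cast_sub (le1 hq1)] at h1
    exact h1
  refine ⟨not_dvd_W hr ?_ hr3 ?_, fun a ha => ?_⟩
  · rintro rfl
    have h1 := key 2 hrN
    revert h1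
    generalize (q : ZMod 2) = x
    revert x
    decide
  · rintro rfl
    have h1 := key 5 hrN
    revert h1
    generalize (q : ZMod 5) = x
    revert x
    decide
  · have hlin := lin_flip cE TwEA.hA TwEA.chainOK TwEA.hd_pi
    refine WData.not_dvd_G RGDTwE6.hp cE hlin (WData.cyc_of hlin TwEA.cycOK) TwEA.rootOK (q := q)
      (N := q ^ 6 - q ^ 3 + 1) (by rw [TwEA.fN_eq, castN1 hq1]) hr hrN
      (UntwData.coprime_of_eq (a := -(q : ℤ) ^ 2 + (q : ℤ) ^ 5) (by rw [castN1 hq1]; ring)) (fun s hs => ?_) ha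
    have hrq : (r : ℤ) ∣ 1 - (q : ℤ) ^ 3 + (q : ℤ) ^ 6 := by
      rw [← castN1 hq1]; exact Int.natCast_dvd_natCast.2 hrN
    have h2 := TwEA.dvd_of_G hrq s hs
    exact hr3 ((Nat.prime_dvd_prime_iff_eq hr Nat.prime_three).1 (by exact_mod_cast h2))

theorem primeB {q : ℕ} (hq1 : 1 ≤ q) {r : ℕ} (hr : r.Prime) (hrN : r ∣ q ^ 4 - q ^ 2 + 1) : r ≠ 2 ∧ r ≠ 3 ∧ r ≠ 5 := by
  have key : ∀ m : ℕ, m ∣ q ^ 4 - q ^ 2 + 1 → ((q : ZMod m) ^ 4 - (q : ZMod m) ^ 2 + 1 = 0) := by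
    intro m hm
    have h1 := (ZMod.natCast_eq_zero_iff (q ^ 4 - q ^ 2 + 1) m).2 hm
    push_cast [Nat.cast_sub (le2 hq1)] at h1
    exact h1
  refine ⟨?_, ?_, ?_⟩
  · rintro rfl
    have h1 := key 2 hrN
    revert h1
    generalize (q : ZMod 2) = x
    revert x
    decide
  · rintro rfl
    have h1 := key 3 hrN
    revert h1
    generalize (q : ZMod 3) = x
    revert x
    decide
  · rintro rfl
    have h1 := key 5 hrN
    revert h1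
    generalize (q : ZMod 5) = x
    revert x
    decide

theorem regB {q : ℕ} (hq1 : 1 ≤ q) {r : ℕ} (hr : r.Prime) (hrN : r ∣ q ^ 4 - q ^ 2 + 1) :
    (¬ r ∣ Nat.card WE) ∧ ∀ a, IsRoot cE RGDTwE6.hp.isCartan a → ¬ (r : ℤ) ∣ Gq TwEB.B (q : ℤ) a := by
  obtain ⟨h2, h3, h5⟩ := primeB hq1 hr hrN
  refine ⟨not_dvd_W hr h2 h3 h5, fun a ha => ?_⟩
  have hlin := lin_flip cE TwEB.hA TwEB.chainOK TwEB.hd_pi
  refine WData.not_dvd_G RGDTwE6.hp cE hlin (WData.cyc_of hlin TwEB.cycOK) TwEB.rootOK (q := q)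
    (N := (q ^ 4 - q ^ 2 + 1) * (q ^ 2 - q + 1)) (by rw [TwEB.fN_eq, castN2 hq1]) hr (hrN.mul_right _)
    (UntwData.coprime_of_eq (a := -1 + (q : ℤ) ^ 2 - (q : ℤ) ^ 4 + (q : ℤ) ^ 5) (by rw [castN2 hq1]; ring))
    (fun s hs => ?_) ha
  have hrq : (r : ℤ) ∣ 1 - (q : ℤ) ^ 2 + (q : ℤ) ^ 4 := by
    rw [← castP hq1]; exact Int.natCast_dvd_natCast.2 hrN
  have h6 := TwEB.dvd_of_G hrq s hs
  exact h2 ((Nat.prime_dvd_prime_iff_eq hr Nat.prime_two).1 (by exact_mod_cast h6))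

theorem regC : (¬ 17 ∣ Nat.card WE) ∧ ∀ a, IsRoot cE RGDTwE6.hp.isCartan a →
    ¬ ((17 : ℕ) : ℤ) ∣ Gq TwEC.B ((2 : ℕ) : ℤ) a := by
  refine ⟨not_dvd_W (by norm_num) (by norm_num) (by norm_num) (by norm_num), fun a ha => ?_⟩
  have hlin := lin_flip cE TwEC.hA TwEC.chainOK TwEC.hd_pi
  refine WData.not_dvd_G RGDTwE6.hp cE hlin (WData.cyc_of hlin TwEC.cycOK) TwEC.rootOK (q := 2)
    (N := 51) (by rw [TwEC.fN_eq]; norm_num) (by norm_num) (by norm_num) (by decide)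
    (fun s hs => ?_) ha
  have h6 := TwEC.dvd_of_G (x := ((2 : ℕ) : ℤ)) (by norm_num) s hs
  norm_num at h6

/-! ### the orders -/

section

variable {k : Type u} [Field k] [IsAlgClosed k] {p e : ℕ} [Fact p.Prime] [CharP k p]
  {F : Type u} [Field F] [Fintype F] {f : F →+* k} {q : ℕ} {hq : IsPrimePow q} {hF : Fintype.card F = q ^ 2}
  {W : Type*} [Group W] {cs : CoxeterSystem CoxeterMatrix.E₆ W} {B : Fin 6 → Fin 6 → ℤ}
    {N d : ℕ} {z t : ↥(chevE6.group k)} {u : k} {x0 : ↥(twistedE6 F q)}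

theorem card_T (T1 : Tor6 f hq hF cs p e B N d z t u x0) : Nat.card ↥(Subgroup.zpowers x0) = N / d := by
  rw [Nat.card_zpowers, T1.hord]

theorem index_eq (T1 : Tor6 f hq hF cs p e B N d z t u x0) (hN0 : N ≠ 0) {M : ℕ}
    (hM : q ^ 36 * (q ^ 2 - 1) * (q ^ 5 + 1) * (q ^ 6 - 1) * (q ^ 8 - 1) * (q ^ 9 + 1) * (q ^ 12 - 1) = N * M) :
    Nat.gcd 3 (q + 1) * (Subgroup.zpowers x0).index = d * M := by
  have h1 := (Subgroup.zpowers x0).card_mul_index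
  rw [card_T T1] at h1
  have h2 := S1066.result hq hF
  rw [hM, ← h1] at h2
  obtain ⟨m, hm⟩ := T1.hdN
  have hd0 : d ≠ 0 := by rintro rfl; rw [zero_mul] at hm; exact hN0 hm
  have hm0 : m ≠ 0 := by rintro rfl; rw [mul_zero] at hm; exact hN0 hm
  have h3 : N / d = m := by rw [hm, Nat.mul_div_cancel_left _ (Nat.pos_of_ne_zero hd0)]
  rw [h3] at h2
  apply Nat.eq_of_mul_eq_mul_left (Nat.pos_of_ne_zero hm0)
  calc m * (Nat.gcd 3 (q + 1) * (Subgroup.zpowers x0).index)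
      = Nat.gcd 3 (q + 1) * (m * (Subgroup.zpowers x0).index) := by ring
    _ = N * M := h2
    _ = m * (d * M) := by rw [hm]; ring

/-- `d = gcd(3, q + 1)`. -/
theorem exact (T1 : Tor6 f hq hF cs p e B N d z t u x0) (hN0 : N ≠ 0) {M : ℕ}
    (hM : q ^ 36 * (q ^ 2 - 1) * (q ^ 5 + 1) * (q ^ 6 - 1) * (q ^ 8 - 1) * (q ^ 9 + 1) * (q ^ 12 - 1) = N * M)
    {l : ℕ} (hl : l.Prime) (hl3 : l ≠ 3) (hlN : l ∣ N) (hW : ¬ l ∣ Nat.card W)
    (hreg : ∀ a, IsRoot cs RGDTwE6.hp.isCartan a → ¬ (l : ℤ) ∣ Gq B (q : ℤ) a) {c m : ℕ} (hc : 0 < c) (hcl : c < l)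
    (hmod : M ≡ 3 * c [MOD l]) (hm : orderOf ((q ^ 2 : ℕ) : ZMod l) = m) (hmc : ¬ m ∣ c) :
    d = Nat.gcd 3 (q + 1) := by
  have hidx := index_eq T1 hN0 hM
  have hd := T1.hd
  rcases (Nat.dvd_prime Nat.prime_three).1 (Nat.gcd_dvd_left 3 (q + 1)) with hg | hg
  · rw [hg] at hd ⊢
    exact Nat.dvd_one.1 hd
  · rw [hg] at hd hidx ⊢
    rcases (Nat.dvd_prime Nat.prime_three).1 hd with h1 | h1
    · exfalso
      rw [h1, one_mul] at hidx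
      obtain ⟨j, hj⟩ := hlN
      have hj0 : j ≠ 0 := by rintro rfl; rw [mul_zero] at hj; exact hN0 hj
      have hord : orderOf x0 = N := by rw [T1.hord, h1, Nat.div_one]
      have hx1 : orderOf (x0 ^ j) = l := by
        rw [orderOf_pow_of_dvd hj0 (by rw [hord, hj]; exact Dvd.intro_left _ rfl), hord, hj,
          Nat.mul_div_cancel _ (Nat.pos_of_ne_zero hj0)]
      have hT := (T1.hcent (x0 ^ j) (Subgroup.npow_mem_zpowers x0 j) l hl (by rw [hx1]) hW hreg).1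
      obtain ⟨v, hv⟩ := T1.hv
      have hv' : v * x0 ^ j * v⁻¹ = (x0 ^ j) ^ q ^ 2 := by
        rw [← conj_pow, hv, ← pow_mul, ← pow_mul, mul_comm]
      refine hmc (dvd_of_mod hl hx1 hT inferInstance hc hcl ?_ hv' hm)
      rw [← hidx] at hmod
      have hco : Nat.gcd l 3 = 1 := by
        rw [← Nat.Coprime, Nat.coprime_primes hl Nat.prime_three]
        exact hl3
      exact Nat.ModEq.cancel_left_of_coprime hco hmod
    · exact h1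

end

end Cfsg.Agent.H83.RowE6B
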