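import Cfsg.Agent.H83.RowE6B
import Cfsg.Agent.H83.Frob
import Cfsg.Agent.H83.OwnChar

/-!
# The elements of `²E₆(q)` used in S4329 (helper83)
-/

set_option autoImplicit false
set_option linter.unusedSectionVars false

namespace Cfsg.Agent.H83.RowE6C

open CoxeterSystem Cfsg Cfsg.Lie Cfsg.Lie.ChevalleyDatum
open Cfsg.Agent.ChevalleyStructure Cfsg.Agent.ChevalleyStructure.Elts Cfsg.Agent.ChevalleyStructure.CoxeterGeom
  Cfsg.Agent.ChevalleyStructure.CoxeterGeomTypes Cfsg.Agent.ChevalleyStructure.NPerm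
open Cfsg.Agent.Tits.Roots Cfsg.Agent.Tits.Core Cfsg.Agent.Nodes Cfsg.Agent.Nodes.Reps Cfsg.Agent.Nodes.BNOf
  Cfsg.Agent.Nodes.RGDChev Cfsg.Agent.Nodes.Bruhat Cfsg.Agent.Nodes.SubComb Cfsg.Agent.Nodes.Coroot
open Cfsg.Agent.KFacts.RgdField Cfsg.Agent.KFacts.RgdChevCoord Cfsg.Agent.BpExc.TorCent Cfsg.Agent.BpExc.TorChev
open Cfsg.Agent.GpExc.Field Cfsg.Agent.BpExc.Tow Cfsg.Agent.BpExc.TowChev Cfsg.Agent.BpExc.Fr
  Cfsg.Agent.BpExc.LangFr Cfsg.Agent.LangThm Cfsg.Agent.BpExc Cfsg.Agent.H129.TorusChar Cfsg.Agent.H129.TorusCent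
  Cfsg.Agent.H129.TorusTw Cfsg.Agent.H129.TorusMain Cfsg.Agent.H129.TorusUntw Cfsg.Agent.ChevStructure.FieldMap
  Cfsg.Agent.BpExc.EmbSplit Cfsg.Agent.BpExc.EmbInst Cfsg.Agent.H83.TorAut Cfsg.Agent.H129
  Cfsg.Agent.H129.TwE6Fr Cfsg.Agent.H83.RootCount Cfsg.Agent.H83.TorE6 Cfsg.Agent.H83.AutCount Cfsg.Agent.H83.NumE6
  Cfsg.Agent.H568 Cfsg.Agent.H83.RowE6A Cfsg.Agent.H83.RowE6B

universe u

/-! ### numbers -/

theorem card_compl {P : Fin 72 → Prop} [DecidablePred P] {n : ℕ} (h : (Finset.univ.filter P).card = n) :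
    Nat.card {r : Fin 72 // ¬ P r} = 72 - n := by
  rw [Nat.card_eq_fintype_card, Fintype.card_subtype, ← h, ← Finset.compl_filter, Finset.card_compl, Fintype.card_fin]

theorem count {B : Fin 6 → Fin 6 → ℤ} {n q : ℕ} (hq : (3 : ℤ) ∣ (q : ℤ) + 1)
    (h : (Finset.univ.filter fun r : Fin 72 => (3 : ℤ) ∣ Gq B (-1) (vec chevE6 6 r)).card = n) :
    Nat.card {r : Fin chevE6.nroots // ¬ (3 : ℤ) ∣ Gq B q (vec chevE6 6 r)} = 72 - n := by
  rw [← card_compl h]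
  refine Nat.card_congr (Equiv.subtypeEquivRight fun r => not_congr (Gq_mod hq _))

theorem gcd_three {q : ℕ} (hg : Nat.gcd 3 (q + 1) = 3) : (3 : ℤ) ∣ (q : ℤ) + 1 := by
  have h1 : 3 ∣ q + 1 := by
    have := Nat.gcd_dvd_right 3 (q + 1)
    rwa [hg] at this
  exact_mod_cast Int.natCast_dvd_natCast.2 h1

theorem gcd_AB {q : ℕ} (hq1 : 1 ≤ q) :
    Nat.gcd (q ^ 6 - q ^ 3 + 1) ((q ^ 4 - q ^ 2 + 1) * (q ^ 2 - q + 1)) ∣ 3 := by
  set g := Nat.gcd (q ^ 6 - q ^ 3 + 1) ((q ^ 4 - q ^ 2 + 1) * (q ^ 2 - q + 1)) with hg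
  have h1 : (g : ℤ) ∣ 1 - (q : ℤ) ^ 3 + (q : ℤ) ^ 6 := by
    rw [← castN1 hq1]
    exact Int.natCast_dvd_natCast.2 (Nat.gcd_dvd_left _ _)
  have h2 : (g : ℤ) ∣ 1 - (q : ℤ) + (q : ℤ) ^ 3 - (q : ℤ) ^ 5 + (q : ℤ) ^ 6 := by
    rw [← castN2 hq1]
    exact Int.natCast_dvd_natCast.2 (Nat.gcd_dvd_right _ _)
  have h3 : (g : ℤ) ∣ 3 := by
    have e : (3 : ℤ) = (2 * (q : ℤ) + (q : ℤ) ^ 3 + 2 * (q : ℤ) ^ 5) * (1 - (q : ℤ) ^ 3 + (q : ℤ) ^ 6) +
        (3 + (q : ℤ) + (q : ℤ) ^ 2 - 3 * (q : ℤ) ^ 3 - 2 * (q : ℤ) ^ 4 - 2 * (q : ℤ) ^ 5) *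
          (1 - (q : ℤ) + (q : ℤ) ^ 3 - (q : ℤ) ^ 5 + (q : ℤ) ^ 6) := by ring
    rw [e]
    exact dvd_add (h1.mul_left _) (h2.mul_left _)
  exact_mod_cast h3

/-- The order of `q²` modulo a divisor of `q⁴ - q² + 1`. -/
theorem ord_B {q l : ℕ} (hq1 : 1 ≤ q) (hl : l.Prime) (hlN : l ∣ q ^ 4 - q ^ 2 + 1) :
    orderOf ((q ^ 2 : ℕ) : ZMod l) = 6 := by
  have hlf : Fact l.Prime := ⟨hl⟩
  obtain ⟨hl2, hl3, -⟩ := primeB hq1 hl hlN
  have h1 : (q : ZMod l) ^ 4 - (q : ZMod l) ^ 2 + 1 = 0 := by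
    have h1 := (ZMod.natCast_eq_zero_iff (q ^ 4 - q ^ 2 + 1) l).2 hlN
    push_cast [Nat.cast_sub (le2 hq1)] at h1
    exact h1
  push_cast
  have hcast : ∀ n : ℕ, n.Prime → n ≠ l → ((n : ℕ) : ZMod l) ≠ 0 := by
    intro n hn hne h
    rw [ZMod.natCast_eq_zero_iff] at h
    exact hne ((Nat.prime_dvd_prime_iff_eq hl hn).1 h).symm
  have h2 : ((2 : ℕ) : ZMod l) ≠ 0 := hcast 2 Nat.prime_two (Ne.symm hl2)
  have h3 : ((3 : ℕ) : ZMod l) ≠ 0 := hcast 3 Nat.prime_three (Ne.symm hl3)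
  push_cast at h2 h3
  generalize (q : ZMod l) = y at h1
  apply orderOf_eq_of_pow_and_pow_div_prime (by norm_num)
  · calc (y ^ 2) ^ 6 = ((y ^ 2 + 1) * (y ^ 4 - y ^ 2 + 1) - 1) ^ 2 := by ring
      _ = 1 := by rw [h1]; ring
  · intro p hp hpd
    have hp' : p = 2 ∨ p = 3 := by
      have h6 : p ∣ 2 * 3 := hpd
      rcases (Nat.Prime.dvd_mul hp).1 h6 with h | h
      · left; exact (Nat.prime_dvd_prime_iff_eq hp Nat.prime_two).1 h
      · right; exact (Nat.prime_dvd_prime_iff_eq hp Nat.prime_three).1 h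
    rcases hp' with rfl | rfl
    · intro h
      apply h2
      have e : (y ^ 2) ^ (6 / 2) = (y ^ 2 + 1) * (y ^ 4 - y ^ 2 + 1) - 1 := by norm_num; ring
      rw [e, h1] at h
      linear_combination -h
    · intro h
      apply h3
      have e : (y ^ 2) ^ (6 / 3) = (y ^ 4 - y ^ 2 + 1) + y ^ 2 - 1 := by norm_num; ring
      rw [e, h1] at h
      -- `y ^ 2 = 2`
      have h4 : y ^ 2 = 2 := by linear_combination h
      have h5 : y ^ 4 = 4 := by
        calc y ^ 4 = (y ^ 2) ^ 2 := by ring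
          _ = 4 := by rw [h4]; norm_num
      rw [h5, h4] at h1
      linear_combination h1

theorem ord_A {r f l : ℕ} (hf : 1 ≤ f) (hord : orderOf (r : ZMod l) = 18 * f) :
    orderOf (((r ^ f) ^ 2 : ℕ) : ZMod l) = 9 := by
  push_cast
  rw [← pow_mul, orderOf_pow' _ (by omega), hord]
  have h1 : Nat.gcd (18 * f) (f * 2) = 2 * f := by
    rw [show 18 * f = 9 * (2 * f) by ring, mul_comm f 2]
    exact Nat.gcd_eq_right (Dvd.intro_left _ rfl)
  rw [h1, show 18 * f = 9 * (2 * f) by ring, Nat.mul_div_cancel _ (by omega)]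

theorem not_nine_A {q : ℕ} (hq1 : 1 ≤ q) : ¬ 9 ∣ q ^ 6 - q ^ 3 + 1 := by
  intro h
  have h1 := (ZMod.natCast_eq_zero_iff (q ^ 6 - q ^ 3 + 1) 9).2 h
  push_cast [Nat.cast_sub (le1 hq1)] at h1
  revert h1
  generalize (q : ZMod 9) = x
  revert x
  decide

theorem not_nine_B {q : ℕ} (hq1 : 1 ≤ q) : ¬ 9 ∣ (q ^ 4 - q ^ 2 + 1) * (q ^ 2 - q + 1) := by
  intro h
  have h1 := (ZMod.natCast_eq_zero_iff ((q ^ 4 - q ^ 2 + 1) * (q ^ 2 - q + 1)) 9).2 h
  push_cast [Nat.cast_sub (le2 hq1), Nat.cast_sub (le3 hq1)] at h1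
  revert h1
  generalize (q : ZMod 9) = x
  revert x
  decide

/-! ### the first torus -/

section

variable {k : Type u} [Field k] [IsAlgClosed k] {p e : ℕ} [hpF : Fact p.Prime] [CharP k p]
  {F : Type u} [Field F] [Fintype F] (f : F →+* k) {q : ℕ} (hq : IsPrimePow q) (hF : Fintype.card F = q ^ 2)

theorem mainA (hk : LocFin k) (he : 1 ≤ e) (hqe : q = p ^ e) {l : ℕ} (hl : l.Prime)
    (hord : orderOf (p : ZMod l) = 18 * e) (hlN : l ∣ q ^ 6 - q ^ 3 + 1) (hle : 18 * e < l) :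
    ∃ (z t : ↥(chevE6.group k)) (u : k) (x0 : ↥(twistedE6 F q)),
      Tor6 f hq hF cE p e TwEA.B (q ^ 6 - q ^ 3 + 1) (Nat.gcd 3 (q + 1)) z t u x0 := by
  have hq1 := hq.one_lt.le
  obtain ⟨d', z, t, u, x0, T1⟩ := torA f hq hF hk hqe
  have hl3 : l ≠ 3 := by omega
  obtain ⟨hW, hreg⟩ := regA hq1 hl hlN hl3
  have hd := exact T1 (by omega) (eq1 hq1) hl hl3 hlN hW hreg (c := 3) (m := 9) (by norm_num) (by omega)
    (mod1 hq1 hlN) (by rw [hqe]; exact ord_A he hord) (by norm_num)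
  subst hd
  exact ⟨z, t, u, x0, T1⟩

end

section

variable {k : Type u} [Field k] [IsAlgClosed k] {p e : ℕ} [hpF : Fact p.Prime] [CharP k p]
  {F : Type u} [Field F] [Fintype F] {f : F →+* k} {q : ℕ} {hq : IsPrimePow q} {hF : Fintype.card F = q ^ 2}
  {z t : ↥(chevE6.group k)} {u : k} {x0 : ↥(twistedE6 F q)}

/-- **The second element**, `q > 2`. -/
theorem mainB (hk : LocFin k) (hqe : q = p ^ e) (hq5 : 5 ≤ q) (hg : Nat.gcd 3 (q + 1) = 3) (hp3 : p ≠ 3)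
    (T1 : Tor6 f hq hF cE p e TwEA.B (q ^ 6 - q ^ 3 + 1) (Nat.gcd 3 (q + 1)) z t u x0) :
    ∃ x2 : ↥(twistedE6 F q), ¬ 3 ∣ orderOf x2 ∧ NoNorm 3 x2 ∧ ∀ y' : ↥(twistedE6 F q), orderOf y' = orderOf x2 →
      ∀ i : ℤ, (z * t ^ i * z⁻¹) * embT f hq hF y' = embT f hq hF y' * (z * t ^ i * z⁻¹) → t ^ i = 1 := by
  classical
  have hq1 := hq.one_lt.le
  obtain ⟨d2, z2, t2, u2, x02, T2⟩ := torB f hq hF hk hqe
  set P := q ^ 4 - q ^ 2 + 1 with hP
  set P6 := q ^ 2 - q + 1 with hP6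
  have hP1 : 78 < P := by
    have h2 : 25 ≤ q ^ 2 := by nlinarith
    have h1 : q ^ 2 * 25 ≤ q ^ 2 * q ^ 2 := Nat.mul_le_mul_left _ h2
    have h3 : q ^ 2 * q ^ 2 = q ^ 4 := by ring
    omega
  obtain ⟨l, hl, hlP⟩ := Nat.exists_prime_and_dvd (n := P) (by omega)
  obtain ⟨hl2, hl3, hl5⟩ := primeB hq1 hl hlP
  obtain ⟨hW, hreg⟩ := regB hq1 hl hlP
  have hl7 : l ≠ 7 := by
    rintro rfl
    have h8 := (ZMod.natCast_eq_zero_iff (q ^ 4 - q ^ 2 + 1) 7).2 hlP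
    push_cast [Nat.cast_sub (le2 hq1)] at h8
    revert h8
    generalize (q : ZMod 7) = x
    revert x
    decide
  have hl13 : 13 ≤ l := by
    by_contra hcon
    -- `6 ∣ l - 1`
    have hlf : Fact l.Prime := ⟨hl⟩
    have h1 := ord_B hq1 hl hlP
    have hne : ((q ^ 2 : ℕ) : ZMod l) ≠ 0 := by
      intro h0
      rw [h0, orderOf_zero] at h1
      norm_num at h1
    have h2 : orderOf ((q ^ 2 : ℕ) : ZMod l) ∣ l - 1 := ZMod.orderOf_dvd_card_sub_one hne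
    rw [h1] at h2
    have := hl.two_le
    omega
  have hN0 : P * P6 ≠ 0 := Nat.mul_ne_zero (by omega) (by omega)
  have hd := exact T2 hN0 (eq2 hq1) hl hl3 (hlP.mul_right _) hW hreg (c := 4) (m := 6) (by norm_num) (by omega)
    (mod2 hq1 hlP) (ord_B hq1 hl hlP) (by norm_num)
  rw [hg] at hd
  subst hd
  have hidx := index_eq T2 hN0 (eq2 hq1)
  rw [hg] at hidx
  have hidx' : (Subgroup.zpowers x02).index = M2 q := Nat.eq_of_mul_eq_mul_left (by norm_num) hidx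
  -- `3 ∣ P6`
  have h36 : 3 ∣ P6 := by
    rcases (Nat.Prime.dvd_mul Nat.prime_three).1 T2.hdN with h | h
    · exact absurd rfl ((primeB hq1 Nat.prime_three h).2.1)
    · exact h
  obtain ⟨m6, hm6⟩ := h36
  have hm60 : m6 ≠ 0 := by rintro rfl; omega
  have hordx : orderOf x02 = m6 * P := by
    rw [T2.hord, hm6, show P * (3 * m6) = 3 * (m6 * P) by ring, Nat.mul_div_cancel_left _ (by norm_num)]
  -- the element
  set x2 := x02 ^ m6 with hx2
  have hx2o : orderOf x2 = P := by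
    rw [hx2, orderOf_pow_of_dvd hm60 (by rw [hordx]; exact Dvd.intro _ rfl), hordx,
      Nat.mul_div_cancel_left _ (Nat.pos_of_ne_zero hm60)]
  have hx2m : x2 ∈ Subgroup.zpowers x02 := Subgroup.npow_mem_zpowers x02 m6
  have hp3' : (3 : F) ≠ 0 := by
    intro h
    have hcF : CharP F p := RingHom.charP f f.injective p
    have h1 : ((3 : ℕ) : F) = 0 := by exact_mod_cast h
    rw [CharP.cast_eq_zero_iff F p] at h1
    exact hp3 ((Nat.prime_dvd_prime_iff_eq hpF.1 Nat.prime_three).1 h1)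
  refine ⟨x2, ?_, ?_, ?_⟩
  · rw [hx2o]
    intro h
    exact absurd rfl ((primeB hq1 Nat.prime_three h).2.1)
  · refine Frob.noNorm_of_frob (ι := chevE6.Idx) (k := F) (twistedE6 F q).subtype (Subgroup.subtype_injective _)
      Nat.prime_three (by exact_mod_cast hp3') ?_ ?_
    · rw [hx2o]
      have : Fintype.card chevE6.Idx = 78 := by decide
      omega
    · intro s hs hs1 y hy hys
      -- a prime divisor of the order of `s`
      have hso : orderOf s ∣ P := by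
        rw [← hx2o]
        exact orderOf_dvd_of_mem_zpowers hs
      have hs0 : orderOf s ≠ 1 := by rwa [Ne, orderOf_eq_one_iff]
      obtain ⟨r, hr, hrs⟩ := Nat.exists_prime_and_dvd hs0
      obtain ⟨hW', hreg'⟩ := regB hq1 hr (hrs.trans hso)
      have hsm : s ∈ Subgroup.zpowers x02 := (Subgroup.zpowers_le.2 hx2m) hs
      have hT := (T2.hcent s hsm r hr hrs hW' hreg').1
      have hyT : y ∈ Subgroup.zpowers x02 := by
        rw [← hT, Subgroup.mem_centralizer_singleton_iff]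
        exact hys
      have h3 : 3 ∣ m6 * P := by
        rw [← hordx, ← hy]
        exact orderOf_dvd_of_mem_zpowers hyT
      apply not_nine_B hq1
      rw [← hP, ← hP6, hm6]
      obtain ⟨a, ha⟩ := h3
      exact ⟨a, by rw [show P * (3 * m6) = 3 * (m6 * P) by ring, ha]; ring⟩
  · intro y' hy' i hcomm
    refine eq_one_of_comm hqe T1 T2 hl hW hreg ?_ (gcd_AB hq1) ?_ hx2m (by rw [hx2o]; exact hlP) hy' hcomm
    · rw [hidx']
      intro h
      have h1 := mod2 hq1 hlP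
      have h2 : l ∣ 12 := (Nat.modEq_zero_iff_dvd).1 (h1.symm.trans (Nat.modEq_zero_iff_dvd.2 h))
      have := Nat.le_of_dvd (by norm_num) h2
      omega
    · have h3 := gcd_three hg
      rw [count h3 TwEA.card_three, count h3 TwEB.card_three]
      norm_num

/-- **The second element**, `q = 2`. -/
theorem mainC (hk : LocFin k) (hqe : q = p ^ e) (hq2 : q = 2)
    (T1 : Tor6 f hq hF cE p e TwEA.B (q ^ 6 - q ^ 3 + 1) (Nat.gcd 3 (q + 1)) z t u x0) :
    ∃ x2 : ↥(twistedE6 F q), ¬ 3 ∣ orderOf x2 ∧ NoNorm 3 x2 ∧ ∀ y' : ↥(twistedE6 F q), orderOf y' = orderOf x2 →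
      ∀ i : ℤ, (z * t ^ i * z⁻¹) * embT f hq hF y' = embT f hq hF y' * (z * t ^ i * z⁻¹) → t ^ i = 1 := by
  classical
  subst hq2
  obtain ⟨d2, z2, t2, u2, x02, T2⟩ := torC f hq hF hk hqe rfl
  obtain ⟨hW, hreg⟩ := regC
  have h17 : Nat.Prime 17 := by norm_num
  have hM : 2 ^ 36 * (2 ^ 2 - 1) * (2 ^ 5 + 1) * (2 ^ 6 - 1) * (2 ^ 8 - 1) * (2 ^ 9 + 1) * (2 ^ 12 - 1) =
      51 * (2 ^ 36 * 3 * 33 * 63 * 5 * 513 * 4095) := by norm_num
  have hd := exact T2 (by norm_num) hM h17 (by norm_num) (by norm_num) hW hreg (c := 14) (m := 4) (by norm_num)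
    (by norm_num) (by decide) (by
      have h4 : (((2 : ℕ) ^ 2 : ℕ) : ZMod 17) = 4 := by decide
      rw [h4]
      apply orderOf_eq_of_pow_and_pow_div_prime (by norm_num) (by decide)
      intro p hp hpd
      have : p = 2 := by
        have h5 : p ∣ 2 ^ 2 := hpd
        exact (Nat.prime_dvd_prime_iff_eq hp Nat.prime_two).1 (hp.dvd_of_dvd_pow h5)
      subst this
      decide) (by norm_num)
  have hd' : d2 = 3 := by rw [hd]; rfl
  subst hd'
  have hidx := index_eq T2 (by norm_num) hM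
  have hidx' : (Subgroup.zpowers x02).index = 2 ^ 36 * 3 * 33 * 63 * 5 * 513 * 4095 :=
    Nat.eq_of_mul_eq_mul_left (by norm_num) hidx
  have hord : orderOf x02 = 17 := by rw [T2.hord]
  have hT := (T2.hcent x02 (Subgroup.mem_zpowers _) 17 h17 (by rw [hord]) hW hreg).1
  refine ⟨x02, by rw [hord]; norm_num, ?_, ?_⟩
  · intro Q hQ hn
    by_contra hQ1
    have h3f : Fact (Nat.Prime 3) := ⟨Nat.prime_three⟩
    have hC : ∀ v ∈ Q, v * x02 = x02 * v → v = 1 := by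
      intro v hv hvx
      by_contra hv1
      obtain ⟨m, hm⟩ := hQ ⟨v, hv⟩
      have hm' : v ^ 3 ^ m = 1 := congrArg Subtype.val hm
      obtain ⟨j, -, hj⟩ := (Nat.dvd_prime_pow Nat.prime_three).1 (orderOf_dvd_of_pow_eq_one hm')
      have hvT : v ∈ Subgroup.zpowers x02 := by
        rw [← hT, Subgroup.mem_centralizer_singleton_iff]
        exact hvx
      have h1 : orderOf v ∣ 17 := by rw [← hord]; exact orderOf_dvd_of_mem_zpowers hvT
      have hj0 : j ≠ 0 := by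
        rintro rfl
        rw [pow_zero, orderOf_eq_one_iff] at hj
        exact hv1 hj
      rw [hj] at h1
      have h2 : 3 ∣ 17 := (dvd_pow_self 3 hj0).trans h1
      norm_num at h2
    have h1 := OwnChar.card_modEq_one h17 hord hn hC
    obtain ⟨n, hn'⟩ := IsPGroup.iff_card.1 hQ
    rw [hn'] at h1
    have h2 : 16 ∣ n := by
      have h3 : ((3 : ℕ) : ZMod 17) ^ n = 1 := by
        have h4 := (ZMod.natCast_eq_natCast_iff (3 ^ n) 1 17).2 h1
        push_cast at h4 ⊢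
        exact h4
      have h5 : orderOf ((3 : ℕ) : ZMod 17) = 16 := by
        apply orderOf_eq_of_pow_and_pow_div_prime (by norm_num) (by decide)
        intro p hp hpd
        have : p = 2 := by
          have h5 : p ∣ 2 ^ 4 := hpd
          exact (Nat.prime_dvd_prime_iff_eq hp Nat.prime_two).1 (hp.dvd_of_dvd_pow h5)
        subst this
        decide
      rw [← h5]
      exact orderOf_dvd_of_pow_eq_one h3
    have hn0 : n ≠ 0 := by
      rintro rfl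
      rw [pow_zero] at hn'
      exact hQ1 (Subgroup.card_eq_one.1 hn')
    have h3 : 3 ^ 16 ∣ Nat.card ↥(twistedE6 F 2) := by
      obtain ⟨a, rfl⟩ := h2
      have ha : 1 ≤ a := by
        rcases Nat.eq_zero_or_pos a with rfl | h
        · simp at hn0
        · exact h
      refine dvd_trans (pow_dvd_pow 3 (by omega : 16 ≤ 16 * a)) ?_
      rw [← hn']
      exact Subgroup.card_subgroup_dvd_card Q
    have h4 := S1066.result hq hF
    have h5 : 3 ^ 16 ∣ 2 ^ 36 * (2 ^ 2 - 1) * (2 ^ 5 + 1) * (2 ^ 6 - 1) * (2 ^ 8 - 1) * (2 ^ 9 + 1) * (2 ^ 12 - 1) := by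
      rw [← h4]
      exact h3.mul_left _
    revert h5
    norm_num
  · intro y' hy' i hcomm
    refine eq_one_of_comm hqe T1 T2 h17 hW hreg ?_ (by norm_num) ?_ (Subgroup.mem_zpowers _) (by rw [hord]) hy' hcomm
    · rw [hidx']
      norm_num
    · have h3 : (3 : ℤ) ∣ ((2 : ℕ) : ℤ) + 1 := by norm_num
      rw [count h3 TwEA.card_three, count h3 TwEC.card_three]
      norm_num

end

end Cfsg.Agent.H83.RowE6C
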